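import Cfsg.Agent.Unitary.Generation
import Cfsg.Agent.Unitary.CharTwo

/-!
# Equivariant families of involutions over the transvections of `SU_n(2)`

`tau` is the transvection attached to an isotropic vector of the Hermitian space over the field
with four elements.  A `Lift` is a group mapped to `SU_n(2)` together with an involution over
each transvection, equivariant for conjugation and subject to the relation of a totally
isotropic line.
-/

set_option autoImplicit false
set_option linter.unusedSectionVars false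

namespace Cfsg.Agent.Coprime.UTT

open Cfsg Cfsg.Agent.Unitary

variable {F : Type*} [Field F] [Fintype F] {n : ℕ}

local notation "⟪" u ", " v "⟫" => hermForm n F 2 u v

/-- An isotropic vector. -/
abbrev Iso (v : Fin n → F) : Prop := ⟪v, v⟫ = 0

section Field

variable (hF : Fintype.card F = 2 ^ 2)

include hF

theorem two_eq : (2 : F) = 0 := by simpa using natCast_q_eq_zero hF

theorem add_self_eq (x : F) : x + x = 0 := by linear_combination x * two_eq hF

theorem neg_eq (x : F) : -x = x := by linear_combination -(x * two_eq hF)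

theorem sub_eq (x y : F) : x - y = x + y := by rw [sub_eq_add_neg, neg_eq hF]

theorem vadd_self (x : Fin n → F) : x + x = 0 := funext fun i => add_self_eq hF (x i)

theorem vneg_eq (x : Fin n → F) : -x = x := funext fun i => neg_eq hF (x i)

theorem vsub_eq (x y : Fin n → F) : x - y = x + y := by rw [sub_eq_add_neg, vneg_eq hF]

theorem veq_of_add {x y : Fin n → F} (h : x + y = 0) : x = y := by
  rw [← vsub_eq hF] at h
  exact sub_eq_zero.1 h

theorem pow_three {x : F} (hx : x ≠ 0) : x ^ 3 = 1 := by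
  have h := FiniteField.pow_card_sub_one_eq_one x hx
  rwa [hF] at h

theorem mul_sq {x : F} (hx : x ≠ 0) : x * x ^ 2 = 1 := by rw [← pow_three hF hx]; ring

theorem sq_sq (x : F) : (x ^ 2) ^ 2 = x := pow_q_q hF x

theorem inv_eq_sq {x : F} (hx : x ≠ 0) : x⁻¹ = x ^ 2 :=
  inv_eq_of_mul_eq_one_right (mul_sq hF hx)

theorem fixed_cases {t : F} (ht : t ^ 2 = t) : t = 0 ∨ t = 1 := by
  rcases eq_or_ne t 0 with h | h
  · exact Or.inl h
  · refine Or.inr (mul_left_cancel₀ h ?_)
    rw [← pow_two, ht, mul_one]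

theorem exists_omega : ∃ w : F, w ^ 2 + w + 1 = 0 := by
  obtain ⟨x, hx⟩ := exists_trace_eq hF (a := (1 : F)) (one_pow _)
  exact ⟨x, by linear_combination hx + two_eq hF⟩

theorem omega_cases {w : F} (hw : w ^ 2 + w + 1 = 0) (x : F) :
    x = 0 ∨ x = 1 ∨ x = w ∨ x = w ^ 2 := by
  by_cases hx : x = 0
  · exact Or.inl hx
  have h3 := pow_three hF hx
  have : (x - 1) * ((x - w) * (x - w ^ 2)) = 0 := by
    linear_combination h3 + (-x ^ 2 + w * x - w + 1) * hw
  simp only [mul_eq_zero, sub_eq_zero] at this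
  tauto

theorem herm_self_cases (u : Fin n → F) : ⟪u, u⟫ = 0 ∨ ⟪u, u⟫ = 1 :=
  fixed_cases hF (herm_self_fixed hF u)

theorem Iso.smul {v : Fin n → F} (hv : Iso v) (a : F) : Iso (a • v) := by
  show ⟪a • v, a • v⟫ = 0
  rw [herm_self_smul, hv, mul_zero]

theorem iso_zero : Iso (0 : Fin n → F) := herm_zero_left 0

theorem Iso.add_orth {u v : Fin n → F} (hu : Iso u) (hv : Iso v) (h : ⟪u, v⟫ = 0) :
    Iso (u + v) := by
  show ⟪u + v, u + v⟫ = 0
  rw [herm_self_add hF, hu, hv, h]
  simp

theorem Iso.add_one {u v : Fin n → F} (hu : Iso u) (hv : Iso v) (h : ⟪u, v⟫ = 1) :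
    Iso (u + v) := by
  show ⟪u + v, u + v⟫ = 0
  simp [herm_self_add hF, hu, hv, h, add_self_eq hF]

end Field

open Classical in
/-- The transvection of an isotropic vector, the identity otherwise. -/
noncomputable def tau (hF : Fintype.card F = 2 ^ 2) (v : Fin n → F) : SU n F 2 :=
  if h : Iso v then tv hF h (one_skew_two hF) else 1

section Tau

variable (hF : Fintype.card F = 2 ^ 2)

theorem tau_eq {v : Fin n → F} (hv : Iso v) : tau hF v = tv hF hv (one_skew_two hF) := by
  rw [tau, dif_pos hv]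

theorem ap_tau {v : Fin n → F} (hv : Iso v) (x : Fin n → F) :
    ap (tau hF v) x = x + ⟪x, v⟫ • v := by
  rw [tau_eq hF hv, ap_tv, one_mul]

theorem tau_mul_self {v : Fin n → F} (hv : Iso v) : tau hF v * tau hF v = 1 := by
  rw [tau_eq hF hv]
  exact tv_mul_self_two hF hv

theorem tau_conj (g : SU n F 2) {v : Fin n → F} (hv : Iso v) :
    g * tau hF v * g⁻¹ = tau hF (ap g v) := by
  have hv' : Iso (ap g v) := by show hermForm n F 2 _ _ = 0; rw [herm_ap]; exact hv
  rw [tau_eq hF hv, tau_eq hF hv', conj_tv hF g hv _ hv']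

theorem tau_ne_one {v : Fin n → F} (hv : Iso v) (hv0 : v ≠ 0) : tau hF v ≠ 1 := by
  intro h
  obtain ⟨z, -, -, hz⟩ := exists_partner hF (nondeg_top hF) Submodule.mem_top hv0 hv
  have h1 := ap_tau hF hv z
  rw [h, ap_one, hz, one_smul, left_eq_add] at h1
  exact hv0 h1

theorem tau_injective {u v : Fin n → F} (hu : Iso u) (hv : Iso v) (hv0 : v ≠ 0)
    (h : tau hF u = tau hF v) : ∃ a : F, v = a • u := by
  obtain ⟨z, -, -, hz⟩ := exists_partner hF (nondeg_top hF) Submodule.mem_top hv0 hv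
  have h1 := ap_tau hF hv z
  rw [← h, ap_tau hF hu, hz, one_smul, add_right_inj] at h1
  exact ⟨_, h1.symm⟩

theorem tau_smul {v : Fin n → F} (hv : Iso v) {a : F} (ha : a ≠ 0) :
    tau hF (a • v) = tau hF v := by
  rw [tau_eq hF hv, tau_eq hF (hv.smul hF a)]
  exact tv_smul_two hF hv _ (mul_sq hF ha)

theorem closure_tau (hn : 4 ≤ n) :
    Subgroup.closure (tau hF '' {v : Fin n → F | Iso v}) = ⊤ := by
  rw [eq_top_iff, ← tgroup_eq_top hF (Or.inl hn), tgroup, Subgroup.closure_le]
  rintro A ⟨v, c, hv, hA⟩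
  by_cases hvc : v = 0 ∨ c = 0
  · have : A = 1 := by
      refine ap_ext fun x => ?_
      rw [ap_def, hA, unitaryTransvection_mulVec, ap_one]
      rcases hvc with h | h <;> simp [h]
    rw [this]
    exact one_mem _
  push Not at hvc
  obtain ⟨z, -, -, hz⟩ := exists_partner hF (nondeg_top hF) Submodule.mem_top hvc.1 hv
  have hvz : ⟪v, z⟫ = 1 := by rw [← herm_swap hF z v, hz, one_pow]
  have h := herm_ap A z z
  simp only [ap_def, hA, unitaryTransvection_mulVec, herm_add_left, herm_add_right hF,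
    herm_smul_left, herm_smul_right, hv, hz, hvz, mul_one, mul_zero, add_zero] at h
  have hc : c + c ^ 2 = 0 := by linear_combination h
  obtain rfl := eq_one_of_skew_two hF hc hvc.2
  refine Subgroup.subset_closure ⟨v, hv, ap_ext fun x => ?_⟩
  rw [ap_tau hF hv, ap_def A, hA, unitaryTransvection_mulVec, one_mul]

end Tau

/-- A group over `SU_n(2)` with an equivariant family of involutions over the transvections. -/
structure Lift (hF : Fintype.card F = 2 ^ 2) (E : Type*) [Group E] where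
  /-- the projection -/
  π : E →* SU n F 2
  /-- the family -/
  d : (Fin n → F) → E
  d_zero : d 0 = 1
  map_d : ∀ v, Iso v → π (d v) = tau hF v
  mul_self : ∀ v, Iso v → d v * d v = 1
  smul : ∀ v, Iso v → ∀ a : F, a ≠ 0 → d (a • v) = d v
  conj : ∀ g v, Iso v → g * d v * g⁻¹ = d (ap (π g) v)
  line : ∀ u v, Iso u → Iso v → ⟪u, v⟫ = 0 → u ≠ 0 → (∀ a : F, v ≠ a • u) →
    ∀ w : F, w ^ 2 + w + 1 = 0 →
      d u * d v * d (u + v) * d (u + w • v) * d (u + w ^ 2 • v) = 1
  ker_two : ∀ g, π g = 1 → ∃ k : ℕ, g ^ 2 ^ k = 1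

namespace Lift

variable {hF : Fintype.card F = 2 ^ 2} {E : Type*} [Group E] (L : Lift (n := n) hF E)

theorem inv_d {v : Fin n → F} (hv : Iso v) : (L.d v)⁻¹ = L.d v :=
  inv_eq_of_mul_eq_one_right (L.mul_self v hv)

theorem ap_d {v : Fin n → F} (hv : Iso v) (x : Fin n → F) :
    ap (L.π (L.d v)) x = x + ⟪x, v⟫ • v := by rw [L.map_d v hv, ap_tau hF hv]

theorem d_conj {u v : Fin n → F} (hu : Iso u) (hv : Iso v) :
    L.d u * L.d v * L.d u = L.d (v + ⟪v, u⟫ • u) := by
  nth_rw 2 [← L.inv_d hu]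
  rw [L.conj _ v hv, L.ap_d hu]

theorem d_commute {u v : Fin n → F} (hu : Iso u) (hv : Iso v) (h : ⟪u, v⟫ = 0) :
    Commute (L.d u) (L.d v) := by
  have h' : ⟪v, u⟫ = 0 := (herm_eq_zero_symm hF).1 h
  have := L.d_conj hu hv
  rw [h', zero_smul, add_zero] at this
  show L.d u * L.d v = L.d v * L.d u
  calc L.d u * L.d v = L.d u * L.d v * (L.d u * L.d u) := by rw [L.mul_self u hu, mul_one]
    _ = L.d v * L.d u := by rw [← mul_assoc, this]

/-- Kernel elements commute with the family. -/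
theorem ker_commute {g : E} (hg : L.π g = 1) {v : Fin n → F} (hv : Iso v) :
    Commute g (L.d v) := by
  have := L.conj g v hv
  rw [hg, ap_one] at this
  exact (mul_inv_eq_iff_eq_mul).1 this

/-- The subgroup generated by the members over the isotropic vectors of `U`. -/
def grp (U : Submodule F (Fin n → F)) : Subgroup E :=
  Subgroup.closure (L.d '' {v | v ∈ U ∧ Iso v})

theorem d_mem {U : Submodule F (Fin n → F)} {v : Fin n → F} (hv : v ∈ U) (hi : Iso v) :
    L.d v ∈ L.grp U := Subgroup.subset_closure ⟨v, ⟨hv, hi⟩, rfl⟩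

theorem grp_mono {U U' : Submodule F (Fin n → F)} (h : U ≤ U') : L.grp U ≤ L.grp U' :=
  Subgroup.closure_mono (Set.image_mono fun _ hv => ⟨h hv.1, hv.2⟩)

theorem grp_fix {U : Submodule F (Fin n → F)} {g : E} (hg : g ∈ L.grp U) :
    L.π g ∈ fixer n F 2 (perp 2 (U : Set (Fin n → F))) := by
  have : L.grp U ≤ (fixer n F 2 (perp 2 (U : Set (Fin n → F)))).comap L.π := by
    rw [grp, Subgroup.closure_le]
    rintro _ ⟨v, ⟨hv, hi⟩, rfl⟩
    show L.π (L.d v) ∈ fixer n F 2 (perp 2 (U : Set (Fin n → F)) : Set (Fin n → F))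
    rw [L.map_d v hi, tau_eq hF hi]
    exact tv_mem_fixer hF hi _ fun s hs => hs v hv
  exact this hg

theorem grp_map {U : Submodule F (Fin n → F)} (hU : Nondeg 2 U) {g : E} (hg : g ∈ L.grp U)
    {x : Fin n → F} (hx : x ∈ U) : ap (L.π g) x ∈ U :=
  ap_mem_of_fixer hF hU (L.grp_fix hg) hx

theorem iso_map (g : E) {v : Fin n → F} (hv : Iso v) : Iso (ap (L.π g) v) := by
  show hermForm n F 2 _ _ = 0
  rw [herm_ap]
  exact hv

/-- Every element of `SU_n(2)` is the image of an element generated by the family. -/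
theorem exists_preimage (hn : 4 ≤ n) (a : SU n F 2) : ∃ g ∈ L.grp ⊤, L.π g = a := by
  have h : (L.grp ⊤).map L.π = ⊤ := by
    rw [eq_top_iff, ← closure_tau hF hn, Subgroup.closure_le]
    rintro _ ⟨v, hv, rfl⟩
    exact ⟨L.d v, L.d_mem Submodule.mem_top hv, L.map_d v hv⟩
  have := h.ge (Subgroup.mem_top a)
  exact this

/-- The injectivity statement for a subspace. -/
def Good (U : Submodule F (Fin n → F)) : Prop :=
  ∀ g ∈ L.grp U, L.π g = 1 → g = 1

/-- The generation statement for a subspace. -/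
def Gen (U : Submodule F (Fin n → F)) : Prop :=
  ∀ a ∈ fixer n F 2 (perp 2 (U : Set (Fin n → F))), ∃ g ∈ L.grp U, L.π g = a

theorem exists_step {U : Submodule F (Fin n → F)} {x y : Fin n → F} (hxU : x ∈ U) (hyU : y ∈ U)
    (hx : Iso x) (hy : Iso y) (h : ⟪x, y⟫ = 1) : ∃ g ∈ L.grp U, ap (L.π g) x = y := by
  have hz : Iso (x + y) := hx.add_one hF hy h
  refine ⟨L.d (x + y), L.d_mem (U.add_mem hxU hyU) hz, ?_⟩
  rw [L.ap_d hz, herm_add_right hF, hx, h, zero_add, one_smul, ← add_assoc, vadd_self hF, zero_add]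

/-- Transitivity on the non-zero isotropic vectors of a subspace of dimension at least three. -/
theorem exists_move {U : Submodule F (Fin n → F)} (hU : Nondeg 2 U)
    (h3 : 3 ≤ Module.finrank F U) {x y : Fin n → F} (hxU : x ∈ U) (hyU : y ∈ U) (hx : Iso x)
    (hy : Iso y) (hx0 : x ≠ 0) (hy0 : y ≠ 0) : ∃ g ∈ L.grp U, ap (L.π g) x = y := by
  have two : ∀ {x y : Fin n → F}, x ∈ U → y ∈ U → Iso x → Iso y →
      LinearIndependent F ![x, y] → ∃ g ∈ L.grp U, ap (L.π g) x = y := by
    intro x y hxU hyU hx hy hind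
    obtain ⟨z, hzU, hz, hzx, hzy⟩ :=
      exists_iso_pair hF hU h3 hxU hyU hx hy hind (a := (1 : F)) (b := 1) one_ne_zero
    obtain ⟨g, hg, hgx⟩ := L.exists_step hxU hzU hx hz (by rw [← herm_swap hF z x, hzx, one_pow])
    obtain ⟨g', hg', hgz⟩ := L.exists_step hzU hyU hz hy hzy
    exact ⟨g' * g, mul_mem hg' hg, by rw [map_mul, ap_mul, hgx, hgz]⟩
  by_cases hind : LinearIndependent F ![x, y]
  · exact two hxU hyU hx hy hind
  · rw [LinearIndependent.pair_iff' hx0] at hind
    push Not at hind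
    obtain ⟨a, rfl⟩ := hind
    obtain ⟨v, hvU, hv, hvx⟩ := exists_partner hF hU hxU hx0 hx
    have ha : a ≠ 0 := by rintro rfl; exact hy0 (zero_smul F x)
    obtain ⟨g, hg, hgx⟩ := two hxU hvU hx hv (indep_pair hF hx (by
      rw [← herm_swap hF v x, hvx, one_pow]; exact one_ne_zero))
    obtain ⟨g', hg', hgv⟩ := two hvU hyU hv hy (indep_pair hF hv (by
      rw [herm_smul_right, hvx, mul_one]; exact (pow_q_eq_zero_iff hF).not.2 ha))
    exact ⟨g' * g, mul_mem hg' hg, by rw [map_mul, ap_mul, hgx, hgv]⟩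

end Lift

end Cfsg.Agent.Coprime.UTT
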