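import Cfsg.Agent.Coprime.UTT.Basic

/-!
# The generating classes of 3-transpositions of `SU_n(2)`

Every generating class of 3-transpositions of `SU_n(2)` (`n ≥ 4`) is the class of transvections.
For an involution `e` the map `N = e + 1` gives the Hermitian form `(x, y) ↦ ⟪N x, y⟫`; unless
`e` is a transvection it contains two orthogonal hyperbolic pairs `(a, A)`, `(b, B)` on which
`e` acts as `A ↦ A + a`, `B ↦ B + b`, and then a product of two conjugates of `e` has order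
larger than three.
-/

set_option autoImplicit false
set_option linter.unusedSectionVars false

namespace Cfsg.Agent.Coprime.UTT

open Cfsg Cfsg.Agent.Unitary

variable {F : Type*} [Field F] [Fintype F] {n : ℕ}

local notation "⟪" u ", " v "⟫" => hermForm n F 2 u v

/-- Two orthogonal moved hyperbolic pairs contradict the 3-transposition condition. -/
theorem pow_ne_one_of_pairs (hF : Fintype.card F = 2 ^ 2) (e : SU n F 2) {a A b B : Fin n → F}
    (iA : Iso A) (iB : Iso B) (hea : ap e a = a) (heA : ap e A = A + a)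
    (heb : ap e b = b) (heB : ap e B = B + b) (iaa : Iso a) (aA : ⟪a, A⟫ = 1) (bB : ⟪b, B⟫ = 1)
    (hab : ⟪a, b⟫ = 0) (haB : ⟪a, B⟫ = 0) (hAb : ⟪A, b⟫ = 0) (hAB : ⟪A, B⟫ = 0) :
    (e * (tau hF B * tau hF (A + B) * e * (tau hF B * tau hF (A + B))⁻¹)) ^ 2 ≠ 1 ∧
      (e * (tau hF B * tau hF (A + B) * e * (tau hF B * tau hF (A + B))⁻¹)) ^ 3 ≠ 1 := by
  have iS : Iso (A + B) := iA.add_orth hF iB hAB
  have bA : ⟪b, A⟫ = 0 := (herm_eq_zero_symm hF).1 hAb
  have Aa : ⟪A, a⟫ = 1 := by rw [← herm_swap hF a A, aA, one_pow]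
  have ba : ⟪b, a⟫ = 0 := (herm_eq_zero_symm hF).1 hab
  have Ba : ⟪B, a⟫ = 0 := (herm_eq_zero_symm hF).1 haB
  have BA : ⟪B, A⟫ = 0 := (herm_eq_zero_symm hF).1 hAB
  let v : F → F → F → F → (Fin n → F) := fun p q r u => p • a + q • A + r • b + u • B
  have key : ∀ p q r u p' q' r' u' : F, p = p' → q = q' → r = r' → u = u' →
      v p q r u = v p' q' r' u' := by rintro p q r u p' q' r' u' rfl rfl rfl rfl; rfl
  have ht : ∀ p q r u, ap (tau hF B) (v p q r u) = v p q r (u + r) := by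
    intro p q r u
    rw [ap_tau hF iB]
    simp only [v, herm_add_left, herm_smul_left, haB, hAB, bB, show ⟪B, B⟫ = 0 from iB, mul_zero,
      mul_one, add_zero, zero_add]
    module
  have hs : ∀ p q r u, ap (tau hF (A + B)) (v p q r u) = v p (q + (p + r)) r (u + (p + r)) := by
    intro p q r u
    rw [ap_tau hF iS]
    simp only [v, herm_add_left, herm_add_right hF, herm_smul_left, aA, haB, hAB, bA, bB, BA,
      show ⟪A, A⟫ = 0 from iA, show ⟪B, B⟫ = 0 from iB, mul_zero, mul_one, add_zero, zero_add]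
    module
  have he : ∀ p q r u, ap e (v p q r u) = v (p + q) q (r + u) u := by
    intro p q r u
    simp only [v, ap_add, ap_smul, hea, heA, heb, heB]
    module
  have hf : ∀ p q r u,
      ap (e * (tau hF B * tau hF (A + B) * e * (tau hF B * tau hF (A + B))⁻¹)) (v p q r u) =
        v (q + u) (r + u) q (p + q + r + u) := by
    intro p q r u
    rw [mul_inv_rev, inv_eq_of_mul_eq_one_right (tau_mul_self hF iB),
      inv_eq_of_mul_eq_one_right (tau_mul_self hF iS)]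
    simp only [ap_mul, ht, hs, he]
    apply key <;> grind [two_eq hF]
  have ha : a = v 1 0 0 0 := by simp [v]
  revert hf
  generalize e * (tau hF B * tau hF (A + B) * e * (tau hF B * tau hF (A + B))⁻¹) = f
  intro hf
  refine ⟨fun h => ?_, fun h => ?_⟩
  · have h1 := congrArg (ap · a) h
    simp only [pow_two, ap_mul, ap_one] at h1
    rw [ha, hf, hf] at h1
    have h2 := congrArg (fun x => ⟪x, v 1 0 0 0⟫) h1
    rw [← ha] at h2
    simp [v, herm_add_left, show ⟪a, a⟫ = 0 from iaa, Aa, Ba] at h2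
  · have h1 := congrArg (ap · a) h
    simp only [pow_succ, pow_zero, one_mul, ap_mul, ap_one] at h1
    rw [ha, hf, hf, hf] at h1
    have h2 := congrArg (fun x => ⟪x, v 1 0 0 0⟫) h1
    rw [← ha] at h2
    simp [v, herm_add_left, herm_smul_left, show ⟪a, a⟫ = 0 from iaa, Aa, ba, Ba] at h2

/-- An involution is a transvection or moves two orthogonal hyperbolic pairs. -/
theorem transvection_or_pairs (hF : Fintype.card F = 2 ^ 2) {e : SU n F 2} (he : e * e = 1)
    (he1 : e ≠ 1) :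
    (∃ a, Iso a ∧ a ≠ 0 ∧ e = tau hF a) ∨
      ∃ a A b B : Fin n → F, Iso a ∧ Iso A ∧ Iso b ∧ Iso B ∧
        ap e a = a ∧ ap e A = A + a ∧ ap e b = b ∧ ap e B = B + b ∧
        ⟪a, A⟫ = 1 ∧ ⟪b, B⟫ = 1 ∧ ⟪a, b⟫ = 0 ∧ ⟪a, B⟫ = 0 ∧ ⟪A, b⟫ = 0 ∧ ⟪A, B⟫ = 0 := by
  have ee : ∀ x, ap e (ap e x) = x := fun x => by rw [← ap_mul, he, ap_one]
  obtain ⟨N, hN⟩ : ∃ N : (Fin n → F) → (Fin n → F), ∀ x, N x = ap e x + x := ⟨_, fun _ => rfl⟩
  have hadd : ∀ x y, N (x + y) = N x + N y := fun x y => by simp only [hN, ap_add]; abel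
  have hsmul : ∀ (c : F) x, N (c • x) = c • N x := fun c x => by
    simp only [hN, ap_smul, smul_add]
  have hNN : ∀ x, N (N x) = 0 := fun x => by
    rw [hN (N x), hN x, ap_add, ee, add_comm x (ap e x), vadd_self hF]
  have hfix : ∀ x, ap e (N x) = N x := fun x => veq_of_add hF (by rw [← hN, hNN])
  have heN : ∀ x, ap e x = x + N x := fun x => by
    rw [hN, add_comm x, add_assoc, vadd_self hF, add_zero]
  have hadj : ∀ x y, ⟪N x, y⟫ = ⟪x, N y⟫ := fun x y => by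
    rw [hN, hN, herm_add_left, herm_add_right hF]
    congr 1
    rw [← herm_ap e (ap e x) y, ee]
  have hself : ∀ x, ⟪N x, x⟫ = 0 ∨ ⟪N x, x⟫ = 1 := fun x => fixed_cases hF (by
    rw [herm_swap hF, ← hadj])
  have polar : ∀ S : Submodule F (Fin n → F), (∀ x ∈ S, ⟪N x, x⟫ = 0) →
      ∀ x ∈ S, ∀ y ∈ S, ⟪N x, y⟫ = 0 := by
    intro S h x hx y hy
    obtain ⟨w, hw⟩ := exists_omega hF
    have h1 := h _ (S.add_mem hx hy)
    have h2 := h _ (S.add_mem hx (S.smul_mem w hy))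
    rw [hadd, herm_add_left, herm_add_right hF, herm_add_right hF, h x hx, h y hy] at h1
    rw [hadd, hsmul, herm_add_left, herm_add_right hF, herm_add_right hF, herm_smul_left,
      herm_smul_right, herm_smul_left, herm_smul_right, h x hx, h y hy] at h2
    linear_combination h2 - w * h1 - ⟪N x, y⟫ * hw + (1 + w) * ⟪N x, y⟫ * two_eq hF
  by_cases h0 : ∀ x, ⟪N x, x⟫ = 0
  · refine absurd (ap_ext fun x => ?_) he1
    rw [ap_one, heN, eq_zero_of_forall_right hF fun y =>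
      polar ⊤ (fun x _ => h0 x) x Submodule.mem_top y Submodule.mem_top, add_zero]
  push Not at h0
  obtain ⟨A0, hA0'⟩ := h0
  have hA0 : ⟪N A0, A0⟫ = 1 := (hself A0).resolve_left hA0'
  obtain ⟨a, ha⟩ : ∃ a, a = N A0 := ⟨_, rfl⟩
  have iaa : Iso a := by show ⟪a, a⟫ = 0; rw [ha, hadj, hNN, herm_zero_right hF]
  have ea : ap e a = a := by rw [ha, hfix]
  have Na : N a = 0 := by rw [ha, hNN]
  have A0a : ⟪A0, a⟫ = 1 := by rw [ha, ← hadj, hA0]
  obtain ⟨α, hα⟩ := exists_trace_eq hF (a := ⟪A0, A0⟫) (herm_self_fixed hF A0)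
  obtain ⟨A, hA⟩ : ∃ A, A = A0 + α • a := ⟨_, rfl⟩
  have aA : ⟪a, A⟫ = 1 := by
    rw [hA, herm_add_right hF, herm_smul_right, show ⟪a, a⟫ = 0 from iaa, mul_zero, add_zero, ha]
    exact hA0
  have iA : Iso A := by
    show ⟪A, A⟫ = 0
    rw [hA, herm_self_add hF, herm_self_smul, show ⟪a, a⟫ = 0 from iaa, herm_smul_right, A0a,
      mul_one, mul_zero, add_zero, sq_sq hF, add_comm (α ^ 2), hα, add_self_eq hF]
  have NA : N A = a := by rw [hA, hadd, hsmul, Na, smul_zero, add_zero, ha]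
  have eA : ap e A = A + a := by rw [heN, NA]
  have a0 : a ≠ 0 := by
    intro h
    rw [h, herm_zero_left] at aA
    exact zero_ne_one aA
  by_cases h1 : ∀ x, ⟪x, a⟫ = 0 → ⟪N x, x⟫ = 0
  · refine Or.inl ⟨a, iaa, a0, ap_ext fun x => ?_⟩
    rw [ap_tau hF iaa, heN, add_right_inj]
    have Aa : ⟪A, a⟫ = 1 := by rw [← herm_swap hF a A, aA, one_pow]
    have hy : ∀ y, ⟪y, a⟫ = 0 → N y = 0 := by
      intro y hy
      refine eq_zero_of_forall_right hF fun z => ?_
      have hz : z = (z + ⟪z, a⟫ • A) + ⟪z, a⟫ • A := by rw [add_assoc, vadd_self hF, add_zero]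
      rw [hz, herm_add_right hF, herm_smul_right, hadj y A, NA, hy, mul_zero, add_zero]
      refine polar (perp 2 {a}) (fun x hx => h1 x (mem_perp_singleton.1 hx)) y
        (mem_perp_singleton.2 hy) _ (mem_perp_singleton.2 ?_)
      rw [herm_add_left, herm_smul_left, Aa, mul_one, add_self_eq hF]
    have h2 := hy (x + ⟪x, a⟫ • A) (by rw [herm_add_left, herm_smul_left, Aa, mul_one, add_self_eq hF])
    rw [hadd, hsmul, NA] at h2
    exact veq_of_add hF h2
  push Not at h1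
  obtain ⟨B0, B0a, hB0'⟩ := h1
  have hB0 : ⟪N B0, B0⟫ = 1 := (hself B0).resolve_left hB0'
  obtain ⟨b, hb⟩ : ∃ b, b = N B0 := ⟨_, rfl⟩
  have ibb : Iso b := by show ⟪b, b⟫ = 0; rw [hb, hadj, hNN, herm_zero_right hF]
  have Nb : N b = 0 := by rw [hb, hNN]
  have ba : ⟪b, a⟫ = 0 := by rw [hb, hadj, Na, herm_zero_right hF]
  have ab : ⟪a, b⟫ = 0 := (herm_eq_zero_symm hF).1 ba
  have bA : ⟪b, A⟫ = 0 := by rw [hb, hadj, NA, B0a]
  obtain ⟨B1, hB1⟩ : ∃ B1, B1 = B0 + ⟪B0, A⟫ • a := ⟨_, rfl⟩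
  obtain ⟨δ, hδ⟩ := exists_trace_eq hF (a := ⟪B1, B1⟫) (herm_self_fixed hF B1)
  obtain ⟨B, hB⟩ : ∃ B, B = B1 + δ • b := ⟨_, rfl⟩
  have B1b : ⟪B1, b⟫ = 1 := by
    rw [hB1, herm_add_left, herm_smul_left, ab, mul_zero, add_zero, hb, ← hadj, hB0]
  have iB : Iso B := by
    show ⟪B, B⟫ = 0
    rw [hB, herm_self_add hF, herm_self_smul, show ⟪b, b⟫ = 0 from ibb, herm_smul_right, B1b,
      mul_one, mul_zero, add_zero, sq_sq hF, add_comm (δ ^ 2), hδ, add_self_eq hF]
  have NB : N B = b := by rw [hB, hB1, hadd, hadd, hsmul, hsmul, Na, Nb, smul_zero, smul_zero,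
    add_zero, add_zero, hb]
  have Ba : ⟪B, a⟫ = 0 := by
    rw [hB, hB1, herm_add_left, herm_add_left, herm_smul_left, herm_smul_left, B0a, ba,
      show ⟪a, a⟫ = 0 from iaa, mul_zero, mul_zero, add_zero, add_zero]
  have BA : ⟪B, A⟫ = 0 := by
    rw [hB, hB1, herm_add_left, herm_add_left, herm_smul_left, herm_smul_left, bA, aA, mul_one,
      mul_zero, add_zero, add_self_eq hF]
  have bB : ⟪b, B⟫ = 1 := by
    rw [hB, herm_add_right hF, herm_smul_right, show ⟪b, b⟫ = 0 from ibb, mul_zero, add_zero,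
      ← herm_swap hF B1 b, B1b, one_pow]
  exact Or.inr ⟨a, A, b, B, iaa, iA, ibb, iB, ea, eA, by rw [hb, hfix], by rw [heN, NB], aA, bB, ab,
    (herm_eq_zero_symm hF).1 Ba, (herm_eq_zero_symm hF).1 bA, (herm_eq_zero_symm hF).1 BA⟩

/-- The transvections form the only generating class of 3-transpositions. -/
theorem classify (hF : Fintype.card F = 2 ^ 2) (hn : 4 ≤ n) {D : Set (SU n F 2)}
    (hD : IsThreeTranspositionClass D) : D = tau hF '' {v | Iso v ∧ v ≠ 0} := by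
  obtain ⟨⟨h2, h23⟩, ⟨d₀, hd₀, hcl⟩, hgen⟩ := hD
  have hconj : ∀ g : SU n F 2, ∀ d ∈ D, g * d * g⁻¹ ∈ D := by
    intro g d hd
    rw [hcl] at hd ⊢
    obtain ⟨c, hc⟩ := isConj_iff.1 hd
    exact isConj_iff.2 ⟨g * c, by rw [← hc]; group⟩
  have htr : ∀ d ∈ D, ∃ v, Iso v ∧ v ≠ 0 ∧ d = tau hF v := by
    intro d hd
    have ho := h2 d hd
    have he : d * d = 1 := by
      have := pow_orderOf_eq_one d
      rwa [ho, pow_two] at this
    have h1 : d ≠ 1 := by
      intro h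
      rw [h, orderOf_one] at ho
      omega
    refine (transvection_or_pairs hF he h1).resolve_right ?_
    rintro ⟨a, A, b, B, ia, iA, ib, iB, ea, eA, eb, eB, aA, bB, ab, aB, Ab, AB⟩
    obtain ⟨n2, n3⟩ := pow_ne_one_of_pairs hF d iA iB ea eA eb eB ia aA bB ab aB Ab AB
    exact (h23 d hd _ (hconj _ d hd)).elim n2 n3
  obtain ⟨v₀, i₀, v₀0, hv₀⟩ := htr d₀ hd₀
  refine Set.Subset.antisymm (fun d hd => ?_) ?_
  · obtain ⟨v, iv, v0, rfl⟩ := htr d hd
    exact ⟨v, ⟨iv, v0⟩, rfl⟩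
  · rintro _ ⟨v, ⟨iv, v0⟩, rfl⟩
    obtain ⟨g, -, hg⟩ := exists_map_isotropic hF (nondeg_top hF)
      (by rw [finrank_top, Module.finrank_fin_fun]; omega) Submodule.mem_top Submodule.mem_top
      i₀ iv v₀0 v0
    rw [← hg, ← tau_conj hF g i₀, ← hv₀]
    exact hconj g d₀ hd₀

end Cfsg.Agent.Coprime.UTT
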