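import Cfsg.Agent.Coprime.UTT.Fixed

/-!
# The kernel over `SU_5(2)` is complemented

Lifts of the elements `ζ_c` can be chosen coherently (commuting for orthogonal points), the
kernel permutes the coherent choices simply transitively, and the stabiliser of one choice is
a complement.
-/

set_option autoImplicit false
set_option linter.unusedSectionVars false

namespace Cfsg.Agent.Coprime.UTT

open Cfsg Cfsg.Agent.Unitary

variable {F : Type*} [Field F] [Fintype F] {n : ℕ}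

local notation "⟪" u ", " v "⟫" => hermForm n F 2 u v

/-- Two unit vectors orthogonal to the same two non-orthogonal unit vectors: if they are not
orthogonal, the second lies in the span of the other three. -/
theorem mem_span_of_common (hF : Fintype.card F = 2 ^ 2) (hn : n = 5) {a b e f : Fin n → F}
    (ha : ⟪a, a⟫ = 1) (hb : ⟪b, b⟫ = 1) (he : ⟪e, e⟫ = 1) (hf : ⟪f, f⟫ = 1)
    (hab : ⟪a, b⟫ ≠ 0) (hne : ∀ t : F, b ≠ t • a) (hea : ⟪e, a⟫ = 0) (heb : ⟪e, b⟫ = 0)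
    (hfa : ⟪f, a⟫ = 0) (hfb : ⟪f, b⟫ = 0) (hef : ⟪e, f⟫ ≠ 0) :
    ∃ s t u : F, f = s • a + t • b + u • e := by
  have hae : ⟪a, e⟫ = 0 := (herm_eq_zero_symm hF).1 hea
  have hbe : ⟪b, e⟫ = 0 := (herm_eq_zero_symm hF).1 heb
  have hba : ⟪b, a⟫ = ⟪a, b⟫ ^ 2 := (herm_swap hF a b).symm
  have hfe : ⟪f, e⟫ = ⟪e, f⟫ ^ 2 := (herm_swap hF e f).symm
  obtain ⟨r, hr⟩ : ∃ r, r = b + ⟪b, a⟫ • a := ⟨_, rfl⟩
  obtain ⟨r', hr'⟩ : ∃ r', r' = e + ⟪e, f⟫ • f := ⟨_, rfl⟩
  have hra : ⟪r, a⟫ = 0 := by rw [hr, herm_add_left, herm_smul_left, ha, mul_one, add_self_eq hF]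
  have hrb : ⟪r, b⟫ = 0 := by
    rw [hr, herm_add_left, herm_smul_left, hb, hba, mul_comm, mul_sq hF hab, add_self_eq hF]
  have hr'e : ⟪r', e⟫ = 0 := by
    rw [hr', herm_add_left, herm_smul_left, he, hfe, mul_sq hF hef, add_self_eq hF]
  have hr'f : ⟪r', f⟫ = 0 := by rw [hr', herm_add_left, herm_smul_left, hf, mul_one, add_self_eq hF]
  have hr'a : ⟪r', a⟫ = 0 := by rw [hr', herm_add_left, herm_smul_left, hea, hfa, mul_zero, add_zero]
  have hr'b : ⟪r', b⟫ = 0 := by rw [hr', herm_add_left, herm_smul_left, heb, hfb, mul_zero, add_zero]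
  have ir : Iso r := by
    show hermForm n F 2 r r = 0
    nth_rw 2 [hr]
    rw [herm_add_right hF, herm_smul_right, hrb, hra, mul_zero, add_zero]
  have ir' : Iso r' := by
    show hermForm n F 2 r' r' = 0
    nth_rw 2 [hr']
    rw [herm_add_right hF, herm_smul_right, hr'e, hr'f, mul_zero, add_zero]
  have hr'r : ⟪r', r⟫ = 0 := by
    rw [hr, herm_add_right hF, herm_smul_right, hr'b, hr'a, mul_zero, add_zero]
  have her : ⟪e, r⟫ = 0 := by rw [hr, herm_add_right hF, herm_smul_right, heb, hea, mul_zero, add_zero]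
  have her' : ⟪e, r'⟫ = 0 := (herm_eq_zero_symm hF).1 hr'e
  have hr0 : r ≠ 0 := fun h => hne ⟪b, a⟫ (veq_of_add hF (hr ▸ h))
  suffices hμ : ∃ μ : F, r' = μ • r by
    obtain ⟨μ, hμ⟩ := hμ
    refine ⟨⟪e, f⟫ ^ 2 * (μ * ⟪b, a⟫), ⟪e, f⟫ ^ 2 * μ, ⟪e, f⟫ ^ 2, ?_⟩
    have h1 : ⟪e, f⟫ • f = r' + e := by rw [hr', add_right_comm, vadd_self hF, zero_add]
    have h2 : f = ⟪e, f⟫ ^ 2 • (r' + e) := by
      rw [← h1, smul_smul, mul_comm, mul_sq hF hef, one_smul]
    generalize ⟪e, f⟫ = α at h2 ⊢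
    rw [h2, hμ, hr]
    module
  by_contra hcon
  push Not at hcon
  -- `r, r'` span a totally isotropic line of the four-space `a^⊥`, containing `e`
  have hd := unitPerp_finrank hF ha
  obtain ⟨q, P⟩ := exists_pair hF (unitPerp_nondeg hF ha) (mem_perp_singleton.2 hra) hr0 ir
  have hd2 := P.comp_finrank hF
  obtain ⟨g, hg, hr'g⟩ := P.split hF (mem_perp_singleton.2 hr'a)
  obtain ⟨k, hk, hek⟩ := P.split hF (mem_perp_singleton.2 hea)
  rw [hr'r, zero_smul, add_zero] at hr'g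
  rw [her, zero_smul, add_zero] at hek
  obtain ⟨hgU, hgr, hgq⟩ := (P.mem_comp hF).1 hg
  obtain ⟨hkU, hkr, hkq⟩ := (P.mem_comp hF).1 hk
  have hrg : ⟪r, g⟫ = 0 := (herm_eq_zero_symm hF).1 hgr
  have hrk : ⟪r, k⟫ = 0 := (herm_eq_zero_symm hF).1 hkr
  have hrr : ⟪r, r⟫ = 0 := ir
  have ig : Iso g := by
    show hermForm n F 2 g g = 0
    have h : ⟪r', r'⟫ = 0 := ir'
    rw [hr'g] at h
    simpa [herm_add_left, herm_add_right hF, herm_smul_left, herm_smul_right, hrr, hrg, hgr] using h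
  have g0 : g ≠ 0 := fun h => hcon _ (by rw [hr'g, h, add_zero])
  obtain ⟨g', P'⟩ := exists_pair hF (P.comp_nondeg hF) hg g0 ig
  have hd3 := P'.comp_finrank hF
  have hbot : comp (comp (perp 2 ({a} : Set (Fin n → F))) r q) g g' = ⊥ :=
    Submodule.finrank_eq_zero.1 (by omega)
  obtain ⟨z, hz, hkz⟩ := P'.split hF hk
  rw [hbot, Submodule.mem_bot] at hz
  have hkg : ⟪k, g⟫ = 0 := by
    have h := her'
    rw [hr'g, hek] at h
    simpa [herm_add_left, herm_add_right hF, herm_smul_left, herm_smul_right, hrr, hrg, hkr] using h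
  rw [hkg, zero_smul, add_zero, hz, add_zero] at hkz
  have h := he
  rw [hek, hkz] at h
  simp [herm_add_left, herm_add_right hF, herm_smul_left, herm_smul_right, hrr, hrg, hgr,
    show ⟪g, g⟫ = 0 from ig] at h

namespace Ext

variable {hF : Fintype.card F = 2 ^ 2} {G : Type*} [Group G] [Finite G] (X : Ext (n := n) hF G)

/-- The standing hypotheses on a complement problem. -/
structure Good5 (w : F) : Prop where
  five : n = 5
  comm : ∀ a b, X.π a = 1 → X.π b = 1 → Commute a b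
  sq : ∀ a, X.π a = 1 → a * a = 1
  omega : w ^ 2 + w + 1 = 0

variable {w : F}

open Classical in
/-- A chosen element `ζ_c`. -/
noncomputable def zeta (w : F) (c : Fin n → F) : SU n F 2 :=
  if h : ∃ a : SU n F 2, IsZeta w c a then h.choose else 1

/-- A lift lying over `ζ_c`. -/
def Over (w : F) (c : Fin n → F) (x : G) : Prop := IsZeta w c (X.π x)

variable {X} (H : X.Good5 w) {c c' : Fin n → F} {x y z : G}

include H

theorem over_ker (hc : ⟪c, c⟫ = 1) (hz : X.Over w c z) {k : G} (hk : X.π k = 1)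
    (hzk : Commute z k) : k = 1 :=
  X.ker_zeta_trivial H.five H.comm H.sq H.omega hc hz hk hzk

/-- Every element over `ζ_c` is conjugate to `z` by the kernel. -/
theorem exists_conj (hc : ⟪c, c⟫ = 1) (hz : X.Over w c z) (hx : X.π x = X.π z) :
    ∃ v, X.π v = 1 ∧ v * z * v⁻¹ = x := by
  let f : {v : G // X.π v = 1} → {v : G // X.π v = 1} := fun v =>
    ⟨(v : G) * z * (v : G)⁻¹ * z⁻¹, by simp [v.2]⟩
  have hinj : Function.Injective f := by
    intro a b hab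
    have h : (a : G) * z * (a : G)⁻¹ * z⁻¹ = (b : G) * z * (b : G)⁻¹ * z⁻¹ := congrArg Subtype.val hab
    have h' := mul_right_cancel h
    have h1 : X.π ((b : G)⁻¹ * a) = 1 := by simp [a.2, b.2]
    have h2 := over_ker H hc hz h1 (by
      show z * ((b : G)⁻¹ * a) = (b : G)⁻¹ * a * z
      calc z * ((b : G)⁻¹ * a) = (b : G)⁻¹ * ((b : G) * z * (b : G)⁻¹) * a := by group
        _ = (b : G)⁻¹ * ((a : G) * z * (a : G)⁻¹) * a := by rw [h']
        _ = _ := by group)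
    exact Subtype.ext (inv_mul_eq_one.1 h2).symm
  obtain ⟨v, hv⟩ := (Finite.injective_iff_surjective.1 hinj) ⟨x * z⁻¹, by simp [hx]⟩
  exact ⟨v, v.2, mul_right_cancel (congrArg Subtype.val hv)⟩

theorem exists_lift (hc : ⟪c, c⟫ = 1) (hz : X.Over w c z) {a : SU n F 2}
    (ha : Commute a (X.π z)) : ∃ g, X.π g = a ∧ Commute g z := by
  obtain ⟨g, rfl⟩ := X.surj a
  obtain ⟨v, hv, hvz⟩ := exists_conj H hc hz (x := g * z * g⁻¹) (by
    rw [map_mul, map_mul, map_inv, ha.eq, mul_inv_cancel_right])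
  refine ⟨v⁻¹ * g, by simp [hv], ?_⟩
  show v⁻¹ * g * z = z * (v⁻¹ * g)
  calc v⁻¹ * g * z = v⁻¹ * (g * z * g⁻¹) * g := by group
    _ = v⁻¹ * (v * z * v⁻¹) * g := by rw [hvz]
    _ = _ := by group

theorem unique_lift (hc : ⟪c, c⟫ = 1) (hz : X.Over w c z) (hxy : X.π x = X.π y)
    (hx : Commute x z) (hy : Commute y z) : x = y :=
  inv_mul_eq_one.1 (over_ker H hc hz (k := x⁻¹ * y) (by simp [hxy])
    (hx.inv_left.mul_left hy).symm)

theorem commute_lifts (hc : ⟪c, c⟫ = 1) (hz : X.Over w c z) (h : Commute (X.π x) (X.π y))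
    (hx : Commute x z) (hy : Commute y z) : Commute x y :=
  unique_lift H hc hz (x := x * y) (y := y * x) (by rw [map_mul, map_mul, h.eq]) (hx.mul_left hy)
    (hy.mul_left hx)

theorem isZeta_zeta (hc : ⟪c, c⟫ = 1) : IsZeta w c (zeta (n := n) w c) := by
  have h := exists_zeta hF H.five H.omega hc
  rw [zeta, dif_pos h]
  exact h.choose_spec

theorem zeta_commute (hc : ⟪c, c⟫ = 1) (hc' : ⟪c', c'⟫ = 1) (h : ⟪c, c'⟫ = 0) :
    Commute (zeta (n := n) w c) (zeta w c') :=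
  (isZeta_zeta H hc).commute hF hc (isZeta_zeta H hc') h

theorem over_eq (hc : ⟪c, c⟫ = 1) (hz : X.π z = zeta w c) : X.Over w c z := by
  show IsZeta w c (X.π z)
  rw [hz]
  exact isZeta_zeta H hc

variable (X) in
/-- A coherent choice of lifts of the `ζ_c`. -/
def Coherent (s : (Fin n → F) → G) : Prop :=
  (∀ c, ⟪c, c⟫ = 1 → X.π (s c) = zeta w c) ∧
    ∀ a b, ⟪a, a⟫ = 1 → ⟪b, b⟫ = 1 → ⟪a, b⟫ = 0 → Commute (s a) (s b)

theorem coherent_unique {s s' : (Fin n → F) → G} (hs : Coherent (w := w) X s)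
    (hs' : Coherent (w := w) X s') {c₀ : Fin n → F} (hc₀ : ⟪c₀, c₀⟫ = 1) (h0 : s c₀ = s' c₀)
    (hc : ⟪c, c⟫ = 1) : s c = s' c := by
  have step : ∀ a b, ⟪a, a⟫ = 1 → ⟪b, b⟫ = 1 → ⟪a, b⟫ = 0 → s a = s' a → s b = s' b := by
    intro a b ha hb hab h
    refine unique_lift H ha (over_eq H ha (hs.1 a ha)) ((hs.1 b hb).trans (hs'.1 b hb).symm)
      (hs.2 a b ha hb hab).symm ?_
    rw [h]
    exact (hs'.2 a b ha hb hab).symm
  obtain ⟨e, he, hec, he0⟩ := exists_unit_two hF (by have := H.five; omega) hc c₀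
  exact step e c he hc hec (step c₀ e hc₀ he ((herm_eq_zero_symm hF).1 he0) h0)

theorem exists_coherent : ∃ s, Coherent (w := w) X s := by
  classical
  have h5 : 5 ≤ n := by have := H.five; omega
  obtain ⟨c₀, hc₀⟩ := exists_unit hF h5
  obtain ⟨z₀, hz₀⟩ := X.surj (zeta w c₀)
  have o₀ := over_eq H hc₀ hz₀
  -- the lifts over the neighbours of `c₀`
  have hy : ∀ c, ∃ y, ⟪c, c⟫ = 1 → ⟪c, c₀⟫ = 0 → X.π y = zeta w c ∧ Commute y z₀ := by
    intro c
    by_cases h : ⟪c, c⟫ = 1 ∧ ⟪c, c₀⟫ = 0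
    · obtain ⟨y, h1, h2⟩ := exists_lift H hc₀ o₀ (a := zeta w c)
        (by rw [hz₀]; exact zeta_commute H h.1 hc₀ h.2)
      exact ⟨y, fun _ _ => ⟨h1, h2⟩⟩
    · exact ⟨1, fun a b => absurd ⟨a, b⟩ h⟩
  choose y hy using hy
  have key : ∀ c, ⟪c, c⟫ = 1 → ∃ x, X.π x = zeta w c ∧
      ∀ e, ⟪e, e⟫ = 1 → ⟪e, c₀⟫ = 0 → ⟪e, c⟫ = 0 → Commute x (y e) := by
    intro c hc
    by_cases hcc : ⟪c, c₀⟫ = 0
    · refine ⟨y c, (hy c hc hcc).1, fun e he he0 hec => commute_lifts H hc₀ o₀ ?_ (hy c hc hcc).2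
        (hy e he he0).2⟩
      rw [(hy c hc hcc).1, (hy e he he0).1]
      exact zeta_commute H hc he ((herm_eq_zero_symm hF).1 hec)
    obtain ⟨e₁, he₁, h1c, h10⟩ := exists_unit_two hF h5 hc c₀
    obtain ⟨hπ₁, hcm₁⟩ := hy e₁ he₁ h10
    by_cases hpr : ∃ t : F, c = t • c₀
    · obtain ⟨t, rfl⟩ := hpr
      have ht : t ≠ 0 := fun h => unit_ne_zero hc (by rw [h, zero_smul])
      refine ⟨z₀, ?_, fun e he he0 _ => (hy e he he0).2.symm⟩
      rw [hz₀]
      refine IsZeta.unique hF hc ?_ (isZeta_zeta H hc)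
      obtain ⟨h1, h2⟩ := isZeta_zeta (X := X) H hc₀
      refine ⟨by rw [ap_smul, h1, smul_comm], fun x hx => h2 x ?_⟩
      rw [herm_smul_right, mul_eq_zero] at hx
      exact hx.resolve_left (pow_ne_zero 2 ht)
    push Not at hpr
    have hstep : ∀ (e e' : Fin n → F) (x : G), ⟪e, e⟫ = 1 → ⟪e', e'⟫ = 1 → ⟪e, c₀⟫ = 0 →
        ⟪e', c₀⟫ = 0 → ⟪e', c⟫ = 0 → ⟪e, e'⟫ = 0 → X.π x = zeta w c → Commute x (y e) →
        Commute x (y e') := by
      intro e e' x he he' he0 he'0 he'c hee hx hxe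
      obtain ⟨hπe, hce⟩ := hy e he he0
      obtain ⟨hπe', hce'⟩ := hy e' he' he'0
      refine commute_lifts H he (over_eq H he hπe) ?_ hxe
        (commute_lifts H hc₀ o₀ ?_ hce' hce)
      · rw [hx, hπe']
        exact zeta_commute H hc he' ((herm_eq_zero_symm hF).1 he'c)
      · rw [hπe', hπe]
        exact zeta_commute H he' he ((herm_eq_zero_symm hF).1 hee)
    obtain ⟨x, hx, hx1⟩ := exists_lift H he₁ (over_eq H he₁ hπ₁) (a := zeta w c)
      (by rw [hπ₁]; exact zeta_commute H hc he₁ ((herm_eq_zero_symm hF).1 h1c))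
    refine ⟨x, hx, fun e he he0 hec => ?_⟩
    by_cases hee : ⟪e₁, e⟫ = 0
    · exact hstep e₁ e x he₁ he h10 he0 hec hee hx hx1
    obtain ⟨e', he', hz0, hz1, hzc⟩ :=
      exists_unit_three hF h5 hc₀ he₁ ((herm_eq_zero_symm hF).1 h10) c
    obtain ⟨s, t, u, hstu⟩ := mem_span_of_common hF H.five hc₀ hc he₁ he
      (fun h => hcc ((herm_eq_zero_symm hF).1 h)) hpr h10 h1c he0 hec hee
    have he'e : ⟪e', e⟫ = 0 := by
      rw [hstu]
      simp [herm_add_right hF, herm_smul_right, hz0, hzc, hz1]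
    exact hstep e' e x he' he hz0 he0 hec he'e hx
      (hstep e₁ e' x he₁ he' h10 hz0 hzc ((herm_eq_zero_symm hF).1 hz1) hx hx1)
  have key' : ∀ c, ∃ x, ⟪c, c⟫ = 1 → X.π x = zeta w c ∧
      ∀ e, ⟪e, e⟫ = 1 → ⟪e, c₀⟫ = 0 → ⟪e, c⟫ = 0 → Commute x (y e) := by
    intro c
    by_cases h : ⟪c, c⟫ = 1
    · obtain ⟨x, hx⟩ := key c h
      exact ⟨x, fun _ => hx⟩
    · exact ⟨1, fun a => absurd a h⟩
  choose s hs using key'
  refine ⟨s, fun c hc => (hs c hc).1, fun a b ha hb hab => ?_⟩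
  have near : ∀ c, ⟪c, c⟫ = 1 → ⟪c, c₀⟫ = 0 → s c = y c := by
    intro c hc hcc
    obtain ⟨e, he, hec, he0⟩ := exists_unit_two hF h5 hc c₀
    obtain ⟨hπe, hce⟩ := hy e he he0
    obtain ⟨hπc, hcc'⟩ := hy c hc hcc
    refine unique_lift H he (over_eq H he hπe) ((hs c hc).1.trans hπc.symm)
      ((hs c hc).2 e he he0 hec) (commute_lifts H hc₀ o₀ ?_ hcc' hce)
    rw [hπc, hπe]
    exact zeta_commute H hc he ((herm_eq_zero_symm hF).1 hec)
  by_cases ha0 : ⟪a, c₀⟫ = 0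
  · rw [near a ha ha0]
    exact ((hs b hb).2 a ha ha0 hab).symm
  by_cases hb0 : ⟪b, c₀⟫ = 0
  · rw [near b hb hb0]
    exact (hs a ha).2 b hb hb0 ((herm_eq_zero_symm hF).1 hab)
  obtain ⟨e, he, hea, heb, he0⟩ := exists_unit_three hF h5 ha hb hab c₀
  refine commute_lifts H he (over_eq H he (hy e he he0).1) ?_ ((hs a ha).2 e he he0 hea)
    ((hs b hb).2 e he he0 heb)
  rw [(hs a ha).1, (hs b hb).1]
  exact zeta_commute H ha hb hab

theorem map_unit (g : G) (hc : ⟪c, c⟫ = 1) : ⟪ap (X.π g) c, ap (X.π g) c⟫ = 1 := by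
  rw [herm_ap, hc]

theorem zeta_map (g : G) (hc : ⟪c, c⟫ = 1) :
    X.π g * zeta w c * (X.π g)⁻¹ = zeta w (ap (X.π g) c) :=
  ((isZeta_zeta H hc).conj hF (X.π g)).unique hF (map_unit H g hc)
    (isZeta_zeta H (map_unit H g hc))

/-- The kernel has a complement. -/
theorem exists_complement : ∃ K : Subgroup G, X.π.ker.IsComplement' K := by
  obtain ⟨s, hs⟩ := exists_coherent H
  obtain ⟨c₀, hc₀⟩ := exists_unit hF (by have := H.five; omega : 5 ≤ n)
  let K : Subgroup G :=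
    { carrier := {g | ∀ c, ⟪c, c⟫ = 1 → g * s c * g⁻¹ = s (ap (X.π g) c)}
      one_mem' := fun c _ => by simp
      mul_mem' := fun {a b} ha hb c hc => by
        rw [map_mul, ap_mul, ← ha _ (map_unit H b hc), ← hb c hc]
        group
      inv_mem' := fun {a} ha c hc => by
        have h := ha (ap (X.π a)⁻¹ c) (by rw [herm_ap, hc])
        rw [ap_ap_inv] at h
        rw [map_inv, ← h]
        group }
  have hK : ∀ g, g ∈ K ↔ ∀ c, ⟪c, c⟫ = 1 → g * s c * g⁻¹ = s (ap (X.π g) c) := fun _ => Iff.rfl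
  refine ⟨K, Subgroup.isComplement'_of_disjoint_and_mul_eq_univ ?_ ?_⟩
  · rw [disjoint_iff, Subgroup.eq_bot_iff_forall]
    rintro g ⟨hg, hgK⟩
    have hg' : X.π g = 1 := hg
    have h := (hK g).1 hgK c₀ hc₀
    rw [hg', ap_one] at h
    exact over_ker H hc₀ (over_eq H hc₀ (hs.1 c₀ hc₀)) hg' (mul_inv_eq_iff_eq_mul.1 h).symm
  · refine Set.eq_univ_of_forall fun g => ?_
    obtain ⟨s', hs'e⟩ : ∃ s' : (Fin n → F) → G, s' = fun c => g * s (ap (X.π g)⁻¹ c) * g⁻¹ :=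
      ⟨_, rfl⟩
    have hu : ∀ c, ⟪c, c⟫ = 1 → ⟪ap (X.π g)⁻¹ c, ap (X.π g)⁻¹ c⟫ = 1 := fun c hc => by
      rw [herm_ap, hc]
    have hs' : Coherent (w := w) X s' := by
      subst hs'e
      refine ⟨fun c hc => ?_, fun a b ha hb hab => ?_⟩
      · simp only [map_mul, map_inv, hs.1 _ (hu c hc)]
        rw [zeta_map H g (hu c hc), ap_ap_inv]
      · exact (Commute.conj_iff g).2 (hs.2 _ _ (hu a ha) (hu b hb) (by rw [herm_ap, hab]))
    obtain ⟨v, hv, hvs⟩ := exists_conj H hc₀ (over_eq H hc₀ (hs.1 c₀ hc₀)) (x := s' c₀)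
      ((hs'.1 c₀ hc₀).trans (hs.1 c₀ hc₀).symm)
    have hv' : Coherent (w := w) X (fun c => v * s c * v⁻¹) :=
      ⟨fun c hc => by simp [hv, hs.1 c hc],
        fun a b ha hb hab => (Commute.conj_iff v).2 (hs.2 a b ha hb hab)⟩
    refine Set.mem_mul.2 ⟨v, hv, v⁻¹ * g, (hK _).2 fun c hc => ?_, mul_inv_cancel_left v g⟩
    have h := coherent_unique H hs' hv' hc₀ hvs.symm (map_unit H g hc)
    subst hs'e
    simp only [ap_inv_ap] at h
    rw [map_mul, map_inv, hv, inv_one, one_mul]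
    calc v⁻¹ * g * s c * (v⁻¹ * g)⁻¹ = v⁻¹ * (g * s c * g⁻¹) * v := by group
      _ = s (ap (X.π g) c) := by rw [h]; group

end Ext

end Cfsg.Agent.Coprime.UTT
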