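import Cfsg.Agent.Coprime.UTT.Step
import Mathlib.GroupTheory.Sylow

/-!
# Injectivity of lifts: the transfer step
-/

set_option autoImplicit false
set_option linter.unusedSectionVars false

namespace Cfsg.Agent.Coprime.UTT

open Cfsg Cfsg.Agent.Unitary

variable {F : Type*} [Field F] [Fintype F] {n : ℕ}

local notation "⟪" u ", " v "⟫" => hermForm n F 2 u v

/-- A two-group of isometries supported on `U` fixes a non-zero isotropic vector of `U`. -/
theorem exists_fixed_iso (hF : Fintype.card F = 2 ^ 2) {U : Submodule F (Fin n → F)}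
    (hU : Nondeg 2 U) (h2 : 2 ≤ Module.finrank F U) {R : Type*} [Group R] [Finite R]
    (hR : IsPGroup 2 R) (ρ : R →* SU n F 2)
    (hρ : ∀ r, ρ r ∈ fixer n F 2 (perp 2 (U : Set (Fin n → F)))) :
    ∃ p ∈ U, p ≠ 0 ∧ Iso p ∧ ∀ r, ap (ρ r) p = p := by
  have fix : ∀ W : Submodule F (Fin n → F), 1 ≤ Module.finrank F W →
      (∀ r, ∀ x ∈ W, ap (ρ r) x ∈ W) → ∃ x ∈ W, x ≠ 0 ∧ ∀ r, ap (ρ r) x = x := by
    intro W hW hinv
    let _ : MulAction R W :=
      { smul := fun r x => ⟨ap (ρ r) x, hinv r x x.2⟩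
        one_smul := fun x => Subtype.ext (show ap (ρ 1) (x : Fin n → F) = x by rw [map_one, ap_one])
        mul_smul := fun r s x => Subtype.ext
          (show ap (ρ (r * s)) (x : Fin n → F) = ap (ρ r) (ap (ρ s) x) by rw [map_mul, ap_mul]) }
    have : Fact (Nat.Prime 2) := ⟨Nat.prime_two⟩
    have hcard : 2 ∣ Nat.card W := by
      classical
      rw [Nat.card_eq_fintype_card, Module.card_eq_pow_finrank (K := F), hF]
      exact dvd_pow (dvd_pow_self 2 two_ne_zero) (by omega)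
    obtain ⟨x, hx, hne⟩ := hR.exists_fixed_point_of_prime_dvd_card_of_fixed_point W hcard (a := 0)
      (fun r => Subtype.ext (ap_zero _))
    exact ⟨x, x.2, fun h => hne (Subtype.ext h.symm), fun r => congrArg Subtype.val (hx r)⟩
  obtain ⟨x, hxU, hx0, hx⟩ := fix U (by omega) fun r y hy => ap_mem_of_fixer hF hU (hρ r) hy
  rcases herm_self_cases hF x with h | h
  · exact ⟨x, hxU, hx0, h, hx⟩
  · let P := Submodule.span F ({x} : Set (Fin n → F))
    have hP : Nondeg 2 P := by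
      intro u hu hu'
      obtain ⟨a, rfl⟩ := Submodule.mem_span_singleton.1 hu
      have := hu' x (Submodule.mem_span_singleton_self x)
      rw [herm_smul_left, h, mul_one] at this
      rw [this, zero_smul]
    have hPU : P ≤ U := (Submodule.span_singleton_le_iff_mem _ _).2 hxU
    have hd := inf_perp_finrank hF hP hPU
    rw [finrank_span_singleton hx0] at hd
    obtain ⟨y, hy, hy0, hyf⟩ := fix (U ⊓ perp 2 (P : Set (Fin n → F))) (by omega) (by
      rintro r y ⟨hy1, hy2⟩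
      refine ⟨ap_mem_of_fixer hF hU (hρ r) hy1, ?_⟩
      rw [perp_span hF] at hy2 ⊢
      rw [SetLike.mem_coe, mem_perp_singleton] at hy2 ⊢
      nth_rw 1 [← hx r]
      rw [herm_ap, hy2])
    have hyx : ⟪y, x⟫ = 0 := hy.2 x (Submodule.mem_span_singleton_self x)
    rcases herm_self_cases hF y with h' | h'
    · exact ⟨y, hy.1, hy0, h', hyf⟩
    · refine ⟨y + x, U.add_mem hy.1 hxU, ?_, ?_, fun r => by rw [ap_add, hyf, hx]⟩
      · intro h0
        have := congrArg (fun z => hermForm n F 2 z x) h0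
        simp [herm_add_left, hyx, h] at this
      · show hermForm n F 2 (y + x) (y + x) = 0
        simp [herm_self_add hF, h, h', hyx, add_self_eq hF]

/-- An extended pair from an isotropic vector. -/
theorem exists_pair (hF : Fintype.card F = 2 ^ 2) {U : Submodule F (Fin n → F)} (hU : Nondeg 2 U)
    {p : Fin n → F} (hp : p ∈ U) (hp0 : p ≠ 0) (hi : Iso p) : ∃ q, Pair U p q := by
  obtain ⟨q, hq, hiq, hqp⟩ := exists_partner hF hU hp hp0 hi
  exact ⟨q, hU, hp, hq, hi, hiq, by rw [← herm_swap hF q p, hqp, one_pow], hqp⟩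

/-- A totally isotropic line in a subspace of dimension at least four. -/
theorem exists_line (hF : Fintype.card F = 2 ^ 2) {U : Submodule F (Fin n → F)} (hU : Nondeg 2 U) (h4 : 4 ≤ Module.finrank F U) :
    ∃ u ∈ U, ∃ v ∈ U, Iso u ∧ Iso v ∧ ⟪u, v⟫ = 0 ∧ u ≠ 0 ∧ ∀ a : F, v ≠ a • u := by
  obtain ⟨p, hp, hp0, hi⟩ := exists_isotropic hF hU (by omega)
  obtain ⟨q, P⟩ := exists_pair hF hU hp hp0 hi
  have hd := P.comp_finrank hF
  obtain ⟨v, hv, hv0, hiv⟩ := exists_isotropic hF (P.comp_nondeg hF) (by omega)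
  obtain ⟨hvU, hvp, hvq⟩ := (P.mem_comp hF).1 hv
  refine ⟨p, hp, v, hvU, hi, hiv, (herm_eq_zero_symm hF).1 hvp, hp0, fun a ha => hv0 ?_⟩
  subst ha
  rw [herm_smul_left, P.pq, mul_one] at hvq
  rw [hvq, zero_smul]

namespace Lift

variable {hF : Fintype.card F = 2 ^ 2} {E : Type*} [Group E] (L : Lift (n := n) hF E)
  {U : Submodule F (Fin n → F)}

/-- The transfer step. -/
theorem good_step [Finite E] (hn : 4 ≤ n) (hU : Nondeg 2 U) (h4 : 4 ≤ Module.finrank F U)
    (hsmall : ∀ p q, Pair U p q → HasScaling U p q ∧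
      ∃ W, W ≤ U ∧ comp U p q ≤ W ∧ L.Gen W ∧ L.Good W) : L.Good U := by
  have : Fact (Nat.Prime 2) := ⟨Nat.prime_two⟩
  let Q : Sylow 2 (L.grp U) := default
  let ρ : (Q : Subgroup (L.grp U)) →* SU n F 2 :=
    (L.π.comp (L.grp U).subtype).comp (Q : Subgroup (L.grp U)).subtype
  obtain ⟨p, hpU, hp0, hpi, hfix⟩ :=
    exists_fixed_iso hF hU (by omega) Q.isPGroup' ρ fun r => L.grp_fix r.1.2
  obtain ⟨q, P⟩ := exists_pair hF hU hpU hp0 hpi
  obtain ⟨hscale, W, hWU, hW, gen, good⟩ := hsmall p q P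
  let S : Subgroup E := L.grp W ⊓ (fixer n F 2 ({p, q} : Set (Fin n → F))).comap L.π
  have hSA : S ≤ Subgroup.normalizer (L.trans U p q : Set E) := by
    have key : ∀ s ∈ S, ∀ x ∈ L.trans U p q, s * x * s⁻¹ ∈ L.trans U p q := by
      rintro s ⟨hsW, hsf⟩ x hx
      have hsp : ap (L.π s) p = p := hsf p (Or.inl rfl)
      have hsq : ap (L.π s) q = q := hsf q (Or.inr rfl)
      refine Subgroup.closure_induction (p := fun x _ => s * x * s⁻¹ ∈ L.trans U p q) ?_ ?_ ?_ ?_ hx
      · rintro y (rfl | ⟨v, ⟨hv, hi, h0⟩, rfl⟩)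
        · rw [L.conj s p hpi, hsp]; exact L.dp_mem P
        · obtain ⟨hvU, hvp, hvq⟩ := (P.mem_comp hF).1 hv
          have hv' : ap (L.π s) v ∈ comp U p q := (P.mem_comp hF).2
            ⟨L.grp_map hU (L.grp_mono hWU hsW) hvU,
              by nth_rw 1 [← hsp]; rw [herm_ap, hvp], by nth_rw 1 [← hsq]; rw [herm_ap, hvq]⟩
          rw [show s * L.rp p v * s⁻¹ = (s * L.d v * s⁻¹) * (s * L.d (v + p) * s⁻¹) by
            rw [rp]; group, L.conj s v hi, L.conj s _ (P.iso_add_p hF hv hi), ap_add, hsp]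
          exact L.rp_mem P hv' (L.iso_map s hi) fun h =>
            h0 (ap_injective _ (h.trans (ap_zero _).symm))
      · simp
      · intro b b' _ _ hb hb'
        rw [show s * (b * b') * s⁻¹ = (s * b * s⁻¹) * (s * b' * s⁻¹) by group]
        exact mul_mem hb hb'
      · intro b _ hb
        rw [show s * b⁻¹ * s⁻¹ = (s * b * s⁻¹)⁻¹ by group]
        exact inv_mem hb
    intro s hs
    rw [Subgroup.mem_normalizer_iff]
    refine fun x => ⟨key s hs x, fun hx => ?_⟩
    have := key s⁻¹ (inv_mem hs) _ hx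
    simpa [mul_assoc] using this
  let M : Subgroup E := L.trans U p q ⊔ S
  have hMU : M ≤ L.grp U :=
    sup_le (L.trans_le P) (inf_le_left.trans (L.grp_mono hWU))
  have hMinj : ∀ g ∈ M, L.π g = 1 → g = 1 := by
    intro g hg hg1
    rw [← SetLike.mem_coe, Subgroup.coe_mul_of_right_le_normalizer_left _ _ hSA] at hg
    obtain ⟨a, ha, s, hs, rfl⟩ := Set.mem_mul.1 hg
    have hsp : ap (L.π s) p = p := hs.2 p (Or.inl rfl)
    have hsq : ap (L.π s) q = q := hs.2 q (Or.inr rfl)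
    have has : L.π s = (L.π a)⁻¹ := eq_inv_of_mul_eq_one_right (by rw [← map_mul, hg1])
    have hs1 : L.π s = 1 := by
      have hsf := P.mem_fixer_comp hF (L.grp_fix (L.grp_mono hWU hs.1)) hsp hsq
      refine ap_ext fun x => ?_
      rw [ap_one]
      obtain ⟨y, hy, w, hw, rfl⟩ := Submodule.mem_sup.1
        ((isCompl_perp hF (P.comp_nondeg hF)).sup_eq_top.symm ▸ Submodule.mem_top (x := x))
      rw [ap_add, hsf w hw]
      congr 1
      obtain ⟨t, ht⟩ := (L.trans_spec P (inv_mem ha)).2 y hy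
      rw [map_inv, ← has] at ht
      have hy' : ap (L.π s) y ∈ comp U p q := ap_mem_of_fixer hF (P.comp_nondeg hF) hsf hy
      have h0 : t • p ∈ comp U p q := by
        have := Submodule.sub_mem _ hy' hy
        rwa [ht, add_sub_cancel_left] at this
      rcases eq_or_ne t 0 with rfl | ht0
      · rw [ht, zero_smul, add_zero]
      · exact absurd (by simpa [smul_smul, ht0] using Submodule.smul_mem _ t⁻¹ h0)
          (P.p_notMem_comp hF)
    obtain rfl : s = 1 := good s hs.1 hs1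
    rw [mul_one] at hg1 ⊢
    exact L.trans_inj P hn hscale ha hg1
  intro g hg hg1
  let X := L.grp U
  let K : Subgroup X := (L.π.comp X.subtype).ker
  let M' : Subgroup X := M.subgroupOf X
  have hKc : ∀ k ∈ K, ∀ x : X, k * x = x * k := fun k hk x =>
    Subtype.ext (L.ker_commute_grp (MonoidHom.mem_ker.1 hk) x.2).eq
  have hKn : K ≤ Subgroup.normalizer (M' : Set X) := by
    intro k hk
    rw [Subgroup.mem_normalizer_iff]
    intro x
    rw [hKc k hk x, mul_inv_cancel_right]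
  let H : Subgroup X := M' ⊔ K
  have hHmem : ∀ x ∈ H, ∃ m ∈ M', ∃ k ∈ K, x = m * k := by
    intro x hx
    rw [← SetLike.mem_coe, Subgroup.coe_mul_of_right_le_normalizer_left _ _ hKn] at hx
    obtain ⟨m, hm, k, hk, rfl⟩ := Set.mem_mul.1 hx
    exact ⟨m, hm, k, hk, rfl⟩
  have hQH : (Q : Subgroup X) ≤ H := by
    intro r hr
    obtain ⟨t, ht, l, hl, hlp, hlq, htl⟩ := L.exists_stab_eq P h4 hW gen
      (L.grp_fix r.2) (hfix ⟨r, hr⟩)
    have hm : t * l ∈ M := mul_mem (le_sup_left (a := L.trans U p q) ht)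
      (le_sup_right (a := L.trans U p q) (b := S) ⟨hl, by
        rintro x (rfl | rfl)
        · exact hlp
        · exact hlq⟩)
    let m : X := ⟨t * l, hMU hm⟩
    have hk : m⁻¹ * r ∈ K := by
      rw [MonoidHom.mem_ker, MonoidHom.comp_apply]
      show L.π ((m : E)⁻¹ * (r : E)) = 1
      rw [map_mul, map_inv, show (m : E) = t * l from rfl, htl, inv_mul_cancel]
    have : r = m * (m⁻¹ * r) := by group
    rw [this]
    exact mul_mem (le_sup_left (b := K) (Subgroup.mem_subgroupOf.2 hm))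
      (le_sup_right (a := M') hk)
  have hodd : ¬ 2 ∣ H.index := fun h =>
    Q.not_dvd_index (h.trans (Subgroup.index_dvd_of_le hQH))
  have hMn : (M'.subgroupOf H).Normal := by
    refine ⟨fun x hx y => ?_⟩
    rw [Subgroup.mem_subgroupOf] at hx ⊢
    obtain ⟨m, hm, k, hk, hyk⟩ := hHmem y y.2
    have e : ((y * x * y⁻¹ : H) : X) = m * (x : X) * m⁻¹ := by
      simp only [Subgroup.coe_mul, Subgroup.coe_inv, hyk]
      calc m * k * (x : X) * (m * k)⁻¹ = m * (k * (x : X) * k⁻¹) * m⁻¹ := by group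
        _ = _ := by rw [hKc k hk, mul_inv_cancel_right]
    rw [e]
    exact mul_mem (mul_mem hm hx) (inv_mem hm)
  have hcomm : ∀ a b : H ⧸ M'.subgroupOf H, a * b = b * a := by
    have rep : ∀ a : H ⧸ M'.subgroupOf H, ∃ k, ∃ hk : k ∈ H, k ∈ K ∧
        a = QuotientGroup.mk ⟨k, hk⟩ := by
      intro a
      obtain ⟨x, rfl⟩ := QuotientGroup.mk_surjective a
      obtain ⟨m, hm, k, hk, hx⟩ := hHmem x x.2
      have hkH : k ∈ H := le_sup_right (a := M') hk
      refine ⟨k, hkH, hk, ((QuotientGroup.eq).2 ?_).symm⟩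
      rw [Subgroup.mem_subgroupOf]
      show k⁻¹ * (x : X) ∈ M'
      rw [hx, ← hKc k hk m, inv_mul_cancel_left]
      exact hm
    intro a b
    obtain ⟨k, hkH, hk, rfl⟩ := rep a
    obtain ⟨k', hk'H, -, rfl⟩ := rep b
    rw [← QuotientGroup.mk_mul, ← QuotientGroup.mk_mul]
    exact congrArg _ (Subtype.ext (hKc k hk k'))
  let _ : CommGroup (H ⧸ M'.subgroupOf H) :=
    { (inferInstance : Group (H ⧸ M'.subgroupOf H)) with mul_comm := hcomm }
  let T := MonoidHom.transfer (QuotientGroup.mk' (M'.subgroupOf H))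
  -- the transfer is trivial on the generators
  obtain ⟨u, hu, v, hv, hiu, hiv, huv, hu0, huv'⟩ := exists_line hF hU h4
  let dX : ∀ w : Fin n → F, w ∈ U → Iso w → X := fun w hw hi => ⟨L.d w, L.d_mem hw hi⟩
  have hTconst : ∀ w (hw : w ∈ U) (hi : Iso w), w ≠ 0 → T (dX w hw hi) = T (dX u hu hiu) := by
    intro w hw hi hw0
    obtain ⟨a, ha, hau⟩ := L.exists_move hU (by omega) hu hw hiu hi hu0 hw0
    have : dX w hw hi = (⟨a, ha⟩ : X) * dX u hu hiu * (⟨a, ha⟩ : X)⁻¹ := Subtype.ext (by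
      show L.d w = a * L.d u * a⁻¹
      rw [L.conj a u hiu, hau])
    rw [this, map_mul, map_mul, map_inv, mul_comm (T ⟨a, ha⟩), mul_inv_cancel_right]
  set τ := T (dX u hu hiu) with hτ
  have hτ2 : τ * τ = 1 := by
    rw [hτ, ← map_mul, ← map_one T]
    exact congrArg T (Subtype.ext (L.mul_self u hiu))
  obtain ⟨ω, hω⟩ := exists_omega hF
  have hne : ∀ x : F, u + x • v ≠ 0 := by
    intro x hx
    rcases eq_or_ne x 0 with rfl | h0
    · exact hu0 (by simpa using hx)
    · refine huv' (-x⁻¹) ?_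
      rw [neg_smul, ← smul_neg, neg_eq_of_add_eq_zero_right hx, smul_smul, inv_mul_cancel₀ h0,
        one_smul]
  have hvn : v ≠ 0 := fun h => huv' 0 (by rw [h, zero_smul])
  have hil : ∀ x : F, Iso (u + x • v) := fun x =>
    hiu.add_orth hF (hiv.smul hF x) (by rw [herm_smul_right, huv, mul_zero])
  have hlm : ∀ x : F, u + x • v ∈ U := fun x => U.add_mem hu (U.smul_mem x hv)
  have hτ1 : τ = 1 := by
    have e1 := hne 1
    have e2 := hil 1
    have e3 := hlm 1
    rw [one_smul] at e1 e2 e3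
    have hprod : dX u hu hiu * dX v hv hiv * dX _ e3 e2 * dX _ (hlm ω) (hil ω)
        * dX _ (hlm (ω ^ 2)) (hil (ω ^ 2)) = 1 :=
      Subtype.ext (L.line u v hiu hiv huv hu0 huv' ω hω)
    have := congrArg T hprod
    rw [map_mul, map_mul, map_mul, map_mul, map_one, hTconst v hv hiv hvn, hTconst _ e3 e2 e1,
      hTconst _ (hlm ω) (hil ω) (hne ω), hTconst _ (hlm _) (hil _) (hne _)] at this
    simpa [mul_assoc, hτ2] using this
  have hT : ∀ x : X, T x = 1 := by
    rintro ⟨x, hx⟩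
    refine Subgroup.closure_induction (p := fun x hx => T ⟨x, hx⟩ = 1) ?_ ?_ ?_ ?_ hx
    · rintro _ ⟨w, ⟨hw, hi⟩, rfl⟩
      rcases eq_or_ne w 0 with rfl | hw0
      · rw [← map_one T]
        exact congrArg T (Subtype.ext L.d_zero)
      · exact (hTconst w hw hi hw0).trans hτ1
    · exact map_one T
    · intro a b ha hb iha ihb
      rw [show (⟨a * b, mul_mem ha hb⟩ : X) = ⟨a, ha⟩ * ⟨b, hb⟩ from rfl, map_mul, iha, ihb, one_mul]
    · intro a ha iha
      rw [show (⟨a⁻¹, inv_mem ha⟩ : X) = ⟨a, ha⟩⁻¹ from rfl, map_inv, iha, inv_one]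
  let gX : X := ⟨g, hg⟩
  have hgK : gX ∈ K := MonoidHom.mem_ker.2 hg1
  have hpow := MonoidHom.transfer_eq_pow (QuotientGroup.mk' (M'.subgroupOf H)) gX
    (fun k g₀ _ => by rw [mul_assoc, hKc _ (pow_mem hgK k) g₀, inv_mul_cancel_left])
  have h1 : QuotientGroup.mk' (M'.subgroupOf H) ⟨gX ^ H.index, _⟩ = 1 := hpow.symm.trans (hT gX)
  have h2 : g ^ H.index ∈ M := Subgroup.mem_subgroupOf.1
    (Subgroup.mem_subgroupOf.1 ((QuotientGroup.eq_one_iff _).1 h1))
  have h3 : g ^ H.index = 1 := hMinj _ h2 (by rw [map_pow, hg1, one_pow])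
  obtain ⟨k, hk⟩ := L.ker_two g hg1
  have h5 : orderOf g ∣ Nat.gcd (2 ^ k) H.index :=
    Nat.dvd_gcd (orderOf_dvd_of_pow_eq_one hk) (orderOf_dvd_of_pow_eq_one h3)
  rw [Nat.Coprime.gcd_eq_one (((Nat.prime_two.coprime_iff_not_dvd).2 hodd).pow_left k)] at h5
  exact orderOf_eq_one_iff.1 (Nat.dvd_one.1 h5)

end Lift

end Cfsg.Agent.Coprime.UTT
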