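import Cfsg.Agent.Coprime.UTT.Classify
import Cfsg.Agent.Coprime.UTT.Transfer

/-!
# Fibres of 3-transpositions over the transvections of `SU_n(2)`

`G` is a group generated by a class of 3-transpositions with trivial centre, mapped onto
`SU_n(2)` with a 2-group as kernel.  The products inside the fibres generate translation groups
`W v`, which meet trivially and commute with each other.
-/

set_option autoImplicit false
set_option linter.unusedSectionVars false

namespace Cfsg.Agent.Coprime.UTT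

open Cfsg Cfsg.Agent.Unitary

variable {F : Type*} [Field F] [Fintype F] {n : ℕ}

local notation "⟪" u ", " v "⟫" => hermForm n F 2 u v

/-- A property of isotropic vectors closed under reflection which holds on two perps holds
everywhere. -/
theorem closed_all (hF : Fintype.card F = 2 ^ 2) (hn : 4 ≤ n) {P : (Fin n → F) → Prop}
    (hcl : ∀ u v, Iso u → Iso v → P u → P v → P (v + ⟪v, u⟫ • u)) {p q : Fin n → F} (hp : Iso p)
    (hq : Iso q) (hp0 : p ≠ 0) (hne : ∀ a : F, q ≠ a • p)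
    (Hp : ∀ v, Iso v → ⟪v, p⟫ = 0 → P v) (Hq : ∀ v, Iso v → ⟪v, q⟫ = 0 → P v) :
    ∀ v, Iso v → P v := by
  have refl : ∀ {u v : Fin n → F}, Iso u → Iso v → Iso (v + ⟪v, u⟫ • u) := by
    intro u v hu hv
    show hermForm n F 2 _ _ = 0
    rw [← ap_tau hF hu, herm_ap]
    exact hv
  have conj : ∀ {r c : Fin n → F}, Iso c → P c → (∀ v, Iso v → ⟪v, r⟫ = 0 → P v) →
      ∀ v, Iso v → ⟪v, r + ⟪r, c⟫ • c⟫ = 0 → P v := by
    intro r c hc hPc H x hx hxr
    have hcx : ⟪x + ⟪x, c⟫ • c, c⟫ = ⟪x, c⟫ := by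
      rw [herm_add_left, herm_smul_left, show ⟪c, c⟫ = 0 from hc, mul_zero, add_zero]
    have h : P (x + ⟪x, c⟫ • c) := by
      refine H _ (refl hc hx) ?_
      rw [herm_add_left, herm_smul_left]
      rw [herm_add_right hF, herm_smul_right, herm_swap hF r c] at hxr
      linear_combination hxr
    have := hcl c _ hc (refl hc hx) hPc h
    rwa [hcx, add_assoc, vadd_self hF, add_zero] at this
  have Pp : P p := Hp p hp hp
  have Pq : P q := Hq q hq hq
  have main : ∀ q : Fin n → F, Iso q → ⟪p, q⟫ ≠ 0 → P q →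
      (∀ v, Iso v → ⟪v, q⟫ = 0 → P v) → ∀ v, Iso v → P v := by
    intro q hq hpq Pq Hq γ hγ
    by_cases hγp : ⟪γ, p⟫ = 0
    · exact Hp γ hγ hγp
    have hpγ : ⟪p, γ⟫ ≠ 0 := (herm_eq_zero_symm hF).not.2 hγp
    let U := perp 2 ({p, γ} : Set (Fin n → F))
    by_cases hc : ∃ c ∈ U, Iso c ∧ ⟪c, q⟫ ≠ 0
    · obtain ⟨c, hcU, ic, hcq⟩ := hc
      obtain ⟨hcp, hcγ⟩ := mem_perp_pair.1 hcU
      have h1 := conj ic (Hp c ic hcp) Hq
      have h2 := conj hq Pq h1
      refine h2 γ hγ ?_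
      have hqc : ⟪q, c⟫ ≠ 0 := (herm_eq_zero_symm hF).not.2 hcq
      have hγc : ⟪γ, c⟫ = 0 := (herm_eq_zero_symm hF).1 hcγ
      have e1 : ⟪q + ⟪q, c⟫ • c, q⟫ = 1 := by
        rw [herm_add_left, herm_smul_left, show ⟪q, q⟫ = 0 from hq, zero_add, ← herm_swap hF q c,
          mul_sq hF hqc]
      rw [e1, one_smul, add_comm, ← add_assoc, vadd_self hF, zero_add, herm_smul_right, hγc,
        mul_zero]
    push Not at hc
    have hnd : Nondeg 2 U := by
      have := nondeg_perp hF (nondeg_pair hF hp hγ hpγ)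
      rwa [perp_span hF] at this
    have hfr : 2 ≤ Module.finrank F U := by
      have := finrank_perp_add hF (nondeg_pair hF hp hγ hpγ)
      rw [perp_span hF, finrank_pair (indep_pair hF hp hpγ)] at this
      show 2 ≤ Module.finrank F ↥(perp 2 ({p, γ} : Set (Fin n → F)))
      omega
    have hall : ∀ x ∈ U, ⟪x, q⟫ = 0 :=
      exists_add_isotropic hF hnd hfr (p := fun x => ⟪x, q⟫ = 0) hc
        fun w _ w' _ h h' => by rw [herm_add_left, h, h', add_zero]
    -- hence `q` lies in the plane of `p` and `γ`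
    obtain ⟨A, B, hqAB⟩ : ∃ A B : F, q = A • p + B • γ := by
      refine ⟨⟪q, γ⟫ / ⟪p, γ⟫, ⟪q, p⟫ / ⟪γ, p⟫, veq_of_add hF ?_⟩
      have hmem : q + (⟪q, γ⟫ / ⟪p, γ⟫) • p + (⟪q, p⟫ / ⟪γ, p⟫) • γ ∈ U := by
        refine mem_perp_pair.2 ⟨?_, ?_⟩
        · rw [herm_add_left, herm_add_left, herm_smul_left, herm_smul_left,
            show ⟪p, p⟫ = 0 from hp, mul_zero, add_zero, div_mul_cancel₀ _ hγp, add_self_eq hF]
        · rw [herm_add_left, herm_add_left, herm_smul_left, herm_smul_left,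
            show ⟪γ, γ⟫ = 0 from hγ, mul_zero, add_zero, div_mul_cancel₀ _ hpγ, add_self_eq hF]
      rw [← add_assoc]
      refine hnd _ hmem fun x hx => ?_
      obtain ⟨hxp, hxγ⟩ := mem_perp_pair.1 hx
      rw [herm_add_left, herm_add_left, herm_smul_left, herm_smul_left,
        (herm_eq_zero_symm hF).1 hxp, (herm_eq_zero_symm hF).1 hxγ,
        (herm_eq_zero_symm hF).1 (hall x hx)]
      simp
    -- so `γ` is orthogonal to the third point `p + ⟪p, q⟫ • q`
    have hq' := hq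
    change ⟪q, q⟫ = 0 at hq'
    rw [hqAB] at hpq hq'
    simp only [herm_add_right hF, herm_smul_right, show ⟪p, p⟫ = 0 from hp, mul_zero, zero_add]
      at hpq
    simp only [herm_add_left, herm_add_right hF, herm_smul_left, herm_smul_right,
      show ⟪p, p⟫ = 0 from hp, show ⟪γ, γ⟫ = 0 from hγ, mul_zero, zero_add, add_zero,
      ← herm_swap hF p γ] at hq'
    have hB : B ≠ 0 := fun h => hpq (by rw [h]; simp)
    by_cases hA : A = 0
    · refine Hq γ hγ ?_
      rw [hqAB, hA, zero_smul, zero_add, herm_smul_right, show ⟪γ, γ⟫ = 0 from hγ, mul_zero]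
    have ht : A * B ^ 2 * ⟪p, γ⟫ = 1 := by
      refine (fixed_cases hF ?_).resolve_left (mul_ne_zero (mul_ne_zero hA (pow_ne_zero _ hB)) hpγ)
      linear_combination hq' + A ^ 2 * ⟪p, γ⟫ ^ 2 * sq_sq hF B - A * B ^ 2 * ⟪p, γ⟫ * two_eq hF
    refine conj hq Pq Hp γ hγ ?_
    rw [hqAB]
    simp only [herm_add_right hF, herm_smul_right, show ⟪p, p⟫ = 0 from hp, mul_zero, zero_add,
      show ⟪γ, γ⟫ = 0 from hγ, add_zero, ← herm_swap hF p γ]
    grind [two_eq hF, pow_three hF hA, pow_three hF hB, pow_three hF hpγ]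
  by_cases hpq : ⟪p, q⟫ = 0
  · -- move one perp
    obtain ⟨s, -, is, hsp, hsq⟩ := exists_iso_pair hF (nondeg_top hF)
      (by rw [finrank_top, Module.finrank_fin_fun]; omega) Submodule.mem_top Submodule.mem_top
      hp hq (by
        rw [LinearIndependent.pair_iff' hp0]
        exact fun a ha => hne a ha.symm)
      (a := (1 : F)) (b := 0) one_ne_zero
    have hps : ⟪p, s⟫ = 1 := by rw [← herm_swap hF s p, hsp, one_pow]
    have Hp' := conj is (Hq s is hsq) Hp
    rw [hps, one_smul] at Hp'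
    have ip' : Iso (p + s) := hp.add_one hF is hps
    refine main (p + s) ip' ?_ (Hp' _ ip' ip') Hp'
    rw [herm_add_right hF, show ⟪p, p⟫ = 0 from hp, hps, zero_add]
    exact one_ne_zero
  · exact main q hq hpq Pq Hq

/-- A centre-free 3-transposition group over `SU_n(2)` with a 2-group as kernel. -/
structure Ext (hF : Fintype.card F = 2 ^ 2) (G : Type*) [Group G] where
  /-- the projection -/
  π : G →* SU n F 2
  /-- the class -/
  D : Set G
  isClass : IsThreeTranspositionClass D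
  surj : Function.Surjective π
  ker_two : ∀ g, π g = 1 → ∃ k : ℕ, g ^ 2 ^ k = 1
  center_eq : Subgroup.center G = ⊥
  five_le : 5 ≤ n

theorem exists_iso_vector (hF : Fintype.card F = 2 ^ 2) (hn : 2 ≤ n) :
    ∃ v : Fin n → F, Iso v ∧ v ≠ 0 := by
  obtain ⟨v, -, h0, hv⟩ := exists_isotropic hF (nondeg_top hF)
    (by rw [finrank_top, Module.finrank_fin_fun]; omega : 2 ≤ Module.finrank F (⊤ : Submodule F (Fin n → F)))
  exact ⟨v, hv, h0⟩

namespace Ext

variable {hF : Fintype.card F = 2 ^ 2} {G : Type*} [Group G] (X : Ext (n := n) hF G)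

theorem four_le {hF : Fintype.card F = 2 ^ 2} {G : Type*} [Group G] (X : Ext (n := n) hF G) : 4 ≤ n := by
  have := X.five_le; omega

theorem mul_self {x : G} (hx : x ∈ X.D) : x * x = 1 := by
  have := pow_orderOf_eq_one x
  rwa [X.isClass.1.1 x hx, pow_two] at this

theorem inv_eq {x : G} (hx : x ∈ X.D) : x⁻¹ = x := inv_eq_of_mul_eq_one_right (X.mul_self hx)

theorem conj_mem (g : G) {x : G} (hx : x ∈ X.D) : g * x * g⁻¹ ∈ X.D := by
  obtain ⟨d, -, hd⟩ := X.isClass.2.1
  rw [hd] at hx ⊢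
  obtain ⟨c, hc⟩ := isConj_iff.1 hx
  exact isConj_iff.2 ⟨g * c, by rw [← hc]; group⟩

theorem map_ne_one {x : G} (hx : x ∈ X.D) : X.π x ≠ 1 := by
  intro h
  obtain ⟨d, -, hd⟩ := X.isClass.2.1
  have hker : X.D ⊆ X.π.ker := fun y hy => by
    rw [hd] at hx hy
    obtain ⟨c, hc⟩ := isConj_iff.1 hx
    obtain ⟨c', hc'⟩ := isConj_iff.1 hy
    have h1 : X.π d = 1 := by
      rw [← hc] at h
      simpa using h
    rw [SetLike.mem_coe, MonoidHom.mem_ker, ← hc']
    simp [h1]
  obtain ⟨v, hv, h0⟩ := exists_iso_vector (n := n) hF (by have := X.five_le; omega)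
  obtain ⟨g, hg⟩ := X.surj (tau hF v)
  have hg' : g ∈ X.π.ker := by
    have := (Subgroup.closure_le _).2 hker
    rw [X.isClass.2.2] at this
    exact this (Subgroup.mem_top g)
  exact tau_ne_one hF hv h0 (hg.symm.trans hg')

theorem image_eq : X.π '' X.D = tau hF '' {v | Iso v ∧ v ≠ 0} := by
  refine classify hF X.four_le ⟨⟨?_, ?_⟩, ?_, ?_⟩
  · rintro _ ⟨x, hx, rfl⟩
    exact orderOf_eq_prime (by rw [pow_two, ← map_mul, X.mul_self hx, map_one]) (X.map_ne_one hx)
  · rintro _ ⟨x, hx, rfl⟩ _ ⟨y, hy, rfl⟩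
    simp only [← map_mul, ← map_pow]
    exact (X.isClass.1.2 x hx y hy).imp (fun h => by rw [h, map_one]) (fun h => by rw [h, map_one])
  · obtain ⟨d, hdD, hd⟩ := X.isClass.2.1
    refine ⟨X.π d, ⟨d, hdD, rfl⟩, Set.Subset.antisymm ?_ fun y hy => ?_⟩
    · rintro _ ⟨x, hx, rfl⟩
      rw [hd] at hx
      obtain ⟨c, hc⟩ := isConj_iff.1 hx
      exact isConj_iff.2 ⟨X.π c, by rw [← hc]; simp⟩
    · obtain ⟨c, hc⟩ := isConj_iff.1 hy
      obtain ⟨g, rfl⟩ := X.surj c
      exact ⟨g * d * g⁻¹, X.conj_mem g hdD, by simp [hc]⟩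
  · rw [← MonoidHom.map_closure, X.isClass.2.2, Subgroup.map_top_of_surjective _ X.surj]

/-- The members of the class over a vector. -/
def Fib (v : Fin n → F) : Set G := {x ∈ X.D | X.π x = tau hF v}

theorem exists_vec {x : G} (hx : x ∈ X.D) : ∃ v, Iso v ∧ v ≠ 0 ∧ x ∈ X.Fib v := by
  obtain ⟨v, ⟨hv, h0⟩, h⟩ := X.image_eq.subset ⟨x, hx, rfl⟩
  exact ⟨v, hv, h0, hx, h.symm⟩

theorem exists_mem {v : Fin n → F} (hv : Iso v) (h0 : v ≠ 0) : ∃ x, x ∈ X.Fib v := by
  obtain ⟨x, hx, h⟩ := X.image_eq.ge ⟨v, ⟨hv, h0⟩, rfl⟩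
  exact ⟨x, hx, h⟩

theorem fib_smul {v : Fin n → F} (hv : Iso v) {a : F} (ha : a ≠ 0) : X.Fib (a • v) = X.Fib v := by
  simp only [Fib, tau_smul hF hv ha]

theorem fib_conj (g : G) {v : Fin n → F} (hv : Iso v) {x : G} (hx : x ∈ X.Fib v) :
    g * x * g⁻¹ ∈ X.Fib (ap (X.π g) v) :=
  ⟨X.conj_mem g hx.1, by rw [map_mul, map_mul, map_inv, hx.2, tau_conj hF _ hv]⟩

theorem ap_fib {v : Fin n → F} (hv : Iso v) {x : G} (hx : x ∈ X.Fib v) (y : Fin n → F) :
    ap (X.π x) y = y + ⟪y, v⟫ • v := by rw [hx.2, ap_tau hF hv]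

/-- Commuting images lift to commuting members. -/
theorem commute {u v : Fin n → F} (hu : Iso u) (hv : Iso v) (h : ⟪u, v⟫ = 0) {x y : G}
    (hx : x ∈ X.Fib u) (hy : y ∈ X.Fib v) : Commute x y := by
  have hc : tau hF u * tau hF v = tau hF v * tau hF u := by
    have h1 := tau_conj hF (tau hF u) hv
    rwa [ap_tau hF hu, (herm_eq_zero_symm hF).1 h, zero_smul, add_zero, mul_inv_eq_iff_eq_mul] at h1
  have h2 : (x * y) ^ 2 = 1 := by
    rcases X.isClass.1.2 x hx.1 y hy.1 with h' | h'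
    · exact h'
    have hπ : X.π (x * y) = 1 := by
      have e3 : X.π (x * y) ^ 3 = 1 := by rw [← map_pow, h', map_one]
      have e2 : X.π (x * y) ^ 2 = 1 := by
        rw [map_mul, hx.2, hy.2, pow_two]
        nth_rw 2 [hc]
        rw [mul_assoc, ← mul_assoc (tau hF v), tau_mul_self hF hv, one_mul, tau_mul_self hF hu]
      rw [pow_succ, e2, one_mul] at e3
      exact e3
    obtain ⟨k, hk⟩ := X.ker_two _ hπ
    have hcop : Nat.Coprime (2 ^ k) 3 := Nat.Coprime.pow_left k (by norm_num)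
    have h1 : x * y = 1 := by
      have := Nat.dvd_gcd (orderOf_dvd_of_pow_eq_one hk) (orderOf_dvd_of_pow_eq_one h')
      rw [hcop.gcd_eq_one] at this
      exact orderOf_eq_one_iff.1 (Nat.dvd_one.1 this)
    rw [h1, one_pow]
  show x * y = y * x
  calc x * y = (x * y)⁻¹ := by rw [eq_inv_iff_mul_eq_one, ← pow_two, h2]
    _ = y * x := by rw [mul_inv_rev, X.inv_eq hx.1, X.inv_eq hy.1]

/-- The translation group of a vector: the products inside the fibre. -/
def W (v : Fin n → F) : Subgroup G :=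
  Subgroup.closure (Set.image2 (· * ·) (X.Fib v) (X.Fib v))

theorem mul_mem_W {v : Fin n → F} {x y : G} (hx : x ∈ X.Fib v) (hy : y ∈ X.Fib v) :
    x * y ∈ X.W v := Subgroup.subset_closure ⟨x, hx, y, hy, rfl⟩

theorem W_ker {v : Fin n → F} (hv : Iso v) {a : G} (ha : a ∈ X.W v) : X.π a = 1 := by
  have : X.W v ≤ X.π.ker := (Subgroup.closure_le _).2 (by
    rintro _ ⟨x, hx, y, hy, rfl⟩
    rw [SetLike.mem_coe, MonoidHom.mem_ker, map_mul, hx.2, hy.2, tau_mul_self hF hv])
  exact this ha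

theorem W_conj (g : G) {v : Fin n → F} (hv : Iso v) {a : G} (ha : a ∈ X.W v) :
    g * a * g⁻¹ ∈ X.W (ap (X.π g) v) := by
  have : X.W v ≤ (X.W (ap (X.π g) v)).comap (MulAut.conj g).toMonoidHom := (Subgroup.closure_le _).2 (by
    rintro _ ⟨x, hx, y, hy, rfl⟩
    show g * (x * y) * g⁻¹ ∈ X.W _
    rw [show g * (x * y) * g⁻¹ = (g * x * g⁻¹) * (g * y * g⁻¹) by group]
    exact X.mul_mem_W (X.fib_conj g hv hx) (X.fib_conj g hv hy))
  exact this ha

theorem W_smul {v : Fin n → F} (hv : Iso v) {a : F} (ha : a ≠ 0) : X.W (a • v) = X.W v := by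
  rw [W, W, X.fib_smul hv ha]

theorem W_conj_ker {g : G} (hg : X.π g = 1) {v : Fin n → F} (hv : Iso v) {a : G} (ha : a ∈ X.W v) :
    g * a * g⁻¹ ∈ X.W v := by
  have := X.W_conj g hv ha
  rwa [hg, ap_one] at this

/-- A translation group commutes with the fibres over the perp. -/
theorem W_commute_fib {u v : Fin n → F} (hu : Iso u) (hv : Iso v) (h : ⟪u, v⟫ = 0) {a y : G}
    (ha : a ∈ X.W u) (hy : y ∈ X.Fib v) : Commute a y := by
  induction ha using Subgroup.closure_induction with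
  | mem a ha =>
    obtain ⟨x, hx, x', hx', rfl⟩ := ha
    exact (X.commute hu hv h hx hy).mul_left (X.commute hu hv h hx' hy)
  | one => exact Commute.one_left y
  | mul a b _ _ iha ihb => exact iha.mul_left ihb
  | inv a _ iha => exact iha.inv_left

theorem W_commute_orth {u v : Fin n → F} (hu : Iso u) (hv : Iso v) (h : ⟪u, v⟫ = 0) {a b : G}
    (ha : a ∈ X.W u) (hb : b ∈ X.W v) : Commute a b := by
  induction hb using Subgroup.closure_induction with
  | mem b hb =>
    obtain ⟨y, hy, y', hy', rfl⟩ := hb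
    exact (X.W_commute_fib hu hv h ha hy).mul_right (X.W_commute_fib hu hv h ha hy')
  | one => exact Commute.one_right a
  | mul b c _ _ ihb ihc => exact ihb.mul_right ihc
  | inv b _ ihb => exact ihb.inv_right

theorem W_sq {v : Fin n → F} (hv : Iso v) {a : G} (ha : a ∈ X.W v) : a * a = 1 := by
  induction ha using Subgroup.closure_induction with
  | mem a ha =>
    obtain ⟨x, hx, y, hy, rfl⟩ := ha
    rw [show x * y * (x * y) = x * (y * x) * y by group, (X.commute hv hv hv hy hx).eq,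
      ← mul_assoc x x y, X.mul_self hx.1, one_mul, X.mul_self hy.1]
  | one => rw [mul_one]
  | mul a b ha hb iha ihb =>
    rw [mul_assoc, ← mul_assoc b, (X.W_commute_orth hv hv hv hb ha).eq, mul_assoc a b b, ihb,
      mul_one, iha]
  | inv a _ iha => rw [← mul_inv_rev, iha, inv_one]

/-- An element commuting with the fibres over two perps is trivial. -/
theorem eq_one_of_perps {p q : Fin n → F} (hp : Iso p) (hq : Iso q) (hp0 : p ≠ 0)
    (hne : ∀ a : F, q ≠ a • p) {k : G}
    (Hp : ∀ v, Iso v → ⟪v, p⟫ = 0 → ∀ y ∈ X.Fib v, Commute k y)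
    (Hq : ∀ v, Iso v → ⟪v, q⟫ = 0 → ∀ y ∈ X.Fib v, Commute k y) : k = 1 := by
  have hall := closed_all hF X.four_le (P := fun v => v = 0 ∨ ∀ y ∈ X.Fib v, Commute k y) (by
    intro u v hu hv hPu hPv
    rcases hPv with rfl | hPv
    · exact Or.inl (by simp [herm_zero_left])
    rcases hPu with rfl | hPu
    · rw [smul_zero, add_zero]
      exact Or.inr hPv
    by_cases hu0 : u = 0
    · rw [hu0, smul_zero, add_zero]
      exact Or.inr hPv
    obtain ⟨x, hx⟩ := X.exists_mem hu hu0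
    refine Or.inr fun y hy => ?_
    have hv' : Iso (v + ⟪v, u⟫ • u) := by
      show hermForm n F 2 _ _ = 0
      rw [← ap_tau hF hu, herm_ap]
      exact hv
    have h1 := X.fib_conj x hv' hy
    rw [X.ap_fib hu hx, herm_add_left, herm_smul_left, show ⟪u, u⟫ = 0 from hu, mul_zero, add_zero,
      add_assoc, vadd_self hF, add_zero] at h1
    have h2 := (((hPu x hx).inv_right).mul_right (hPv _ h1)).mul_right (hPu x hx)
    rwa [show x⁻¹ * (x * y * x⁻¹) * x = y by group] at h2)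
    hp hq hp0 hne (fun v hv h => Or.inr (Hp v hv h)) (fun v hv h => Or.inr (Hq v hv h))
  have hk : k ∈ Subgroup.center G := by
    rw [Subgroup.mem_center_iff]
    intro g
    have hle : Subgroup.closure X.D ≤ Subgroup.centralizer {k} := (Subgroup.closure_le _).2 (by
      intro x hx
      obtain ⟨v, hv, h0, hxv⟩ := X.exists_vec hx
      exact Subgroup.mem_centralizer_singleton_iff.2 ((hall v hv).resolve_left h0 x hxv).eq.symm)
    rw [X.isClass.2.2] at hle
    exact Subgroup.mem_centralizer_singleton_iff.1 (hle (Subgroup.mem_top g))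
  rwa [X.center_eq, Subgroup.mem_bot] at hk

theorem W_inter {p q : Fin n → F} (hp : Iso p) (hq : Iso q) (hp0 : p ≠ 0)
    (hne : ∀ a : F, q ≠ a • p) {k : G} (hkp : k ∈ X.W p) (hkq : k ∈ X.W q) : k = 1 :=
  X.eq_one_of_perps hp hq hp0 hne
    (fun v hv h _ hy => X.W_commute_fib hp hv ((herm_eq_zero_symm hF).1 h) hkp hy)
    (fun v hv h _ hy => X.W_commute_fib hq hv ((herm_eq_zero_symm hF).1 h) hkq hy)

theorem W_commute {p q : Fin n → F} (hp : Iso p) (hq : Iso q) {a b : G} (ha : a ∈ X.W p)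
    (hb : b ∈ X.W q) : Commute a b := by
  by_cases hp0 : p = 0
  · exact X.W_commute_orth hp hq (by rw [hp0, herm_zero_left]) ha hb
  by_cases hne : ∀ c : F, q ≠ c • p
  · rw [← commutatorElement_eq_one_iff_commute, commutatorElement_def]
    refine X.W_inter hp hq hp0 hne ?_ ?_
    · rw [show a * b * a⁻¹ * b⁻¹ = a * (b * a⁻¹ * b⁻¹) by group]
      exact mul_mem ha (X.W_conj_ker (X.W_ker hq hb) hp (inv_mem ha))
    · exact mul_mem (X.W_conj_ker (X.W_ker hp ha) hq hb) (inv_mem hb)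
  · push Not at hne
    obtain ⟨c, rfl⟩ := hne
    exact X.W_commute_orth hp hq (by rw [herm_smul_right, show ⟪p, p⟫ = 0 from hp, mul_zero]) ha hb

/-- The join of the translation groups. -/
def wall : Subgroup G := Subgroup.closure (⋃ v ∈ {v : Fin n → F | Iso v ∧ v ≠ 0}, (X.W v : Set G))

theorem W_le_wall {v : Fin n → F} (hv : Iso v) (h0 : v ≠ 0) : X.W v ≤ X.wall := fun _ ha =>
  Subgroup.subset_closure (Set.mem_biUnion (show v ∈ {v | Iso v ∧ v ≠ 0} from ⟨hv, h0⟩) ha)

theorem wall_ker {a : G} (ha : a ∈ X.wall) : X.π a = 1 := by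
  have : X.wall ≤ X.π.ker := (Subgroup.closure_le _).2
    (Set.iUnion₂_subset fun v hv b hb => X.W_ker hv.1 hb)
  exact this ha

theorem wall_normal : X.wall.Normal := by
  refine ⟨fun a ha g => ?_⟩
  have : X.wall ≤ X.wall.comap (MulAut.conj g).toMonoidHom := (Subgroup.closure_le _).2
    (Set.iUnion₂_subset fun v hv b hb => X.W_le_wall
      (show Iso (ap (X.π g) v) by show hermForm n F 2 _ _ = 0; rw [herm_ap]; exact hv.1)
      (fun h => hv.2 (ap_injective (X.π g) (by rw [h, ap_zero]))) (X.W_conj g hv.1 hb))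
  exact this ha

theorem commute_wall {z : G} (h : ∀ v, Iso v → v ≠ 0 → ∀ a ∈ X.W v, Commute z a) {a : G}
    (ha : a ∈ X.wall) : Commute z a := by
  have : X.wall ≤ Subgroup.centralizer {z} := (Subgroup.closure_le _).2
    (Set.iUnion₂_subset fun v hv b hb =>
      Subgroup.mem_centralizer_singleton_iff.2 (h v hv.1 hv.2 b hb).eq.symm)
  exact (Subgroup.mem_centralizer_singleton_iff.1 (this ha)).symm

theorem wall_commute {a b : G} (ha : a ∈ X.wall) (hb : b ∈ X.wall) : Commute a b :=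
  X.commute_wall (fun _ hv _ _ hc =>
    (X.commute_wall (fun _ hw _ _ hd => X.W_commute hv hw hc hd) ha).symm) hb

theorem wall_sq {a : G} (ha : a ∈ X.wall) : a * a = 1 := by
  induction ha using Subgroup.closure_induction with
  | mem a ha =>
    obtain ⟨v, hv, hav⟩ := Set.mem_iUnion₂.1 ha
    exact X.W_sq hv.1 hav
  | one => rw [mul_one]
  | mul a b ha hb iha ihb =>
    rw [mul_assoc, ← mul_assoc b, (X.wall_commute hb ha).eq, mul_assoc a b b, ihb, mul_one, iha]
  | inv a _ iha => rw [← mul_inv_rev, iha, inv_one]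

end Ext

end Cfsg.Agent.Coprime.UTT
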