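import Cfsg.Agent.Coprime.UTT.Zeta

/-!
# The reflection elements of order three fix nothing in the kernel

For a centre-free 3-transposition extension of `SU_5(2)`, a lift of the element `ζ_c` centralises
no translation over a point orthogonal to `c`, and hence nothing in the kernel.
-/

set_option autoImplicit false
set_option linter.unusedSectionVars false

namespace Cfsg.Agent.Coprime.UTT

open Cfsg Cfsg.Agent.Unitary

variable {F : Type*} [Field F] [Fintype F] {n : ℕ}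

local notation "⟪" u ", " v "⟫" => hermForm n F 2 u v

theorem ap_fixer_perp {c : Fin n → F} (hF : Fintype.card F = 2 ^ 2) (hc : ⟪c, c⟫ = 1) {a : SU n F 2}
    (ha : ap a c = c) :
    a ∈ fixer n F 2 (perp 2 (perp 2 ({c} : Set (Fin n → F)) : Set (Fin n → F))) := by
  intro x hx
  obtain ⟨h1, h2⟩ := decomp_unit hF hc x
  have h0 : x + ⟪x, c⟫ • c = 0 := by
    refine unitPerp_nondeg hF hc _ (mem_perp_singleton.2 h1) fun y hy => ?_
    rw [herm_add_left, herm_smul_left, hx y hy,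
      (herm_eq_zero_symm hF).1 (mem_perp_singleton.1 hy), mul_zero, add_zero]
  have hxc := veq_of_add hF h0
  rw [hxc, ap_smul, ha]

/-- The subspace of a unit vector is generated. -/
theorem unitPerp_gen {hF : Fintype.card F = 2 ^ 2} {E : Type*} [Group E] (L : Lift (n := n) hF E)
    (hn : n = 5) {c p : Fin n → F} (hc : ⟪c, c⟫ = 1) (hpc : ⟪p, c⟫ = 0) (hp : Iso p) (hp0 : p ≠ 0) :
    ∃ q, Pair (perp 2 ({c} : Set (Fin n → F))) p q ∧ L.Gen (comp (perp 2 ({c} : Set (Fin n → F))) p q) ∧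
      L.Gen (perp 2 ({c} : Set (Fin n → F))) := by
  obtain ⟨q, P⟩ := exists_pair hF (unitPerp_nondeg hF hc) (mem_perp_singleton.2 hpc) hp0 hp
  have hd := unitPerp_finrank hF hc
  have hd2 := P.comp_finrank hF
  have g2 := (L.base_two (P.comp_nondeg hF) (by omega)).1
  exact ⟨q, P, g2, L.gen_step P (by omega) le_rfl inf_le_left g2⟩

namespace Ext

variable {hF : Fintype.card F = 2 ^ 2} {G : Type*} [Group G] (X : Ext (n := n) hF G)

/-- Any lift of a product of transvections with property commutes if the members do. -/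
theorem commute_of_image (hV : ∀ a b, X.π a = 1 → X.π b = 1 → Commute a b) {k : G} (hk : X.π k = 1)
    {T : Set (Fin n → F)} (hT : ∀ v ∈ T, Iso v)
    (hcom : ∀ v ∈ T, v ≠ 0 → ∀ y ∈ X.Fib v, Commute k y) {g : G}
    (hg : X.π g ∈ Subgroup.closure (tau hF '' T)) : Commute k g := by
  obtain ⟨l, hl, hlg⟩ : ∃ l, Commute k l ∧ X.π l = X.π g := by
    have hle : Subgroup.closure (tau hF '' T) ≤ (Subgroup.centralizer {k}).map X.π := by
      rw [Subgroup.closure_le]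
      rintro _ ⟨v, hv, rfl⟩
      by_cases h0 : v = 0
      · refine ⟨1, one_mem _, ?_⟩
        rw [map_one, h0]
        exact (idLift hF).d_zero.symm
      · obtain ⟨y, hy⟩ := X.exists_mem (hT v hv) h0
        exact ⟨y, Subgroup.mem_centralizer_singleton_iff.2 (hcom v hv h0 y hy).eq.symm, hy.2⟩
    obtain ⟨l, hl, e⟩ := hle hg
    exact ⟨l, (Subgroup.mem_centralizer_singleton_iff.1 hl).symm, e⟩
  have h1 : X.π (g * l⁻¹) = 1 := by rw [map_mul, map_inv, hlg, mul_inv_cancel]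
  have := (hV k _ hk h1).mul_right hl
  rwa [inv_mul_cancel_right] at this

/-- Moving a translation by a member of a different fibre. -/
theorem comm_mem_W {x : Fin n → F} {r k : G} (hx : Iso x) (hr : r ∈ X.Fib x) (hk : X.π k = 1)
    (hk2 : k * k = 1) : r * k * r * k ∈ X.W x := by
  have h : k * r * k⁻¹ ∈ X.Fib x := by
    have := X.fib_conj k hx hr
    rwa [hk, ap_one] at this
  rw [inv_eq_of_mul_eq_one_right hk2] at h
  have := X.mul_mem_W hr h
  rwa [show r * (k * r * k) = r * k * r * k by group] at this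

/-- A lift of `ζ_c` centralises no translation over a point orthogonal to `c`. -/
theorem W_zeta_trivial (hn : n = 5) (hV : ∀ a b, X.π a = 1 → X.π b = 1 → Commute a b)
    (hV2 : ∀ a, X.π a = 1 → a * a = 1) {w : F} (hw : w ^ 2 + w + 1 = 0) {c p : Fin n → F}
    (hc : ⟪c, c⟫ = 1) (hp : Iso p) (hpc : ⟪p, c⟫ = 0) {z : G} (hz : IsZeta w c (X.π z)) {u : G}
    (hu : u ∈ X.W p) (hzu : Commute z u) (hp0 : p ≠ 0) : u = 1 := by
  classical
  have hw0 := omega_ne_zero hw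
  have hcp : ⟪c, p⟫ = 0 := (herm_eq_zero_symm hF).1 hpc
  have hku : X.π u = 1 := X.W_ker hp hu
  obtain ⟨U, hU⟩ : ∃ U, U = perp 2 ({c} : Set (Fin n → F)) := ⟨_, rfl⟩
  obtain ⟨q, P, g2, gU⟩ := unitPerp_gen (idLift hF) hn hc hpc hp hp0
  rw [← hU] at P g2 gU
  have hd := unitPerp_finrank hF hc
  rw [← hU] at hd
  have hd2 := P.comp_finrank hF
  have hUnd : Nondeg 2 U := P.nd
  -- elements fixing `p` and generated by transvections orthogonal to `p` fix `u`
  have fixu : ∀ g, X.π g ∈ Subgroup.closure (tau hF '' {v | Iso v ∧ ⟪p, v⟫ = 0}) → Commute u g :=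
    fun g => X.commute_of_image hV hku (fun v hv => hv.1)
      fun v hv _ y hy => X.W_commute_fib hp hv.1 hv.2 hu hy
  have stab : ∀ g, ap (X.π g) c = c → ap (X.π g) p = p → Commute u g := by
    intro g hgc hgp
    obtain ⟨t, ht, l, hl, -, -, htl⟩ :=
      (idLift hF).exists_stab_eq P (by omega) le_rfl g2 (hU ▸ ap_fixer_perp hF hc hgc) hgp
    refine fixu g (htl ▸ mul_mem ?_ ?_)
    · have : (idLift hF).trans U p q ≤ Subgroup.closure (tau hF '' {v | Iso v ∧ ⟪p, v⟫ = 0}) := by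
        rw [Lift.trans, Subgroup.closure_le]
        rintro x (rfl | ⟨v, ⟨hv, hi, -⟩, rfl⟩)
        · exact Subgroup.subset_closure ⟨p, ⟨hp, hp⟩, rfl⟩
        · have hvp := (herm_eq_zero_symm hF).1 ((P.mem_comp hF).1 hv).2.1
          exact mul_mem (Subgroup.subset_closure ⟨v, ⟨hi, hvp⟩, rfl⟩)
            (Subgroup.subset_closure ⟨v + p, ⟨P.iso_add_p hF hv hi,
              by rw [herm_add_right hF, hvp, show ⟪p, p⟫ = 0 from hp, add_zero]⟩, rfl⟩)
      exact this ht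
    · have : (idLift hF).grp (comp U p q) ≤ Subgroup.closure (tau hF '' {v | Iso v ∧ ⟪p, v⟫ = 0}) :=
        Subgroup.closure_mono (Set.image_mono fun v hv =>
          ⟨hv.2, (herm_eq_zero_symm hF).1 ((P.mem_comp hF).1 hv.1).2.1⟩)
      exact this hl
  -- a scaling of `p`
  obtain ⟨k, hkc, hkp, hku'⟩ : ∃ k, ap (X.π k) c = c ∧ ap (X.π k) p = w • p ∧ Commute u k := by
    obtain ⟨f, hf, hfspan⟩ := exists_ON_basis hF _ (P.comp_nondeg hF)
    have hfm : ∀ i, f i ∈ comp U p q := fun i => hfspan ▸ Submodule.subset_span ⟨i, rfl⟩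
    have hfr := P.exists_frame hF hw
    have hfc : ∀ i, ⟪f i, c⟫ = 0 := fun i =>
      mem_perp_singleton.1 (hU ▸ ((P.mem_comp hF).1 (hfm i)).1)
    have hqc : ⟪q, c⟫ = 0 := mem_perp_singleton.1 (hU ▸ P.qU)
    let fr : Bool → Fin n → F := fun b => if b then p + w • q else p + w ^ 2 • q
    have hfrc : ∀ b, ⟪fr b, c⟫ = 0 := fun b => by
      cases b <;> simp [fr, herm_add_left, herm_smul_left, hpc, hqc]
    have hfrf : ∀ b i, ⟪fr b, f i⟫ = 0 := fun b i => by
      obtain ⟨-, h1, h2⟩ := (P.mem_comp hF).1 (hfm i)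
      cases b <;> simp [fr, herm_add_left, herm_smul_left, (herm_eq_zero_symm hF).1 h1,
        (herm_eq_zero_symm hF).1 h2]
    have h1 : ON 2 (fun _ : Unit => c) := fun i j => by rw [if_pos (Subsingleton.elim i j)]; exact hc
    have h2 : ON 2 (Sum.elim (fun _ : Unit => c) f) := h1.sum_elim hf
      (fun _ j => (herm_eq_zero_symm hF).1 (hfc j)) fun j _ => hfc j
    have hfull : ON 2 (Sum.elim fr (Sum.elim (fun _ : Unit => c) f)) := by
      refine hfr.sum_elim h2 ?_ ?_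
      · rintro b (i | i)
        · exact hfrc b
        · exact hfrf b i
      · rintro (i | i) b
        · exact (herm_eq_zero_symm hF).1 (hfrc b)
        · exact (herm_eq_zero_symm hF).1 (hfrf b i)
    let i₀ : Fin (Module.finrank F ↥(comp U p q)) := ⟨0, by omega⟩
    let ν : Bool ⊕ (Unit ⊕ Fin (Module.finrank F ↥(comp U p q))) → F :=
      Sum.elim (fun _ => 1) (Sum.elim (fun _ => w) fun i => if i = i₀ then w ^ 2 else 1)
    have hν : ∀ i, ν i ≠ 0 := by
      rintro (b | i | i)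
      · exact one_ne_zero
      · exact hw0
      · show (if i = i₀ then w ^ 2 else 1) ≠ 0
        split_ifs <;> simp [hw0]
    have hprod : ∏ i, ν i = 1 := by
      simp [ν, Fintype.prod_sum_type, mul_sq hF hw0]
    obtain ⟨D, hD⟩ := exists_diag hF hfull ν hν hprod
    have hcard : Fintype.card (Bool ⊕ (Unit ⊕ Fin (Module.finrank F ↥(comp U p q)))) = n := by
      simp
      omega
    -- `D` is supported on the plane of `c` and `f i₀`
    let S := Submodule.span F (Set.range (Sum.elim (fun _ : Unit => c) fun _ : Unit => f i₀))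
    have hS : ON 2 (Sum.elim (fun _ : Unit => c) fun _ : Unit => f i₀) :=
      h1.sum_elim (fun i j => by rw [if_pos (Subsingleton.elim i j), hf, if_pos rfl])
        (fun _ _ => (herm_eq_zero_symm hF).1 (hfc i₀)) fun _ _ => hfc i₀
    have hSfr : Module.finrank F S = 2 := by rw [hS.finrank_span]; rfl
    have hDfix : D ∈ fixer n F 2 (perp 2 (S : Set (Fin n → F))) := by
      intro x hx
      have hxc : ⟪x, c⟫ = 0 := hx _ (Submodule.subset_span ⟨Sum.inl (), rfl⟩)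
      have hxf : ⟪x, f i₀⟫ = 0 := hx _ (Submodule.subset_span ⟨Sum.inr (), rfl⟩)
      obtain ⟨e1, e2⟩ := diag_apply hF hfull hcard hD x
      rw [e1]
      nth_rw 2 [e2]
      refine Finset.sum_congr rfl fun i _ => ?_
      rcases i with b | i | i
      · simp [ν]
      · simp [hxc]
      · show ((if i = i₀ then w ^ 2 else 1) * ⟪x, f i⟫) • f i = _
        split_ifs with h
        · subst h; simp [hxf]
        · simp
    obtain ⟨l, hl, hlD⟩ := ((idLift hF).base_two hS.nondeg hSfr).1 D hDfix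
    have hDmem : D ∈ Subgroup.closure (tau hF '' {v | Iso v ∧ ⟪p, v⟫ = 0}) := by
      have hle : (idLift hF).grp S ≤ Subgroup.closure (tau hF '' {v | Iso v ∧ ⟪p, v⟫ = 0}) :=
        Subgroup.closure_mono (Set.image_mono fun v hv => by
          refine ⟨hv.2, ?_⟩
          have hSp : S ≤ perp 2 ({p} : Set (Fin n → F)) := by
            rw [Submodule.span_le]
            rintro _ ⟨i | i, rfl⟩
            · exact mem_perp_singleton.2 hcp
            · exact mem_perp_singleton.2 ((P.mem_comp hF).1 (hfm i₀)).2.1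
          exact (herm_eq_zero_symm hF).1 (mem_perp_singleton.1 (hSp hv.1)))
      exact hlD ▸ hle hl
    obtain ⟨d, hd⟩ := X.surj D
    have hDc : ap D c = w • c := hD (Sum.inr (Sum.inl ()))
    refine ⟨z * d, ?_, ?_, hzu.symm.mul_right (fixu d (by rw [hd]; exact hDmem))⟩
    · rw [map_mul, ap_mul, hd, hDc, ap_smul, hz.on_c, smul_smul, mul_sq hF hw0, one_smul]
    · have hDp : ap D p = p := by
        refine hDfix p fun x hx => ?_
        have hSp : S ≤ perp 2 ({p} : Set (Fin n → F)) := by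
          rw [Submodule.span_le]
          rintro _ ⟨i | i, rfl⟩
          · exact mem_perp_singleton.2 hcp
          · exact mem_perp_singleton.2 ((P.mem_comp hF).1 (hfm i₀)).2.1
        exact (herm_eq_zero_symm hF).1 (mem_perp_singleton.1 (hSp hx))
      rw [map_mul, ap_mul, hd, hDp, hz.on_perp p hpc]
  -- the transported translations
  have scal : ∀ μ : F, μ ≠ 0 → ∃ g, ap (X.π g) c = c ∧ ap (X.π g) p = μ • p ∧ Commute u g := by
    intro μ hμ
    rcases omega_cases hF hw μ with rfl | rfl | rfl | rfl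
    · exact absurd rfl hμ
    · exact ⟨1, by simp, by simp, Commute.one_right u⟩
    · exact ⟨k, hkc, hkp, hku'⟩
    · exact ⟨k * k, by rw [map_mul, ap_mul, hkc, hkc],
        by rw [map_mul, ap_mul, hkp, ap_smul, hkp, smul_smul, pow_two], hku'.mul_right hku'⟩
  obtain ⟨ux, hux⟩ : ∃ ux : (Fin n → F) → G → Prop, ∀ x g, ux x g ↔
      ∃ μ : F, μ ≠ 0 ∧ ap (X.π g) c = c ∧ ap (X.π g) p = μ • x := ⟨_, fun _ _ => Iff.rfl⟩
  have wd : ∀ x g g', ux x g → ux x g' → g * u * g⁻¹ = g' * u * g'⁻¹ := by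
    intro x g g' hg hg'
    obtain ⟨μ, hμ, hgc, hgp⟩ := (hux x g).1 hg
    obtain ⟨μ', hμ', hgc', hgp'⟩ := (hux x g').1 hg'
    obtain ⟨s, hsc, hsp, hsu⟩ := scal (μ⁻¹ * μ') (mul_ne_zero (inv_ne_zero hμ) hμ')
    have h1 : Commute u ((g * s)⁻¹ * g') := by
      refine stab _ ?_ ?_
      · rw [map_mul, map_inv, ap_mul, hgc']
        refine ap_injective (X.π (g * s)) ?_
        rw [ap_ap_inv, map_mul, ap_mul, hsc, hgc]
      · rw [map_mul, map_inv, ap_mul, hgp']
        refine ap_injective (X.π (g * s)) ?_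
        rw [ap_ap_inv, map_mul, ap_mul, hsp, ap_smul, hgp, smul_smul, mul_comm μ⁻¹, mul_assoc,
          inv_mul_cancel₀ hμ, mul_one]
    have h2 := hsu.mul_right h1
    rw [mul_inv_rev, ← mul_assoc, ← mul_assoc, mul_inv_cancel, one_mul] at h2
    calc g * u * g⁻¹ = g * (u * (g⁻¹ * g')) * g'⁻¹ := by group
      _ = g * (g⁻¹ * g' * u) * g'⁻¹ := by rw [h2.eq]
      _ = g' * u * g'⁻¹ := by group
  have exu : ∀ x, Iso x → ⟪x, c⟫ = 0 → x ≠ 0 → ∃ g, ux x g ∧ g * u * g⁻¹ ∈ X.W x := by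
    intro x hx hxc hx0
    obtain ⟨a, ha, hap⟩ := (idLift hF).exists_move hUnd (by omega) P.pU
      (hU ▸ mem_perp_singleton.2 hxc) hp hx hp0 hx0
    obtain ⟨g, hg⟩ := X.surj a
    have hap' : ap (X.π g) p = x := by rw [hg]; exact hap
    refine ⟨g, (hux x g).2 ⟨1, one_ne_zero, ?_, by rw [one_smul, hap']⟩, hap' ▸ X.W_conj g hp hu⟩
    rw [hg]
    exact (idLift hF).grp_fix ha c fun s hs =>
      (herm_eq_zero_symm hF).1 (mem_perp_singleton.1 (hU ▸ hs))
  -- the member over `x` takes the translation over `y` to the one over `x`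
  have hN : ∀ x y, Iso x → Iso y → ⟪x, c⟫ = 0 → ⟪y, c⟫ = 0 → ⟪y, x⟫ ≠ 0 → ∀ r ∈ X.Fib x,
      ∀ gx gy, ux x gx → ux y gy →
        r * (gy * u * gy⁻¹) * r * (gy * u * gy⁻¹) = gx * u * gx⁻¹ := by
    intro x y hx hy hxc hyc hh r hr gx gy hgx hgy
    obtain ⟨μ, hμ, hgc, hgp⟩ := (hux y gy).1 hgy
    obtain ⟨ν', hν', hgxc, hgxp⟩ := (hux x gx).1 hgx
    have hy0 : y ≠ 0 := fun h => hh (by rw [h, herm_zero_left])
    obtain ⟨r', hr'⟩ := X.exists_mem hy hy0
    have hrc : ap (X.π r) c = c := by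
      rw [X.ap_fib hx hr, (herm_eq_zero_symm hF).1 hxc, zero_smul, add_zero]
    have hr'c : ap (X.π r') c = c := by
      rw [X.ap_fib hy hr', (herm_eq_zero_symm hF).1 hyc, zero_smul, add_zero]
    obtain ⟨z', hz'⟩ : ∃ z', z' = y + ⟪y, x⟫ • x := ⟨_, rfl⟩
    have hrz : ap (X.π r) y = z' := by rw [hz', X.ap_fib hx hr]
    have hr'z : ap (X.π r') z' = ⟪y, x⟫ • x := by
      rw [X.ap_fib hy hr', hz', herm_add_left, herm_smul_left, show ⟪y, y⟫ = 0 from hy, zero_add,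
        ← herm_swap hF y x, mul_sq hF hh, one_smul, add_right_comm, vadd_self hF, zero_add]
    have key := wd x (r' * r * gy) gx ((hux x _).2 ⟨μ * ⟪y, x⟫, mul_ne_zero hμ hh,
      by rw [map_mul, map_mul, ap_mul, ap_mul, hgc, hrc, hr'c],
      by rw [map_mul, map_mul, ap_mul, ap_mul, hgp, ap_smul, hrz, ap_smul, hr'z, smul_smul]⟩) hgx
    obtain ⟨a, ha⟩ : ∃ a, a = gy * u * gy⁻¹ := ⟨_, rfl⟩
    rw [← ha]
    have hgyp : Iso (ap (X.π gy) p) := by show hermForm n F 2 _ _ = 0; rw [herm_ap]; exact hp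
    have haW : a ∈ X.W y := by
      have := X.W_conj gy hp hu
      rw [hgp, X.W_smul hy hμ] at this
      exact ha ▸ this
    have hgxW : gx * u * gx⁻¹ ∈ X.W x := by
      have := X.W_conj gx hp hu
      rwa [hgxp, X.W_smul hx hν'] at this
    have hka : X.π a = 1 := X.W_ker hy haW
    have hWm : r * a * r * a ∈ X.W x := X.comm_mem_W hx hr hka (hV2 a hka)
    have hkW : X.π (r * a * r * a) = 1 := X.W_ker hx hWm
    have hm : r' * (r * a * r * a) * r' * (r * a * r * a) ∈ X.W y :=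
      X.comm_mem_W hy hr' hkW (hV2 _ hkW)
    have hxe : gx * u * gx⁻¹ = r' * (r * a * r) * r' := by
      rw [← key, ha, mul_inv_rev, mul_inv_rev, X.inv_eq hr.1, X.inv_eq hr'.1]
      group
    have h5 : gx * u * gx⁻¹ =
        r' * (r * a * r * a) * r' * (r * a * r * a) * (r * a * r * a)⁻¹ * a := by
      rw [mul_assoc (r' * (r * a * r * a) * r') (r * a * r * a), mul_inv_cancel, mul_one, hxe]
      have hca : a * r' * a = r' := by
        rw [(X.W_commute_fib hy hy hy haW hr').eq, mul_assoc, hV2 a hka, mul_one]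
      calc r' * (r * a * r) * r' = r' * (r * a * r) * (a * r' * a) := by rw [hca]
        _ = _ := by group
    obtain ⟨m, hm'⟩ : ∃ m, m = r' * (r * a * r * a) * r' * (r * a * r * a) := ⟨_, rfl⟩
    obtain ⟨ww, hww⟩ : ∃ ww, ww = r * a * r * a := ⟨_, rfl⟩
    rw [← hm', ← hww] at h5
    rw [← hm'] at hm
    rw [← hww] at hWm ⊢
    have h6 : gx * u * gx⁻¹ * ww = m * a := by
      rw [h5, mul_assoc (m * ww⁻¹) a ww,
        (hV a ww hka (X.W_ker hx hWm)).eq, ← mul_assoc, mul_assoc m ww⁻¹ ww, inv_mul_cancel, mul_one]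
    have hne : ∀ c' : F, y ≠ c' • x := fun c' e => hh (by
      rw [e, herm_smul_left, show ⟪x, x⟫ = 0 from hx, mul_zero])
    have hx0 : x ≠ 0 := fun h => hh (by rw [h, herm_zero_right hF])
    have h7 := X.W_inter hx hy hx0 hne (mul_mem hgxW hWm) (h6 ▸ mul_mem hm haW)
    rw [eq_inv_of_mul_eq_one_left h7, inv_eq_of_mul_eq_one_right (hV2 _ (X.W_ker hx hWm))]
  -- a line through `p`
  obtain ⟨v, hv, hv0, hvi⟩ := exists_isotropic hF (P.comp_nondeg hF) (by omega)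
  obtain ⟨hvU, hvp, hvq⟩ := (P.mem_comp hF).1 hv
  have hvc : ⟪v, c⟫ = 0 := mem_perp_singleton.1 (hU ▸ hvU)
  have hpv : ⟪p, v⟫ = 0 := (herm_eq_zero_symm hF).1 hvp
  have hl : IsLine p v := ⟨hp, hvi, hpv, hp0, fun a e => hv0 (by
    have := congrArg (fun x => ⟪x, q⟫) e
    simp only [herm_smul_left, P.pq, mul_one, hvq] at this
    rw [e, ← this, zero_smul])⟩
  -- the relation of the line on an auxiliary translation
  have rel : ∀ x₀ x₁, IsLine x₀ x₁ → ⟪x₀, c⟫ = 0 → ⟪x₁, c⟫ = 0 → ∀ g₁ g₂ g₃ g₄,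
      ux x₁ g₁ → ux (x₀ + x₁) g₂ → ux (x₀ + w • x₁) g₃ → ux (x₀ + w ^ 2 • x₁) g₄ →
      (g₁ * u * g₁⁻¹) * (g₂ * u * g₂⁻¹) * (g₃ * u * g₃⁻¹) * (g₄ * u * g₄⁻¹) = 1 := by
    intro x₀ x₁ hline h0c h1c g₁ g₂ g₃ g₄ hg₁ hg₂ hg₃ hg₄
    have hn' : 4 ≤ Module.finrank F U := by omega
    have hind : LinearIndependent F ![x₁, x₀] := by
      rw [LinearIndependent.pair_iff' (hline.v0)]
      intro a ha
      by_cases ha0 : a = 0
      · exact hline.u0 (by rw [← ha, ha0, zero_smul])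
      · exact hline.indep a⁻¹ (by rw [← ha, smul_smul, inv_mul_cancel₀ ha0, one_smul])
    obtain ⟨y, hyU, hyi, hy1, hy0⟩ := exists_iso_pair hF hUnd (by omega)
      (hU ▸ mem_perp_singleton.2 h1c) (hU ▸ mem_perp_singleton.2 h0c) hline.iv hline.iu hind
      (a := (1 : F)) (b := 0) one_ne_zero
    have hyc : ⟪y, c⟫ = 0 := mem_perp_singleton.1 (hU ▸ hyU)
    have hyne : y ≠ 0 := fun h => by rw [h, herm_zero_left] at hy1; exact zero_ne_one hy1
    obtain ⟨gy, hgy, hgyW⟩ := exu y hyi hyc hyne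
    obtain ⟨a, ha⟩ : ∃ a, a = gy * u * gy⁻¹ := ⟨_, rfl⟩
    rw [← ha] at hgyW
    have hka : X.π a = 1 := X.W_ker hyi hgyW
    have i2 : Iso (x₀ + x₁) := by simpa using hline.iso_add hF 1
    have n2 : x₀ + x₁ ≠ 0 := by simpa using hline.add_ne hF 1
    obtain ⟨r₁, hr₁⟩ := X.exists_mem hline.iv hline.v0
    obtain ⟨r₂, hr₂⟩ := X.exists_mem i2 n2
    obtain ⟨r₃, hr₃⟩ := X.exists_mem (hline.iso_add hF w) (hline.add_ne hF w)
    obtain ⟨r₄, hr₄⟩ := X.exists_mem (hline.iso_add hF (w ^ 2)) (hline.add_ne hF (w ^ 2))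
    obtain ⟨r₀, hr₀⟩ := X.exists_mem hline.iu hline.u0
    have e1 := hN _ _ hline.iv hyi h1c hyc (by rw [hy1]; exact one_ne_zero) r₁ hr₁ g₁ gy hg₁ hgy
    have hlc : ∀ t : F, ⟪x₀ + t • x₁, c⟫ = 0 := fun t => by
      rw [herm_add_left, herm_smul_left, h0c, h1c, mul_zero, add_zero]
    have hly : ∀ t : F, t ≠ 0 → ⟪y, x₀ + t • x₁⟫ ≠ 0 := fun t ht => by
      rw [herm_add_right hF, herm_smul_right, hy0, hy1, mul_one, zero_add]
      exact pow_ne_zero _ ht
    have e2 := hN _ _ i2 hyi (by simpa using hlc 1) hyc (by simpa using hly 1 one_ne_zero)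
      r₂ hr₂ g₂ gy hg₂ hgy
    have e3 := hN _ _ (hline.iso_add hF w) hyi (hlc w) hyc (hly w hw0) r₃ hr₃ g₃ gy hg₃ hgy
    have e4 := hN _ _ (hline.iso_add hF (w ^ 2)) hyi (hlc _) hyc (hly _ (pow_ne_zero 2 hw0))
      r₄ hr₄ g₄ gy hg₄ hgy
    rw [← ha] at e1 e2 e3 e4
    have h0 : r₀ * a = a * r₀ :=
      (X.W_commute_fib hyi hline.iu hy0 hgyW hr₀).eq.symm
    have hvu : ⟪x₁, x₀⟫ = 0 := (herm_eq_zero_symm hF).1 hline.orth
    have ou : ∀ a : F, ⟪x₀ + a • x₁, x₀⟫ = 0 := fun a => by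
      rw [herm_add_left, herm_smul_left, show ⟪x₀, x₀⟫ = 0 from hline.iu, hvu, mul_zero, add_zero]
    have ov : ∀ a : F, ⟪x₀ + a • x₁, x₁⟫ = 0 := fun a => by
      rw [herm_add_left, herm_smul_left, show ⟪x₁, x₁⟫ = 0 from hline.iv, hline.orth, mul_zero,
        add_zero]
    have o : ∀ a b : F, ⟪x₀ + a • x₁, x₀ + b • x₁⟫ = 0 := fun a b => by
      rw [herm_add_right hF, herm_smul_right, ou, ov, mul_zero, add_zero]
    obtain ⟨P5, hP5⟩ : ∃ P5, P5 = r₀ * r₁ * r₂ * r₃ * r₄ := ⟨_, rfl⟩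
    have hP : X.π P5 = 1 := by
      rw [hP5]
      simp only [map_mul, hr₀.2, hr₁.2, hr₂.2, hr₃.2, hr₄.2]
      exact tau_line hF hline hw
    have hca := (hV P5 a hP hka).eq
    obtain ⟨a₁, ha₁⟩ : ∃ a₁, a₁ = g₁ * u * g₁⁻¹ := ⟨_, rfl⟩
    obtain ⟨a₂, ha₂⟩ : ∃ a₂, a₂ = g₂ * u * g₂⁻¹ := ⟨_, rfl⟩
    obtain ⟨a₃, ha₃⟩ : ∃ a₃, a₃ = g₃ * u * g₃⁻¹ := ⟨_, rfl⟩
    obtain ⟨a₄, ha₄⟩ : ∃ a₄, a₄ = g₄ * u * g₄⁻¹ := ⟨_, rfl⟩
    rw [← ha₁] at e1; rw [← ha₂] at e2; rw [← ha₃] at e3; rw [← ha₄] at e4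
    rw [← ha₁, ← ha₂, ← ha₃, ← ha₄]
    have memW : ∀ {x g}, Iso x → ux x g → g * u * g⁻¹ ∈ X.W x := fun {x g} hx hg => by
      obtain ⟨μ, hμ, -, hgp⟩ := (hux x g).1 hg
      have := X.W_conj g hp hu
      rwa [hgp, X.W_smul hx hμ] at this
    have w1 : a₁ ∈ X.W x₁ := ha₁ ▸ memW hline.iv hg₁
    have w2 : a₂ ∈ X.W (x₀ + x₁) := ha₂ ▸ memW i2 hg₂
    have w3 : a₃ ∈ X.W (x₀ + w • x₁) := ha₃ ▸ memW (hline.iso_add hF w) hg₃
    have w4 : a₄ ∈ X.W (x₀ + w ^ 2 • x₁) := ha₄ ▸ memW (hline.iso_add hF (w ^ 2)) hg₄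
    have cj : ∀ {r b : G}, r * r = 1 → r * a * r * a = b → r * a = b * a * r := by
      intro r b hr hb
      rw [← hb, mul_assoc (r * a * r) a a, hV2 a hka, mul_one, mul_assoc (r * a) r r, hr, mul_one]
    have s4 := cj (X.mul_self hr₄.1) e4
    have s3 := cj (X.mul_self hr₃.1) e3
    have s2 := cj (X.mul_self hr₂.1) e2
    have s1 := cj (X.mul_self hr₁.1) e1
    have f34 : r₃ * a₄ = a₄ * r₃ :=
      (X.W_commute_fib (hline.iso_add hF (w ^ 2)) (hline.iso_add hF w) (o _ _) w4 hr₃).eq.symm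
    have f24 : r₂ * a₄ = a₄ * r₂ :=
      (X.W_commute_fib (hline.iso_add hF (w ^ 2)) i2 (by simpa using o (w ^ 2) 1) w4 hr₂).eq.symm
    have f14 : r₁ * a₄ = a₄ * r₁ :=
      (X.W_commute_fib (hline.iso_add hF (w ^ 2)) hline.iv (ov _) w4 hr₁).eq.symm
    have f04 : r₀ * a₄ = a₄ * r₀ :=
      (X.W_commute_fib (hline.iso_add hF (w ^ 2)) hline.iu (ou _) w4 hr₀).eq.symm
    have f23 : r₂ * a₃ = a₃ * r₂ :=
      (X.W_commute_fib (hline.iso_add hF w) i2 (by simpa using o w 1) w3 hr₂).eq.symm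
    have f13 : r₁ * a₃ = a₃ * r₁ :=
      (X.W_commute_fib (hline.iso_add hF w) hline.iv (ov _) w3 hr₁).eq.symm
    have f03 : r₀ * a₃ = a₃ * r₀ :=
      (X.W_commute_fib (hline.iso_add hF w) hline.iu (ou _) w3 hr₀).eq.symm
    have f12 : r₁ * a₂ = a₂ * r₁ :=
      (X.W_commute_fib i2 hline.iv (by simpa using ov 1) w2 hr₁).eq.symm
    have f02 : r₀ * a₂ = a₂ * r₀ :=
      (X.W_commute_fib i2 hline.iu (by simpa using ou 1) w2 hr₀).eq.symm
    have f01 : r₀ * a₁ = a₁ * r₀ := (X.W_commute_fib hline.iv hline.iu hvu w1 hr₀).eq.symm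
    have hrun : P5 * a = a₄ * a₃ * a₂ * a₁ * (a * P5) := by
      rw [hP5]
      calc r₀ * r₁ * r₂ * r₃ * r₄ * a = r₀ * r₁ * r₂ * r₃ * (r₄ * a) := by group
        _ = r₀ * r₁ * r₂ * (r₃ * a₄) * a * r₄ := by rw [s4]; group
        _ = r₀ * r₁ * (r₂ * a₄) * (r₃ * a) * r₄ := by rw [f34]; group
        _ = r₀ * (r₁ * a₄) * (r₂ * a₃) * a * r₃ * r₄ := by rw [f24, s3]; group
        _ = (r₀ * a₄) * (r₁ * a₃) * (r₂ * a) * r₃ * r₄ := by rw [f14, f23]; group
        _ = a₄ * (r₀ * a₃) * (r₁ * a₂) * a * r₂ * r₃ * r₄ := by rw [f04, f13, s2]; group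
        _ = a₄ * a₃ * (r₀ * a₂) * (r₁ * a) * r₂ * r₃ * r₄ := by rw [f03, f12]; group
        _ = a₄ * a₃ * a₂ * (r₀ * a₁) * a * r₁ * r₂ * r₃ * r₄ := by rw [f02, s1]; group
        _ = a₄ * a₃ * a₂ * a₁ * (r₀ * a) * r₁ * r₂ * r₃ * r₄ := by rw [f01]; group
        _ = _ := by rw [h0]; group
    have h4 : a₄ * a₃ * a₂ * a₁ = 1 := by
      rw [← mul_right_cancel_iff (a := a * P5), one_mul, ← hrun, hca]
    have k1 : X.π a₁ = 1 := X.W_ker hline.iv w1
    have k2 : X.π a₂ = 1 := X.W_ker i2 w2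
    have k3 : X.π a₃ = 1 := X.W_ker (hline.iso_add hF w) w3
    have k4 : X.π a₄ = 1 := X.W_ker (hline.iso_add hF (w ^ 2)) w4
    have := congrArg (·⁻¹) h4
    simp only [mul_inv_rev, inv_one, inv_eq_of_mul_eq_one_right (hV2 _ k1),
      inv_eq_of_mul_eq_one_right (hV2 _ k2), inv_eq_of_mul_eq_one_right (hV2 _ k3),
      inv_eq_of_mul_eq_one_right (hV2 _ k4), ← mul_assoc] at this
    exact this
  have i2 : Iso (p + v) := by simpa using hl.iso_add hF 1
  have n2 : p + v ≠ 0 := by simpa using hl.add_ne hF 1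
  have hlc : ∀ t : F, ⟪p + t • v, c⟫ = 0 := fun t => by
    rw [herm_add_left, herm_smul_left, hpc, hvc, mul_zero, add_zero]
  obtain ⟨g₁, hg₁, hg₁W⟩ := exu v hvi hvc hv0
  obtain ⟨g₂, hg₂, hg₂W⟩ := exu _ i2 (by simpa using hlc 1) n2
  obtain ⟨g₃, hg₃, hg₃W⟩ := exu _ (hl.iso_add hF w) (hlc w) (hl.add_ne hF w)
  obtain ⟨g₄, hg₄, hg₄W⟩ := exu _ (hl.iso_add hF (w ^ 2)) (hlc _) (hl.add_ne hF _)
  have r1 := rel p v hl hpc hvc g₁ g₂ g₃ g₄ hg₁ hg₂ hg₃ hg₄
  have hl' : IsLine v p := ⟨hvi, hp, hvp, hv0, fun a e => by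
    by_cases ha : a = 0
    · exact hp0 (by rw [e, ha, zero_smul])
    · exact hl.indep a⁻¹ (by rw [e, smul_smul, inv_mul_cancel₀ ha, one_smul])⟩
  have scaleux : ∀ {x g} (a : F), a ≠ 0 → ux x g → ux (a • x) g := by
    intro x g a ha h
    obtain ⟨μ, hμ, h1, h2⟩ := (hux x g).1 h
    refine (hux _ g).2 ⟨μ * a⁻¹, mul_ne_zero hμ (inv_ne_zero ha), h1, ?_⟩
    rw [h2, smul_smul, mul_assoc, inv_mul_cancel₀ ha, mul_one]
  have ew : v + w • p = w • (p + w ^ 2 • v) := by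
    rw [smul_add, smul_smul, mul_sq hF hw0, one_smul, add_comm]
  have ew2 : v + w ^ 2 • p = w ^ 2 • (p + w • v) := by
    rw [smul_add, smul_smul, mul_comm (w ^ 2), mul_sq hF hw0, one_smul, add_comm]
  have hu1 : ux p (1 : G) := (hux p 1).2 ⟨1, one_ne_zero, by simp, by simp⟩
  have r2 := rel v p hl' hvc hpc 1 g₂ g₄ g₃ hu1 (by rw [add_comm]; exact hg₂)
    (ew ▸ scaleux w hw0 hg₄) (ew2 ▸ scaleux (w ^ 2) (pow_ne_zero 2 hw0) hg₃)
  simp only [one_mul, inv_one, mul_one] at r2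
  rw [mul_assoc (_ * _) (g₄ * u * g₄⁻¹),
    (hV _ _ (X.W_ker (hl.iso_add hF (w ^ 2)) hg₄W) (X.W_ker (hl.iso_add hF w) hg₃W)).eq,
    ← mul_assoc, ← r1, mul_right_cancel_iff, mul_right_cancel_iff, mul_right_cancel_iff] at r2
  exact X.W_inter hp hvi hp0 hl.indep hu (r2 ▸ hg₁W)

/-- A lift of `ζ_c` centralises nothing in the kernel. -/
theorem ker_zeta_trivial (hn : n = 5) (hV : ∀ a b, X.π a = 1 → X.π b = 1 → Commute a b)
    (hV2 : ∀ a, X.π a = 1 → a * a = 1) {w : F} (hw : w ^ 2 + w + 1 = 0) {c : Fin n → F}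
    (hc : ⟪c, c⟫ = 1) {z : G} (hz : IsZeta w c (X.π z)) {k : G} (hk : X.π k = 1)
    (hzk : Commute z k) : k = 1 := by
  have hw0 := omega_ne_zero hw
  have hperp : ∀ y, Iso y → y ≠ 0 → ⟪y, c⟫ = 0 → ∀ r ∈ X.Fib y, Commute k r := by
    intro y hy hy0 hyc r hr
    have hr' : z * r * z⁻¹ ∈ X.Fib y := by
      have := X.fib_conj z hy hr
      rwa [hz.on_perp y hyc, X.fib_smul hy hw0] at this
    have hW := X.comm_mem_W hy hr hk (hV2 k hk)
    have he : r * (z * r * z⁻¹) ∈ X.W y := X.mul_mem_W hr hr'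
    have hfix : Commute z (r * k * r * k) := by
      obtain ⟨e, he'⟩ : ∃ e, e = r * (z * r * z⁻¹) := ⟨_, rfl⟩
      rw [← he'] at he
      have h1 : z * r * z⁻¹ = r * e := by rw [he', ← mul_assoc, X.mul_self hr.1, one_mul]
      refine mul_inv_eq_iff_eq_mul.1 ?_
      have hke : k * e = e * k := (hV k e hk (X.W_ker hy he)).eq
      have hre : r * e = e * r := (X.W_commute_fib hy hy hy he hr).eq.symm
      calc z * (r * k * r * k) * z⁻¹
          = (z * r * z⁻¹) * (z * k * z⁻¹) * (z * r * z⁻¹) * (z * k * z⁻¹) := by group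
        _ = r * e * k * (r * e) * k := by rw [h1, hzk.eq, mul_inv_cancel_right]
        _ = r * (e * k) * (r * e) * k := by group
        _ = r * k * (e * r) * e * k := by rw [← hke]; group
        _ = r * k * r * (e * e) * k := by rw [← hre]; group
        _ = _ := by rw [X.W_sq hy he]; group
    have h0 := X.W_zeta_trivial hn hV hV2 hw hc hy hyc hz hW hfix hy0
    show k * r = r * k
    calc k * r = r * (r * k * r * k)⁻¹⁻¹ * k⁻¹ := by
          rw [inv_inv, ← mul_assoc, ← mul_assoc, ← mul_assoc, X.mul_self hr.1, one_mul,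
            mul_inv_cancel_right]
      _ = r * k := by rw [h0, inv_one, inv_one, mul_one, inv_eq_of_mul_eq_one_right (hV2 k hk)]
  have hperp' : ∀ c', ⟪c', c'⟫ = 1 → ⟪c', c⟫ = 0 → ∀ y, Iso y → y ≠ 0 → ⟪y, c'⟫ = 0 →
      ∀ r ∈ X.Fib y, Commute k r := by
    intro c' hc' hc'c y hy hy0 hyc r hr
    obtain ⟨a', ha'⟩ := exists_zeta hF hn hw hc'
    obtain ⟨z', hz'⟩ := X.surj a'
    rw [← hz'] at ha'
    have h1 : Commute k (z' * z) := by
      obtain ⟨p, hp, hp0, hpi⟩ :=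
        exists_isotropic hF (unitPerp_nondeg hF hc) (by have := unitPerp_finrank hF hc; omega)
      obtain ⟨-, -, -, gU⟩ :=
        unitPerp_gen (idLift hF) hn hc (mem_perp_singleton.1 hp) hpi hp0
      have hfix : ap (X.π (z' * z)) c = c := by
        rw [map_mul, ap_mul, hz.on_c, ap_smul, ha'.on_perp c ((herm_eq_zero_symm hF).1 hc'c),
          smul_smul, mul_comm, mul_sq hF hw0, one_smul]
      obtain ⟨l, hl, hle⟩ := gU _ (ap_fixer_perp hF hc hfix)
      refine X.commute_of_image hV hk (T := {v | v ∈ perp 2 ({c} : Set (Fin n → F)) ∧ Iso v})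
        (fun v hv => hv.2) (fun v hv h0 r hr => hperp v hv.2 h0 (mem_perp_singleton.1 hv.1) r hr) ?_
      exact hle ▸ hl
    have h2 := h1.mul_right hzk.symm.inv_right
    rw [mul_inv_cancel_right] at h2
    -- now repeat the argument at `c'`
    have hr' : z' * r * z'⁻¹ ∈ X.Fib y := by
      have := X.fib_conj z' hy hr
      rwa [ha'.on_perp y hyc, X.fib_smul hy hw0] at this
    have hW := X.comm_mem_W hy hr hk (hV2 k hk)
    have he : r * (z' * r * z'⁻¹) ∈ X.W y := X.mul_mem_W hr hr'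
    have hfix : Commute z' (r * k * r * k) := by
      obtain ⟨e, he'⟩ : ∃ e, e = r * (z' * r * z'⁻¹) := ⟨_, rfl⟩
      rw [← he'] at he
      have h1 : z' * r * z'⁻¹ = r * e := by rw [he', ← mul_assoc, X.mul_self hr.1, one_mul]
      refine mul_inv_eq_iff_eq_mul.1 ?_
      have hke : k * e = e * k := (hV k e hk (X.W_ker hy he)).eq
      have hre : r * e = e * r := (X.W_commute_fib hy hy hy he hr).eq.symm
      calc z' * (r * k * r * k) * z'⁻¹
          = (z' * r * z'⁻¹) * (z' * k * z'⁻¹) * (z' * r * z'⁻¹) * (z' * k * z'⁻¹) := by group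
        _ = r * e * k * (r * e) * k := by rw [h1, h2.symm.eq, mul_inv_cancel_right]
        _ = r * (e * k) * (r * e) * k := by group
        _ = r * k * (e * r) * e * k := by rw [← hke]; group
        _ = r * k * r * (e * e) * k := by rw [← hre]; group
        _ = _ := by rw [X.W_sq hy he]; group
    have h0 := X.W_zeta_trivial hn hV hV2 hw hc' hy hyc ha' hW hfix hy0
    show k * r = r * k
    calc k * r = r * (r * k * r * k)⁻¹⁻¹ * k⁻¹ := by
          rw [inv_inv, ← mul_assoc, ← mul_assoc, ← mul_assoc, X.mul_self hr.1, one_mul,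
            mul_inv_cancel_right]
      _ = r * k := by rw [h0, inv_one, inv_one, mul_one, inv_eq_of_mul_eq_one_right (hV2 k hk)]
  have hcen : k ∈ Subgroup.center G := by
    rw [Subgroup.mem_center_iff]
    intro g
    have hle : Subgroup.closure X.D ≤ Subgroup.centralizer {k} := (Subgroup.closure_le _).2 (by
      intro x hx
      obtain ⟨y, hy, hy0, hxy⟩ := X.exists_vec hx
      obtain ⟨c', h1, h2, h3⟩ := exists_unit_two hF (by omega) hc y
      exact Subgroup.mem_centralizer_singleton_iff.2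
        (hperp' c' h1 h2 y hy hy0 ((herm_eq_zero_symm hF).1 h3) x hxy).eq.symm)
    rw [X.isClass.2.2] at hle
    exact Subgroup.mem_centralizer_singleton_iff.1 (hle (Subgroup.mem_top g))
  rwa [X.center_eq, Subgroup.mem_bot] at hcen

end Ext

end Cfsg.Agent.Coprime.UTT
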