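import Cfsg.Agent.Coprime.UTT.Basic

/-!
# The stabiliser of an isotropic vector in the group of a lift
-/

set_option autoImplicit false
set_option linter.unusedSectionVars false

namespace Cfsg.Agent.Coprime.UTT

open Cfsg Cfsg.Agent.Unitary

variable {F : Type*} [Field F] [Fintype F] {n : ℕ}

local notation "⟪" u ", " v "⟫" => hermForm n F 2 u v

/-- A hyperbolic pair in a non-degenerate subspace. -/
structure Pair (U : Submodule F (Fin n → F)) (p q : Fin n → F) : Prop where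
  nd : Nondeg 2 U
  pU : p ∈ U
  qU : q ∈ U
  ip : Iso p
  iq : Iso q
  pq : ⟪p, q⟫ = 1
  qp : ⟪q, p⟫ = 1

/-- The orthogonal complement of the pair inside the subspace. -/
abbrev comp (U : Submodule F (Fin n → F)) (p q : Fin n → F) : Submodule F (Fin n → F) :=
  U ⊓ perp 2 (Submodule.span F ({p, q} : Set (Fin n → F)) : Set (Fin n → F))

namespace Pair

variable (hF : Fintype.card F = 2 ^ 2) {U : Submodule F (Fin n → F)} {p q : Fin n → F}
  (P : Pair U p q)

include P

theorem p_ne : p ≠ 0 := by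
  intro h
  have := P.pq
  rw [h, herm_zero_left] at this
  exact zero_ne_one this

include hF

theorem mem_comp {x : Fin n → F} : x ∈ comp U p q ↔ x ∈ U ∧ ⟪x, p⟫ = 0 ∧ ⟪x, q⟫ = 0 := by
  rw [Submodule.mem_inf, perp_span hF, mem_perp_pair]

theorem comp_nondeg : Nondeg 2 (comp U p q) :=
  inf_perp_nondeg hF P.nd (nondeg_pair hF P.ip P.iq (by rw [P.pq]; exact one_ne_zero))
    (span_pair_le P.pU P.qU)

theorem comp_finrank : Module.finrank F ↥(comp U p q) + 2 = Module.finrank F U := by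
  have h1 := inf_perp_finrank hF (nondeg_pair hF P.ip P.iq (by rw [P.pq]; exact one_ne_zero))
    (span_pair_le P.pU P.qU)
  rw [finrank_pair (indep_pair hF P.ip (by rw [P.pq]; exact one_ne_zero))] at h1
  simp only [comp]
  omega

theorem split {x : Fin n → F} (hx : x ∈ U) :
    ∃ u ∈ comp U p q, x = ⟪x, q⟫ • p + ⟪x, p⟫ • q + u := by
  refine ⟨x - ⟪x, q⟫ • p - ⟪x, p⟫ • q, ⟨U.sub_mem (U.sub_mem hx (U.smul_mem _ P.pU))
    (U.smul_mem _ P.qU), ?_⟩, by abel⟩
  rw [perp_span hF]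
  exact sub_pair_mem_perp P.ip P.iq P.pq P.qp x

theorem p_notMem_comp : p ∉ comp U p q := fun h => by
  have := ((P.mem_comp hF).1 h).2.2
  rw [P.pq] at this
  exact one_ne_zero this

theorem iso_line {v : Fin n → F} (hv : v ∈ comp U p q) (hi : Iso v) (t : F) : Iso (v + t • p) :=
  hi.add_orth hF (P.ip.smul hF t) (by rw [herm_smul_right, ((P.mem_comp hF).1 hv).2.1, mul_zero])

theorem iso_add_p {v : Fin n → F} (hv : v ∈ comp U p q) (hi : Iso v) : Iso (v + p) := by
  simpa using P.iso_line hF hv hi 1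

/-- An element fixing `p`, `q` and the complement of `U` is supported on the complement. -/
theorem mem_fixer_comp {a : SU n F 2} (ha : a ∈ fixer n F 2 (perp 2 (U : Set (Fin n → F))))
    (hp : ap a p = p) (hq : ap a q = q) :
    a ∈ fixer n F 2 (perp 2 (comp U p q : Set (Fin n → F))) := by
  intro x hx
  obtain ⟨y, hy, z, hz, rfl⟩ :=
    Submodule.mem_sup.1 ((isCompl_perp hF P.nd).sup_eq_top.symm ▸ Submodule.mem_top (x := x))
  obtain ⟨u, hu, hyu⟩ := P.split hF hy
  have hu0 : u = 0 := by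
    refine P.comp_nondeg hF u hu fun v hv => ?_
    have h1 := hx v hv
    obtain ⟨hvU, hvp, hvq⟩ := (P.mem_comp hF).1 hv
    rw [herm_add_left, hz v hvU, add_zero, hyu, herm_add_left, herm_add_left, herm_smul_left,
      herm_smul_left, (herm_eq_zero_symm hF).1 hvp, (herm_eq_zero_symm hF).1 hvq] at h1
    simpa using h1
  rw [hu0, add_zero] at hyu
  rw [ap_add, ha z hz]
  conv_rhs => rw [hyu]
  conv_lhs => rw [hyu]
  rw [ap_add, ap_smul, ap_smul, hp, hq]

end Pair

namespace Lift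

variable {hF : Fintype.card F = 2 ^ 2} {E : Type*} [Group E] (L : Lift (n := n) hF E)
  {U : Submodule F (Fin n → F)} {p q : Fin n → F}

/-- The product of two members on one line through `p`. -/
def rp (p v : Fin n → F) : E := L.d v * L.d (v + p)

/-- The generators of the translation part. -/
def transSet (U : Submodule F (Fin n → F)) (p q : Fin n → F) : Set E :=
  insert (L.d p) (L.rp p '' {v | v ∈ comp U p q ∧ Iso v ∧ v ≠ 0})

/-- The translation part of the stabiliser of `p`. -/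
abbrev trans (U : Submodule F (Fin n → F)) (p q : Fin n → F) : Subgroup E :=
  Subgroup.closure (L.transSet U p q)

variable (P : Pair U p q)

include P

theorem rp_mem {v : Fin n → F} (hv : v ∈ comp U p q) (hi : Iso v) (h0 : v ≠ 0) :
    L.rp p v ∈ L.trans U p q :=
  Subgroup.subset_closure (Or.inr ⟨v, ⟨hv, hi, h0⟩, rfl⟩)

theorem dp_mem : L.d p ∈ L.trans U p q := Subgroup.subset_closure (Or.inl rfl)

theorem line_commute {v : Fin n → F} (hv : v ∈ comp U p q) (hi : Iso v) (s t : F) :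
    Commute (L.d (v + s • p)) (L.d (v + t • p)) := by
  refine L.d_commute (P.iso_line hF hv hi s) (P.iso_line hF hv hi t) ?_
  have h1 := ((P.mem_comp hF).1 hv).2.1
  simp [herm_add_left, herm_add_right hF, herm_smul_left, herm_smul_right, hi, P.ip, h1,
    (herm_eq_zero_symm hF).1 h1]

theorem p_commute {v : Fin n → F} (hv : v ∈ comp U p q) (hi : Iso v) (t : F) :
    Commute (L.d p) (L.d (v + t • p)) :=
  L.d_commute P.ip (P.iso_line hF hv hi t) (by
    simp [herm_add_right hF, herm_smul_right, P.ip,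
      (herm_eq_zero_symm hF).1 ((P.mem_comp hF).1 hv).2.1])

theorem trans_le : L.trans U p q ≤ L.grp U := by
  rw [trans, Subgroup.closure_le]
  rintro x (rfl | ⟨v, ⟨hv, hi, -⟩, rfl⟩)
  · exact L.d_mem P.pU P.ip
  · have hvU := ((P.mem_comp hF).1 hv).1
    exact mul_mem (L.d_mem hvU hi) (L.d_mem (U.add_mem hvU P.pU) (P.iso_add_p hF hv hi))

theorem ap_rp {v : Fin n → F} (hv : v ∈ comp U p q) (hi : Iso v) (x : Fin n → F) :
    ap (L.π (L.rp p v)) x = x + ⟪x, p⟫ • v + (⟪x, v⟫ + ⟪x, p⟫) • p := by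
  have h1 := ((P.mem_comp hF).1 hv).2.1
  rw [rp, map_mul, ap_mul, L.ap_d (P.iso_add_p hF hv hi), L.ap_d hi]
  simp only [herm_add_left, herm_smul_left, herm_add_right hF, hi, (herm_eq_zero_symm hF).1 h1,
    add_zero, mul_zero]
  have h2 : ∀ y : Fin n → F, y + y = 0 := vadd_self hF
  calc x + (⟪x, v⟫ + ⟪x, p⟫) • (v + p) + ⟪x, v⟫ • v
      = x + ⟪x, p⟫ • v + (⟪x, v⟫ + ⟪x, p⟫) • p + (⟪x, v⟫ • v + ⟪x, v⟫ • v) := by module
    _ = _ := by rw [h2, add_zero]

/-- The translation part fixes `p` and acts trivially on the complement modulo `p`. -/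
theorem trans_spec {a : E} (ha : a ∈ L.trans U p q) :
    ap (L.π a) p = p ∧ ∀ u ∈ comp U p q, ∃ t : F, ap (L.π a) u = u + t • p := by
  induction ha using Subgroup.closure_induction with
  | mem x hx =>
    rcases hx with rfl | ⟨v, ⟨hv, hi, -⟩, rfl⟩
    · refine ⟨by rw [L.ap_d P.ip, P.ip, zero_smul, add_zero], fun u hu => ⟨0, ?_⟩⟩
      rw [L.ap_d P.ip, ((P.mem_comp hF).1 hu).2.1]
    · refine ⟨?_, fun u hu => ⟨⟪u, v⟫, ?_⟩⟩
      · rw [L.ap_rp P hv hi, P.ip, (herm_eq_zero_symm hF).1 ((P.mem_comp hF).1 hv).2.1]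
        simp
      · rw [L.ap_rp P hv hi, ((P.mem_comp hF).1 hu).2.1]
        simp
  | one => exact ⟨by simp, fun u _ => ⟨0, by simp⟩⟩
  | mul a b _ _ iha ihb =>
    refine ⟨by rw [map_mul, ap_mul, ihb.1, iha.1], fun u hu => ?_⟩
    obtain ⟨s, hs⟩ := ihb.2 u hu
    obtain ⟨t, ht⟩ := iha.2 u hu
    exact ⟨t + s, by rw [map_mul, ap_mul, hs, ap_add, ap_smul, iha.1, ht, add_assoc, ← add_smul]⟩
  | inv a _ iha =>
    have hp : ap (L.π a⁻¹) p = p := by
      nth_rw 1 [← iha.1]
      rw [map_inv, ap_inv_ap]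
    refine ⟨hp, fun u hu => ?_⟩
    obtain ⟨t, ht⟩ := iha.2 u hu
    refine ⟨-t, ?_⟩
    have h := congrArg (ap (L.π a⁻¹)) ht
    rw [map_inv, ap_inv_ap, ← map_inv, ap_add, ap_smul, hp] at h
    rw [neg_smul]
    exact eq_add_neg_of_add_eq h.symm

/-- The translation part moves `q` to every isotropic vector of `U` with product one with `p`. -/
theorem exists_trans_move (h4 : 4 ≤ Module.finrank F U) {y : Fin n → F} (hy : y ∈ U)
    (hi : Iso y) (hyp : ⟪y, p⟫ = 1) : ∃ a ∈ L.trans U p q, ap (L.π a) q = y := by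
  have key : ∀ u ∈ comp U p q, ∃ a ∈ L.trans U p q, ∃ t : F, ap (L.π a) q = q + u + t • p := by
    have hd := P.comp_finrank hF
    refine exists_add_isotropic hF (P.comp_nondeg hF) (by omega) ?_ ?_
    · intro v hv hiv
      rcases eq_or_ne v 0 with rfl | hv0
      · exact ⟨1, one_mem _, 0, by simp⟩
      refine ⟨L.rp p v, L.rp_mem P hv hiv hv0, ⟪q, v⟫ + 1, ?_⟩
      rw [L.ap_rp P hv hiv, P.qp, one_smul]
    · rintro u hu u' hu' ⟨a, ha, s, hs⟩ ⟨b, hb, t, ht⟩
      obtain ⟨hap, hau⟩ := L.trans_spec P ha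
      obtain ⟨r, hr⟩ := hau u' hu'
      refine ⟨a * b, mul_mem ha hb, s + r + t, ?_⟩
      rw [map_mul, ap_mul, ht, ap_add, ap_add, ap_smul, hap, hs, hr]
      module
  obtain ⟨u, hu, hyu⟩ := P.split hF hy
  rw [hyp, one_smul] at hyu
  obtain ⟨a, ha, t, hat⟩ := key u hu
  have hy' : y = q + u + ⟪y, q⟫ • p := hyu.trans (by abel)
  have hz : Iso (q + u + t • p) := hat ▸ L.iso_map a P.iq
  set s := ⟪y, q⟫ + t with hs
  have hyt : y = ap (L.π a) q + s • p := by
    rw [hat, hy', hs]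
    have : t • p + t • p = (0 : Fin n → F) := vadd_self hF _
    calc q + u + ⟪y, q⟫ • p = q + u + ⟪y, q⟫ • p + (t • p + t • p) := by rw [this, add_zero]
      _ = _ := by module
  have hzp : ⟪ap (L.π a) q, p⟫ = 1 := by
    nth_rw 1 [← (L.trans_spec P ha).1]
    rw [herm_ap, P.qp]
  have hs2 : s ^ 2 = s := by
    have h1 : ⟪y, y⟫ = 0 := hi
    rw [hyt, herm_self_add hF, herm_self_smul, P.ip, mul_zero, L.iso_map a P.iq, herm_smul_right,
      hzp, mul_one, sq_sq hF, zero_add, zero_add] at h1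
    linear_combination h1 - s * two_eq hF
  rcases fixed_cases hF hs2 with h0 | h1
  · exact ⟨a, ha, by rw [hyt, h0, zero_smul, add_zero]⟩
  · refine ⟨L.d p * a, mul_mem (L.dp_mem P) ha, ?_⟩
    rw [map_mul, ap_mul, L.ap_d P.ip, hzp, hyt, h1]

/-- Stabiliser elements are translations times elements of a generated smaller subspace. -/
theorem exists_stab_eq (h4 : 4 ≤ Module.finrank F U) {W : Submodule F (Fin n → F)}
    (hW : comp U p q ≤ W) (gen : L.Gen W) {a : SU n F 2}
    (ha : a ∈ fixer n F 2 (perp 2 (U : Set (Fin n → F)))) (hap : ap a p = p) :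
    ∃ t ∈ L.trans U p q, ∃ l ∈ L.grp W, ap (L.π l) p = p ∧ ap (L.π l) q = q ∧
      L.π (t * l) = a := by
  obtain ⟨t, ht, htq⟩ := L.exists_trans_move P h4 (ap_mem_of_fixer hF P.nd ha P.qU)
    (show hermForm n F 2 (ap a q) (ap a q) = 0 by rw [herm_ap]; exact P.iq)
    (by nth_rw 1 [← hap]; rw [herm_ap, P.qp])
  set b := (L.π t)⁻¹ * a with hb
  have hbp : ap b p = p := by
    rw [hb, ap_mul, hap]
    nth_rw 1 [← (L.trans_spec P ht).1]
    rw [ap_inv_ap]
  have hbq : ap b q = q := by rw [hb, ap_mul, ← htq, ap_inv_ap]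
  have hbf : b ∈ fixer n F 2 (perp 2 (comp U p q : Set (Fin n → F))) :=
    P.mem_fixer_comp hF (mul_mem (inv_mem (L.grp_fix (L.trans_le P ht))) ha) hbp hbq
  obtain ⟨l, hl, hlb⟩ := gen b (fun s hs => hbf s (fun x hx => hs x (hW hx)))
  refine ⟨t, ht, l, hl, by rw [hlb, hbp], by rw [hlb, hbq], ?_⟩
  rw [map_mul, hlb, hb, mul_inv_cancel_left]

/-- Generation of the supported elements. -/
theorem gen_step (h4 : 4 ≤ Module.finrank F U) {W : Submodule F (Fin n → F)}
    (hW : comp U p q ≤ W) (hWU : W ≤ U) (gen : L.Gen W) : L.Gen U := by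
  intro a ha
  obtain ⟨g, hg, hgx⟩ := L.exists_move P.nd (by omega) (ap_mem_of_fixer hF P.nd ha P.pU) P.pU
    (show hermForm n F 2 (ap a p) (ap a p) = 0 by rw [herm_ap]; exact P.ip) P.ip
    (fun h => P.p_ne (ap_injective a (h.trans (ap_zero a).symm))) P.p_ne
  obtain ⟨t, ht, l, hl, -, -, htl⟩ := L.exists_stab_eq P h4 hW gen
    (mul_mem (L.grp_fix hg) ha) (by rw [ap_mul, hgx])
  exact ⟨g⁻¹ * (t * l), mul_mem (inv_mem hg) (mul_mem (L.trans_le P ht) (L.grp_mono hWU hl)),
    by rw [map_mul, htl, map_inv, inv_mul_cancel_left]⟩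

end Lift

end Cfsg.Agent.Coprime.UTT
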