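import Cfsg.Agent.Coprime.UTT.Radical
import Cfsg.Agent.Components.Fitting
import Cfsg.Prelude.Def_Transfer

/-!
# From the hypotheses on the 2-core
-/

set_option autoImplicit false
set_option linter.unusedSectionVars false

namespace Cfsg.Agent.Coprime.UTT

open Cfsg Cfsg.Agent.Unitary

variable {F : Type*} [Field F] [Fintype F] {n : ℕ} {G : Type*} [Group G] [Finite G]

/-- The extension data of a centre-free 3-transposition group with `G/O₂(G) ≅ SU_n(2)`. -/
theorem exists_ext {D : Set G} (hD : IsThreeTranspositionClass D) (hZ : Subgroup.center G = ⊥)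
    (hF : Fintype.card F = 2 ^ 2) (hn : 5 ≤ n) (e : G ⧸ pCore 2 G ≃* SU n F 2) :
    ∃ X : Ext (n := n) hF G, ∀ g, X.π g = 1 ↔ g ∈ pCore 2 G := by
  have : Fact (Nat.Prime 2) := ⟨Nat.prime_two⟩
  have hker : ∀ g, e.toMonoidHom.comp (QuotientGroup.mk' (pCore 2 G)) g = 1 ↔ g ∈ pCore 2 G := by
    intro g
    rw [MonoidHom.comp_apply, MulEquiv.coe_toMonoidHom, map_eq_one_iff e e.injective,
      QuotientGroup.mk'_apply, QuotientGroup.eq_one_iff]
  refine ⟨⟨e.toMonoidHom.comp (QuotientGroup.mk' (pCore 2 G)), D, hD,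
    e.surjective.comp (QuotientGroup.mk'_surjective _), fun g hg => ?_, hZ, hn⟩, hker⟩
  obtain ⟨k, hk⟩ := Components.isPGroup_pCore (G := G) 2 ⟨g, (hker g).1 hg⟩
  exact ⟨k, by simpa using congrArg Subtype.val hk⟩

/-- The 2-core is elementary abelian. -/
theorem pCore_elementary {D : Set G} (hD : IsThreeTranspositionClass D)
    (hZ : Subgroup.center G = ⊥) (hF : Fintype.card F = 2 ^ 2) (hn : 5 ≤ n) (h3 : n % 3 ≠ 0)
    (e : G ⧸ pCore 2 G ≃* SU n F 2) : IsElementaryAbelian 2 (pCore 2 G) := by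
  obtain ⟨X, hX⟩ := exists_ext hD hZ hF hn e
  refine ⟨⟨⟨fun a b => Subtype.ext (X.ker_elementary h3 ((hX _).2 a.2) ((hX _).2 b.2)).1⟩⟩,
    fun a ha => ?_⟩
  rw [pow_two]
  exact (X.ker_elementary h3 ((hX a).2 ha) ((hX a).2 ha)).2

end Cfsg.Agent.Coprime.UTT
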