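import Cfsg.Agent.Coprime.UTT.Transfer

/-!
# Lifts over `SU_n(2)` are injective when `n` is not divisible by three
-/

set_option autoImplicit false
set_option linter.unusedSectionVars false

namespace Cfsg.Agent.Coprime.UTT

open Cfsg Cfsg.Agent.Unitary Matrix

variable {F : Type*} [Field F] [Fintype F] {n : ℕ}

local notation "⟪" u ", " v "⟫" => hermForm n F 2 u v

/-- Prescribed scalars on an orthonormal family. -/
theorem exists_diag_matrix (hF : Fintype.card F = 2 ^ 2) {ι : Type*} [Fintype ι] [DecidableEq ι]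
    {f : ι → Fin n → F} (hf : ON 2 f) (ν : ι → F) (hν : ∀ i, ν i ≠ 0) (s : Finset ι) :
    ∃ M : Matrix (Fin n) (Fin n) F, Preserves 2 M ∧ M.det = ∏ i ∈ s, ν i ∧
      ∀ i, M *ᵥ f i = (if i ∈ s then ν i else 1) • f i := by
  induction s using Finset.induction_on with
  | empty => exact ⟨1, fun u v => by simp, by simp, fun i => by simp⟩
  | insert j s hj ih =>
    obtain ⟨M, hM, hdet, hMf⟩ := ih
    let R : Matrix (Fin n) (Fin n) F := 1 + vecMulVec ((ν j - 1) • f j) (cj 2 (f j))
    have hR : ∀ x, R *ᵥ x = x + ((ν j - 1) * ⟪x, f j⟫) • f j := by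
      intro x
      simp only [R, add_mulVec, one_mulVec, vecMulVec_mulVec, op_smul_eq_smul,
        dotProduct_comm (cj 2 (f j)), ← herm_eq_dot, smul_smul]
      rw [mul_comm]
    have hRp : Preserves 2 R := by
      intro u v
      rw [hR, hR]
      simp only [herm_add_left, herm_add_right hF, herm_smul_left, herm_smul_right, hf j j,
        if_true, eq_self_iff_true, mul_one, mul_pow]
      rw [sub_pow_q hF, one_pow, herm_swap hF v (f j)]
      linear_combination (⟪u, f j⟫ * ⟪f j, v⟫) * mul_sq hF (hν j)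
    have hRd : R.det = ν j := by
      have e : (Matrix.replicateRow (Fin 1) (cj 2 (f j))
          * Matrix.replicateCol (Fin 1) ((ν j - 1) • f j)) 0 0
          = hermForm n F 2 ((ν j - 1) • f j) (f j) := by
        rw [herm_eq_dot, dotProduct_comm]; rfl
      simp only [R]
      rw [Matrix.vecMulVec_eq (Fin 1), det_one_add_mul_comm, Matrix.det_unique, Matrix.add_apply,
        Matrix.one_apply_eq, Fin.default_eq_zero, e, herm_smul_left, hf, if_pos rfl, mul_one,
        add_sub_cancel]
    refine ⟨R * M, fun u v => ?_, ?_, fun i => ?_⟩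
    · rw [← Matrix.mulVec_mulVec, ← Matrix.mulVec_mulVec, hRp, hM]
    · rw [Matrix.det_mul, hRd, hdet, Finset.prod_insert hj]
    · rw [← Matrix.mulVec_mulVec, hMf, Matrix.mulVec_smul, hR, hf]
      rcases eq_or_ne i j with rfl | hij
      · rw [if_neg hj, if_pos rfl, if_pos (Finset.mem_insert_self _ _), one_smul, mul_one]
        module
      · rw [if_neg hij, mul_zero, zero_smul, add_zero]
        simp [Finset.mem_insert, hij]

/-- An element of `SU_n(2)` with prescribed scalars of product one on an orthonormal family. -/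
theorem exists_diag (hF : Fintype.card F = 2 ^ 2) {ι : Type*} [Fintype ι] [DecidableEq ι]
    {f : ι → Fin n → F} (hf : ON 2 f) (ν : ι → F) (hν : ∀ i, ν i ≠ 0) (hprod : ∏ i, ν i = 1) :
    ∃ a : SU n F 2, ∀ i, ap a (f i) = ν i • f i := by
  obtain ⟨M, hM, hdet, hMf⟩ := exists_diag_matrix hF hf ν hν Finset.univ
  refine ⟨toSU hM (hdet.trans hprod), fun i => ?_⟩
  have := hMf i
  rw [if_pos (Finset.mem_univ i)] at this
  exact this

/-- The two orthonormal vectors of a pair. -/
theorem Pair.exists_frame (hF : Fintype.card F = 2 ^ 2) {U : Submodule F (Fin n → F)}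
    {p q : Fin n → F} (P : Pair U p q) {w : F} (hw : w ^ 2 + w + 1 = 0) :
    ON 2 (fun b : Bool => if b then p + w • q else p + w ^ 2 • q) := by
  have hw4 : (w ^ 2) ^ 2 = w := sq_sq hF w
  intro a b
  cases a <;> cases b <;>
    simp only [Bool.false_eq_true, if_false, if_true, reduceCtorEq, herm_add_left,
      herm_add_right hF, herm_smul_left, herm_smul_right, P.pq, P.qp, P.ip, P.iq, mul_zero,
      mul_one, zero_add, add_zero, hw4]
  · linear_combination hw - two_eq hF
  · linear_combination w ^ 2 * two_eq hF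
  · linear_combination w * two_eq hF
  · linear_combination hw - two_eq hF

/-- Scalings exist unless the subspace is everything and `n` is divisible by three. -/
theorem Pair.hasScaling (hF : Fintype.card F = 2 ^ 2) {U : Submodule F (Fin n → F)}
    {p q : Fin n → F} (P : Pair U p q) (hn : U = ⊤ → n % 3 ≠ 0) : HasScaling U p q := by
  classical
  obtain ⟨w, hw⟩ := exists_omega hF
  have hw0 : w ≠ 0 := by rintro rfl; simp at hw
  have hw1 : w ≠ 1 := by
    rintro rfl
    refine one_ne_zero (α := F) ?_
    linear_combination hw - two_eq hF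
  have hw3 : w ^ 3 = 1 := pow_three hF hw0
  have hfr := P.exists_frame hF hw
  obtain ⟨f, hf, hspan⟩ := exists_ON_basis hF _ (P.comp_nondeg hF)
  have hd := P.comp_finrank hF
  revert f
  generalize hm : Module.finrank F ↥(comp U p q) = m
  intro f hf hspan
  have hfc : ∀ i, f i ∈ comp U p q := fun i => hspan ▸ Submodule.subset_span ⟨i, rfl⟩
  let g := Sum.elim (fun b : Bool => if b then p + w • q else p + w ^ 2 • q) f
  have h1 : ∀ (b : Bool) (i), ⟪(if b then p + w • q else p + w ^ 2 • q), f i⟫ = 0 := by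
    intro b i
    obtain ⟨-, hp, hq⟩ := (P.mem_comp hF).1 (hfc i)
    cases b <;> simp [herm_add_left, herm_smul_left, (herm_eq_zero_symm hF).1 hp,
      (herm_eq_zero_symm hF).1 hq]
  have hg : ON 2 g := hfr.sum_elim hf h1 fun i b => (herm_eq_zero_symm hF).1 (h1 b i)
  have finish : ∀ (a : SU n F 2) (l : F), (∀ b : Bool,
      ap a (if b then p + w • q else p + w ^ 2 • q)
        = l • (if b then p + w • q else p + w ^ 2 • q)) → ap a p = l • p := by
    intro a l ha
    have e : p = w ^ 2 • (p + w • q) + w • (p + w ^ 2 • q) := by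
      have h2 := two_eq hF
      have e1 : w ^ 2 + w = 1 := by linear_combination hw - h2
      have e2 : w ^ 2 * w + w * w ^ 2 = 0 := by linear_combination w ^ 3 * h2
      calc p = (w ^ 2 + w) • p + (w ^ 2 * w + w * w ^ 2) • q := by
            rw [e1, e2, one_smul, zero_smul, add_zero]
        _ = _ := by module
    have ht := ha true
    have hf' := ha false
    simp only [if_true] at ht
    simp only [Bool.false_eq_true, if_false] at hf'
    conv_lhs => rw [e]
    conv_rhs => rw [e]
    rw [ap_add, ap_smul, ap_smul (x := p + w ^ 2 • q), ht, hf']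
    module
  have finish' : ∀ (a : SU n F 2) (μ : F), (∀ i, ap a (f i) = μ • f i) →
      ∀ u ∈ comp U p q, ap a u = μ • u := by
    intro a μ ha u hu
    rw [← hspan] at hu
    induction hu using Submodule.span_induction with
    | mem x hx => obtain ⟨i, rfl⟩ := hx; exact ha i
    | zero => rw [ap_zero, smul_zero]
    | add x y _ _ hx hy => rw [ap_add, hx, hy, smul_add]
    | smul c x _ hx => rw [ap_smul, hx, smul_comm]
  by_cases htop : U = ⊤
  · have hUn : Module.finrank F U = n := by rw [htop, finrank_top, Module.finrank_fin_fun]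
    rw [hUn, hm] at hd
    have hn' := hn htop
    obtain ⟨l, μ, hl, hμ, hlμ, hprod⟩ : ∃ l μ : F, l ≠ 0 ∧ μ ≠ 0 ∧ l ≠ μ ∧ l * l * μ ^ m = 1 := by
      rcases (show m % 3 = 2 ∨ m % 3 = 0 by omega) with h | h
      · refine ⟨w, w ^ 2, hw0, pow_ne_zero _ hw0, fun h' => ?_, ?_⟩
        · exact hw1 (mul_left_cancel₀ hw0 (by rw [mul_one, ← pow_two]; exact h'.symm))
        · rw [← Nat.div_add_mod m 3, h, pow_add, pow_mul]
          have : (w ^ 2) ^ 3 = 1 := by rw [← pow_mul, Nat.mul_comm, pow_mul, hw3, one_pow]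
          rw [this, one_pow, one_mul]
          calc w * w * (w ^ 2) ^ 2 = (w ^ 3) ^ 2 := by ring
            _ = 1 := by rw [hw3, one_pow]
      · refine ⟨1, w, one_ne_zero, hw0, hw1.symm, ?_⟩
        rw [← Nat.div_add_mod m 3, h, add_zero, pow_mul, hw3, one_pow, one_mul, one_mul]
    obtain ⟨a, ha⟩ := exists_diag hF hg (Sum.elim (fun _ => l) fun _ => μ)
      (by rintro (i | i) <;> assumption) (by
        rw [Fintype.prod_sum_type]
        simp [Fintype.card_bool, ← hprod, pow_two])
    exact ⟨a, l, μ, hl, hμ, hlμ, finish a l fun b => ha (Sum.inl b),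
      finish' a μ fun i => ha (Sum.inr i)⟩
  · obtain ⟨e, he, hee⟩ := exists_norm_one hF (nondeg_perp hF P.nd) (fun hbot => htop (by
      have := finrank_perp_add hF P.nd
      rw [hbot, finrank_bot, add_zero] at this
      exact Submodule.eq_top_of_finrank_eq (by rw [this, Module.finrank_fin_fun])))
    have h2' : ∀ x, ⟪g x, e⟫ = 0 := by
      intro x
      refine (herm_eq_zero_symm hF).1 (he _ ?_)
      rcases x with b | i
      · cases b
        · exact U.add_mem P.pU (U.smul_mem _ P.qU)
        · exact U.add_mem P.pU (U.smul_mem _ P.qU)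
      · exact ((P.mem_comp hF).1 (hfc i)).1
    have hg' : ON 2 (Sum.elim g fun _ : Unit => e) :=
      hg.sum_elim (fun a b => by simp [hee]) (fun i _ => h2' i)
        fun _ j => (herm_eq_zero_symm hF).1 (h2' j)
    obtain ⟨a, ha⟩ := exists_diag hF hg'
      (Sum.elim (Sum.elim (fun _ => (1 : F)) fun _ => w) fun _ => (w ^ m)⁻¹)
      (by rintro ((i | i) | i) <;> simp [hw0]) (by
        rw [Fintype.prod_sum_type, Fintype.prod_sum_type]
        simp [hw0])
    exact ⟨a, 1, w, one_ne_zero, hw0, hw1.symm, finish a 1 fun b => ha (Sum.inl (Sum.inl b)),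
      finish' a w fun i => ha (Sum.inl (Sum.inr i))⟩

namespace Lift

variable {hF : Fintype.card F = 2 ^ 2} {E : Type*} [Group E] (L : Lift (n := n) hF E)

/-- The case of a hyperbolic plane. -/
theorem base_two {U : Submodule F (Fin n → F)} (hU : Nondeg 2 U) (h2 : Module.finrank F U = 2) :
    L.Gen U ∧ L.Good U := by
  obtain ⟨p, hpU, hp0, hpi⟩ := exists_isotropic hF hU h2.ge
  obtain ⟨q, P⟩ := exists_pair hF hU hpU hp0 hpi
  have hc := P.comp_finrank hF
  have hbot : comp U p q = ⊥ := Submodule.finrank_eq_zero.1 (by omega)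
  have hr : Iso (p + q) := P.ip.add_one hF P.iq P.pq
  have hpts : ∀ v ∈ U, Iso v → v = 0 ∨ ∃ a : F, a ≠ 0 ∧
      (v = a • p ∨ v = a • q ∨ v = a • (p + q)) := by
    intro v hv hi
    obtain ⟨u, hu, hvu⟩ := P.split hF hv
    rw [hbot, Submodule.mem_bot] at hu
    rw [hu, add_zero] at hvu
    set a := ⟪v, q⟫
    set b := ⟪v, p⟫
    rcases eq_or_ne a 0 with ha | ha
    · rcases eq_or_ne b 0 with hb | hb
      · left; rw [hvu, ha, hb]; simp
      · right; exact ⟨b, hb, Or.inr (Or.inl (by rw [hvu, ha]; simp))⟩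
    · rcases eq_or_ne b 0 with hb | hb
      · right; exact ⟨a, ha, Or.inl (by rw [hvu, hb]; simp)⟩
      · right
        refine ⟨a, ha, Or.inr (Or.inr ?_)⟩
        have h1 : ⟪v, v⟫ = 0 := hi
        rw [hvu] at h1
        simp [herm_add_left, herm_add_right hF, herm_smul_left, herm_smul_right, P.ip, P.iq, P.pq,
          P.qp] at h1
        have hs : (a * b ^ 2) ^ 2 = a * b ^ 2 := by
          rw [mul_pow, sq_sq hF]
          linear_combination h1 - (a * b ^ 2) * two_eq hF
        rcases fixed_cases hF hs with h0 | h0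
        · simp [ha, hb] at h0
        · have : b = a := by
            have e := mul_sq hF hb
            calc b = b * (a * b ^ 2) := by rw [h0, mul_one]
              _ = a * (b * b ^ 2) := by ring
              _ = a := by rw [e, mul_one]
          rw [hvu, this, smul_add]
  refine ⟨fun a ha => ?_, ?_⟩
  · -- generation
    have hap : ap a p ∈ U := ap_mem_of_fixer hF hU ha hpU
    have hai : Iso (ap a p) := by show hermForm n F 2 _ _ = 0; rw [herm_ap]; exact hpi
    obtain ⟨g, hg, μ, hgp⟩ : ∃ g ∈ L.grp U, ∃ μ : F, ap (L.π g * a) p = μ • p := by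
      rcases hpts _ hap hai with h0 | ⟨μ, -, h | h | h⟩
      · exact absurd (ap_injective a (h0.trans (ap_zero a).symm)) hp0
      · exact ⟨1, one_mem _, μ, by rw [map_one, one_mul, h]⟩
      · refine ⟨L.d (p + q), L.d_mem (U.add_mem hpU P.qU) hr, μ, ?_⟩
        rw [ap_mul, h, ap_smul, L.ap_d hr, herm_add_right hF, P.qp, P.iq, add_zero, one_smul,
          show q + (p + q) = p + (q + q) by abel, vadd_self hF, add_zero]
      · refine ⟨L.d q, L.d_mem P.qU P.iq, μ, ?_⟩
        rw [ap_mul, h, ap_smul, L.ap_d P.iq, herm_add_left, P.pq, P.iq, add_zero, one_smul,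
          add_assoc, vadd_self hF, add_zero]
    set b := L.π g * a with hb
    have hbf : b ∈ fixer n F 2 (perp 2 (U : Set (Fin n → F))) := mul_mem (L.grp_fix hg) ha
    obtain ⟨u, hu, hbu⟩ := P.split hF (ap_mem_of_fixer hF hU hbf P.qU)
    rw [hbot, Submodule.mem_bot] at hu
    rw [hu, add_zero] at hbu
    set α := ⟪ap b q, q⟫ with hα
    set β := ⟪ap b q, p⟫ with hβ
    have hperp : b ∈ fixer n F 2 (perp 2 ({p, q} : Set (Fin n → F))) := by
      intro x hx
      refine hbf x fun y hy => ?_
      obtain ⟨u, hu, hyu⟩ := P.split hF hy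
      rw [hbot, Submodule.mem_bot] at hu
      obtain ⟨hxp, hxq⟩ := mem_perp_pair.1 hx
      rw [hyu, hu]
      simp [herm_add_right hF, herm_smul_right, hxp, hxq]
    have hdet := det_hyperbolic hF hpi P.iq P.qp hperp
    rw [hgp, ← hβ, ← hα] at hdet
    have hunit : ⟪ap b q, ap b p⟫ = 1 := by rw [herm_ap, P.qp]
    rw [hgp, herm_smul_right, ← hβ] at hunit
    simp [herm_smul_left, hpi, P.pq] at hdet
    have hμ : μ = 1 := by
      have hβ0 : β ≠ 0 := right_ne_zero_of_mul (hdet.trans_ne one_ne_zero)
      have : μ ^ 2 = μ := mul_right_cancel₀ hβ0 (hunit.trans hdet.symm)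
      rcases fixed_cases hF this with h | h
      · rw [h] at hdet; simp at hdet
      · exact h
    rw [hμ, one_mul] at hdet
    rw [hμ, one_smul] at hgp
    rw [hdet, one_smul] at hbu
    have hα2 : α ^ 2 = α := by
      have h1 : ⟪ap b q, ap b q⟫ = 0 := by rw [herm_ap]; exact P.iq
      rw [hbu] at h1
      simp [herm_add_left, herm_add_right hF, herm_smul_left, herm_smul_right, hpi, P.iq, P.pq,
        P.qp] at h1
      linear_combination h1 - α * two_eq hF
    have hid : ∀ c : SU n F 2, c ∈ fixer n F 2 (perp 2 (U : Set (Fin n → F))) → ap c p = p →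
        ap c q = q → c = 1 := by
      intro c hc hcp hcq
      refine ap_ext fun x => ?_
      rw [ap_one]
      exact P.mem_fixer_comp hF hc hcp hcq x (by
        rw [hbot]
        intro s hs
        rw [SetLike.mem_coe, Submodule.mem_bot] at hs
        rw [hs, herm_zero_right hF])
    rcases fixed_cases hF hα2 with h0 | h1
    · refine ⟨g⁻¹, inv_mem hg, ?_⟩
      have := hid b hbf hgp (by rw [hbu, h0, zero_smul, zero_add])
      rw [hb, mul_eq_one_iff_inv_eq] at this
      rw [map_inv]; exact this
    · refine ⟨g⁻¹ * L.d p, mul_mem (inv_mem hg) (L.d_mem hpU hpi), ?_⟩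
      have := hid (L.π (L.d p) * b) (mul_mem (L.grp_fix (L.d_mem hpU hpi)) hbf)
        (by rw [ap_mul, hgp, L.ap_d hpi, hpi, zero_smul, add_zero])
        (by rw [ap_mul, hbu, h1, one_smul, L.ap_d hpi, herm_add_left, hpi, P.qp, zero_add, one_smul,
          add_comm p q, add_assoc, vadd_self hF, add_zero])
      rw [mul_eq_one_iff_inv_eq, ← map_inv, L.inv_d hpi] at this
      rw [map_mul, map_inv, this, hb, inv_mul_cancel_left]
  · -- injectivity
    intro g hg hg1
    let x := L.d p
    let y := L.d q
    let z := L.d (p + q)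
    have xx : x * x = 1 := L.mul_self p hpi
    have yy : y * y = 1 := L.mul_self q P.iq
    have zx : x * y * x = z := by
      show L.d p * L.d q * L.d p = L.d (p + q)
      rw [L.d_conj hpi P.iq, P.qp, one_smul, add_comm]
    have zy : y * x * y = z := by
      show L.d q * L.d p * L.d q = L.d (p + q)
      rw [L.d_conj P.iq hpi, P.pq, one_smul]
    let S : Set E := {1, x, y, z, x * y, y * x}
    have hmx : ∀ s ∈ S, s * x ∈ S := by
      intro s hs
      rcases hs with rfl | rfl | rfl | rfl | rfl | rfl
      · simp [S]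
      · simp [S, xx]
      · simp [S]
      · rw [← zx, mul_assoc, xx, mul_one]; simp [S]
      · rw [zx]; simp [S]
      · rw [mul_assoc, xx, mul_one]; simp [S]
    have hmy : ∀ s ∈ S, s * y ∈ S := by
      intro s hs
      rcases hs with rfl | rfl | rfl | rfl | rfl | rfl
      · simp [S]
      · simp [S]
      · simp [S, yy]
      · rw [← zy, mul_assoc, yy, mul_one]; simp [S]
      · rw [mul_assoc, yy, mul_one]; simp [S]
      · rw [zy]; simp [S]
    have hmz : ∀ s ∈ S, s * z ∈ S := by
      intro s hs
      rw [← zx, ← mul_assoc, ← mul_assoc]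
      exact hmx _ (hmy _ (hmx _ hs))
    have hgen : ∀ t ∈ L.d '' {v | v ∈ U ∧ Iso v}, t = 1 ∨ t = x ∨ t = y ∨ t = z := by
      rintro _ ⟨v, ⟨hv, hi⟩, rfl⟩
      rcases hpts v hv hi with rfl | ⟨a, ha, rfl | rfl | rfl⟩
      · exact Or.inl L.d_zero
      · exact Or.inr (Or.inl (L.smul p hpi a ha))
      · exact Or.inr (Or.inr (Or.inl (L.smul q P.iq a ha)))
      · exact Or.inr (Or.inr (Or.inr (L.smul _ hr a ha)))
    have hmem : g ∈ S := by
      refine Subgroup.closure_induction_right (p := fun t _ => t ∈ S) ?_ ?_ ?_ hg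
      · simp [S]
      · intro s _ t ht hs
        rcases hgen t ht with rfl | rfl | rfl | rfl
        · rwa [mul_one]
        · exact hmx s hs
        · exact hmy s hs
        · exact hmz s hs
      · intro s _ t ht hs
        rcases hgen t ht with rfl | rfl | rfl | rfl
        · rwa [inv_one, mul_one]
        · rw [show x⁻¹ = x from L.inv_d hpi]; exact hmx s hs
        · rw [show y⁻¹ = y from L.inv_d P.iq]; exact hmy s hs
        · rw [show z⁻¹ = z from L.inv_d hr]; exact hmz s hs
    have hxy : tau hF p ≠ tau hF q := fun h => by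
      obtain ⟨a, ha⟩ := tau_injective hF hpi P.iq (fun h0 => by
        have := P.pq; rw [h0, herm_zero_right hF] at this; exact zero_ne_one this) h
      have := P.pq
      rw [ha, herm_smul_right, hpi, mul_zero] at this
      exact zero_ne_one this
    rcases hmem with rfl | rfl | rfl | rfl | rfl | rfl
    · rfl
    · rw [L.map_d p hpi] at hg1; exact absurd hg1 (tau_ne_one hF hpi hp0)
    · rw [L.map_d q P.iq] at hg1
      exact absurd hg1 (tau_ne_one hF P.iq fun h => by
        have := P.qp; rw [h, herm_zero_left] at this; exact zero_ne_one this)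
    · rw [L.map_d _ hr] at hg1
      exact absurd hg1 (tau_ne_one hF hr fun h => hxy (by rw [veq_of_add hF h]))
    · rw [map_mul, L.map_d p hpi, L.map_d q P.iq, mul_eq_one_iff_eq_inv,
        inv_eq_of_mul_eq_one_right (tau_mul_self hF P.iq)] at hg1
      exact absurd hg1 hxy
    · rw [map_mul, L.map_d p hpi, L.map_d q P.iq, mul_eq_one_iff_inv_eq,
        inv_eq_of_mul_eq_one_right (tau_mul_self hF P.iq)] at hg1
      exact absurd hg1.symm hxy

/-- A lift over `SU_n(2)` is injective on the generated subgroup, `n ≢ 0 (mod 3)`. -/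
theorem good_top [Finite E] (hn : 4 ≤ n) (h3 : n % 3 ≠ 0) : L.Good ⊤ := by
  obtain ⟨w, hw⟩ := exists_omega hF
  suffices key : ∀ d (U : Submodule F (Fin n → F)), Nondeg 2 U → Module.finrank F U = d →
      (d = 2 ∨ 4 ≤ d) → L.Gen U ∧ L.Good U from
    (key n ⊤ (nondeg_top hF) (by rw [finrank_top, Module.finrank_fin_fun]) (Or.inr hn)).2
  intro d
  induction d using Nat.strong_induction_on with
  | _ d ih =>
  intro U hU hd hd'
  rcases hd' with rfl | h4
  · exact L.base_two hU hd
  have small : ∀ p q, Pair U p q →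
      ∃ W, W ≤ U ∧ comp U p q ≤ W ∧ L.Gen W ∧ L.Good W := by
    intro p q P
    have hc := P.comp_finrank hF
    rcases eq_or_lt_of_le h4 with h | h5
    · obtain ⟨g, g'⟩ := ih 2 (by omega) _ (P.comp_nondeg hF) (by omega) (Or.inl rfl)
      exact ⟨_, inf_le_left, le_rfl, g, g'⟩
    · let c := p + w ^ 2 • q
      have hcc : ⟪c, c⟫ = 1 := P.exists_frame hF hw false false
      let C := Submodule.span F ({c} : Set (Fin n → F))
      have hC : Nondeg 2 C := by
        intro u hu hu'
        obtain ⟨a, rfl⟩ := Submodule.mem_span_singleton.1 hu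
        have := hu' c (Submodule.mem_span_singleton_self c)
        rw [herm_smul_left, hcc, mul_one] at this
        rw [this, zero_smul]
      have hCU : C ≤ U :=
        (Submodule.span_singleton_le_iff_mem _ _).2 (U.add_mem P.pU (U.smul_mem _ P.qU))
      have hdim := inf_perp_finrank hF hC hCU
      have hc0 : c ≠ 0 := by
        intro h0
        rw [h0, herm_zero_left] at hcc
        exact zero_ne_one hcc
      rw [finrank_span_singleton hc0] at hdim
      obtain ⟨g, g'⟩ := ih (d - 1) (by omega) _ (inf_perp_nondeg hF hU hC hCU) (by omega)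
        (Or.inr (by omega))
      refine ⟨_, inf_le_left, ?_, g, g'⟩
      intro x hx
      obtain ⟨hxU, hxp, hxq⟩ := (P.mem_comp hF).1 hx
      refine ⟨hxU, ?_⟩
      rw [perp_span hF, SetLike.mem_coe, mem_perp_singleton]
      simp [c, herm_add_right hF, herm_smul_right, hxp, hxq]
  refine ⟨?_, L.good_step hn hU (by omega) fun p q P => ⟨P.hasScaling hF fun _ => h3, small p q P⟩⟩
  obtain ⟨p, hpU, hp0, hpi⟩ := exists_isotropic hF hU (by omega)
  obtain ⟨q, P⟩ := exists_pair hF hU hpU hp0 hpi
  obtain ⟨W, hWU, hW, g, -⟩ := small p q P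
  exact L.gen_step P (by omega) hW hWU g

end Lift

end Cfsg.Agent.Coprime.UTT
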