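import Cfsg.Agent.Coprime.UTT.Fibres
import Cfsg.Agent.Coprime.UTT.Inj

/-!
# The kernel over `SU_n(2)` is elementary abelian

Modulo the translation groups the kernel is central, the product over a totally isotropic line
does not depend on the line, and after dividing it out the family of fibres is a lift.
-/

set_option autoImplicit false
set_option linter.unusedSectionVars false

namespace Cfsg.Agent.Coprime.UTT

open Cfsg Cfsg.Agent.Unitary

variable {F : Type*} [Field F] [Fintype F] {n : ℕ}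

local notation "⟪" u ", " v "⟫" => hermForm n F 2 u v

/-- Two vectors spanning a totally isotropic line. -/
structure IsLine (u v : Fin n → F) : Prop where
  iu : Iso u
  iv : Iso v
  orth : ⟪u, v⟫ = 0
  u0 : u ≠ 0
  indep : ∀ a : F, v ≠ a • u

namespace IsLine

variable (hF : Fintype.card F = 2 ^ 2) {u v : Fin n → F} (h : IsLine u v)

include h

theorem v0 : v ≠ 0 := fun e => h.indep 0 (by rw [e, zero_smul])

include hF

theorem iso_add (c : F) : Iso (u + c • v) :=
  h.iu.add_orth hF (h.iv.smul hF c) (by rw [herm_smul_right, h.orth, mul_zero])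

theorem add_ne (c : F) : u + c • v ≠ 0 := by
  intro e
  by_cases hc : c = 0
  · rw [hc, zero_smul, add_zero] at e
    exact h.u0 e
  · apply h.indep c⁻¹
    rw [veq_of_add hF e, smul_smul, inv_mul_cancel₀ hc, one_smul]

theorem map (g : SU n F 2) : IsLine (ap g u) (ap g v) where
  iu := by show hermForm n F 2 _ _ = 0; rw [herm_ap]; exact h.iu
  iv := by show hermForm n F 2 _ _ = 0; rw [herm_ap]; exact h.iv
  orth := by rw [herm_ap, h.orth]
  u0 e := h.u0 (ap_injective g (by rw [e, ap_zero]))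
  indep a e := h.indep a (ap_injective g (by rw [e, ap_smul]))

theorem translate (t : F) : IsLine u (v + t • u) where
  iu := h.iu
  iv := h.iv.add_orth hF (h.iu.smul hF t)
    (by rw [herm_smul_right, (herm_eq_zero_symm hF).1 h.orth, mul_zero])
  orth := by rw [herm_add_right hF, herm_smul_right, h.orth, show ⟪u, u⟫ = 0 from h.iu]; simp
  u0 := h.u0
  indep a e := h.indep (a + t) (veq_of_add hF (by rw [add_smul, ← add_assoc, add_right_comm, e, vadd_self hF]))

theorem scale {c : F} (hc : c ≠ 0) : IsLine u (c • v) where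
  iu := h.iu
  iv := h.iv.smul hF c
  orth := by rw [herm_smul_right, h.orth, mul_zero]
  u0 := h.u0
  indep a e := h.indep (c⁻¹ * a) (by rw [← smul_smul, ← e, smul_smul, inv_mul_cancel₀ hc, one_smul])

end IsLine

/-- The relation of a totally isotropic line in `SU_n(2)`. -/
theorem tau_line (hF : Fintype.card F = 2 ^ 2) {u v : Fin n → F} (h : IsLine u v) {w : F}
    (hw : w ^ 2 + w + 1 = 0) :
    tau hF u * tau hF v * tau hF (u + v) * tau hF (u + w • v) * tau hF (u + w ^ 2 • v) = 1 := by
  refine ap_ext fun x => ?_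
  have hvu : ⟪v, u⟫ = 0 := (herm_eq_zero_symm hF).1 h.orth
  rw [ap_one]
  simp only [ap_mul, ap_tau hF h.iu, ap_tau hF h.iv, ap_tau hF (h.iso_add hF w),
    ap_tau hF (h.iso_add hF (w ^ 2)), ap_tau hF (show Iso (u + v) by simpa using h.iso_add hF 1),
    herm_add_left, herm_add_right hF, herm_smul_left, herm_smul_right, h.orth, hvu,
    show ⟪u, u⟫ = 0 from h.iu, show ⟪v, v⟫ = 0 from h.iv, mul_zero, add_zero, sq_sq hF]
  match_scalars <;> grind [two_eq hF]

namespace Ext

variable {hF : Fintype.card F = 2 ^ 2} {G : Type*} [Group G] (X : Ext (n := n) hF G)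

instance : (X.wall).Normal := X.wall_normal

open Classical in
/-- A chosen member over a vector. -/
noncomputable def rep (v : Fin n → F) : G :=
  if h : Iso v ∧ v ≠ 0 then (X.exists_mem h.1 h.2).choose else 1

theorem rep_mem {v : Fin n → F} (hv : Iso v) (h0 : v ≠ 0) : X.rep v ∈ X.Fib v := by
  rw [rep, dif_pos ⟨hv, h0⟩]
  exact (X.exists_mem hv h0).choose_spec

theorem rep_zero : X.rep 0 = 1 := by rw [rep, dif_neg (fun h => h.2 rfl)]

/-- The image of a fibre modulo the translation groups. -/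
noncomputable def d1 (v : Fin n → F) : G ⧸ X.wall := QuotientGroup.mk' X.wall (X.rep v)

theorem mk_fib {v : Fin n → F} (hv : Iso v) (h0 : v ≠ 0) {x : G} (hx : x ∈ X.Fib v) :
    QuotientGroup.mk' X.wall x = X.d1 v := by
  have hm := X.W_le_wall hv h0 (X.mul_mem_W hx (X.rep_mem hv h0))
  have h1 : QuotientGroup.mk' X.wall (x * X.rep v) = 1 := (QuotientGroup.eq_one_iff _).2 hm
  rw [map_mul, mul_eq_one_iff_eq_inv, ← map_inv, X.inv_eq (X.rep_mem hv h0).1] at h1
  exact h1

theorem d1_zero : X.d1 0 = 1 := by rw [d1, X.rep_zero, map_one]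

theorem d1_smul {v : Fin n → F} (hv : Iso v) {a : F} (ha : a ≠ 0) : X.d1 (a • v) = X.d1 v := by
  by_cases h0 : v = 0
  · rw [h0, smul_zero]
  · refine X.mk_fib hv h0 ?_
    rw [← X.fib_smul hv ha]
    exact X.rep_mem (hv.smul hF a) (smul_ne_zero ha h0)

theorem d1_sq {v : Fin n → F} (hv : Iso v) : X.d1 v * X.d1 v = 1 := by
  by_cases h0 : v = 0
  · rw [h0, X.d1_zero, one_mul]
  · rw [d1, ← map_mul, X.mul_self (X.rep_mem hv h0).1, map_one]

theorem d1_conj (g : G) {v : Fin n → F} (hv : Iso v) :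
    QuotientGroup.mk' X.wall g * X.d1 v * (QuotientGroup.mk' X.wall g)⁻¹ = X.d1 (ap (X.π g) v) := by
  by_cases h0 : v = 0
  · simp [h0, ap_zero, X.d1_zero]
  · rw [d1, ← map_inv, ← map_mul, ← map_mul]
    exact X.mk_fib (by show hermForm n F 2 _ _ = 0; rw [herm_ap]; exact hv)
      (fun e => h0 (ap_injective (X.π g) (by rw [e, ap_zero]))) (X.fib_conj g hv (X.rep_mem hv h0))

theorem d1_commute {u v : Fin n → F} (hu : Iso u) (hv : Iso v) (h : ⟪u, v⟫ = 0) :
    Commute (X.d1 u) (X.d1 v) := by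
  by_cases hu0 : u = 0
  · rw [hu0, X.d1_zero]; exact Commute.one_left _
  by_cases hv0 : v = 0
  · rw [hv0, X.d1_zero]; exact Commute.one_right _
  exact (X.commute hu hv h (X.rep_mem hu hu0) (X.rep_mem hv hv0)).map _

/-- Modulo the translation groups the kernel is central. -/
theorem ker_central {g : G} (hg : X.π g = 1) (e : G ⧸ X.wall) :
    Commute (QuotientGroup.mk' X.wall g) e := by
  obtain ⟨y, rfl⟩ := QuotientGroup.mk'_surjective X.wall e
  have hle : Subgroup.closure X.D ≤
      (Subgroup.centralizer {QuotientGroup.mk' X.wall g}).comap (QuotientGroup.mk' X.wall) :=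
    (Subgroup.closure_le _).2 fun x hx => by
      obtain ⟨v, hv, h0, hxv⟩ := X.exists_vec hx
      rw [SetLike.mem_coe, Subgroup.mem_comap, Subgroup.mem_centralizer_singleton_iff,
        X.mk_fib hv h0 hxv]
      have := X.d1_conj g hv
      rw [hg, ap_one, mul_inv_eq_iff_eq_mul] at this
      exact this.symm
  rw [X.isClass.2.2] at hle
  exact (Subgroup.mem_centralizer_singleton_iff.1 (hle (Subgroup.mem_top y))).symm

/-- The product over the five points of a line. -/
noncomputable def z1 (w : F) (u v : Fin n → F) : G ⧸ X.wall :=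
  X.d1 u * X.d1 v * X.d1 (u + v) * X.d1 (u + w • v) * X.d1 (u + w ^ 2 • v)

/-- A representative of the product over a line. -/
noncomputable def zrep (w : F) (u v : Fin n → F) : G :=
  X.rep u * X.rep v * X.rep (u + v) * X.rep (u + w • v) * X.rep (u + w ^ 2 • v)

theorem mk_zrep (w : F) (u v : Fin n → F) :
    QuotientGroup.mk' X.wall (X.zrep w u v) = X.z1 w u v := by
  simp only [zrep, z1, d1, map_mul]

variable {w : F} {u v : Fin n → F}

theorem zrep_ker (hw : w ^ 2 + w + 1 = 0) (h : IsLine u v) : X.π (X.zrep w u v) = 1 := by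
  simp only [zrep, map_mul]
  rw [(X.rep_mem h.iu h.u0).2, (X.rep_mem h.iv h.v0).2,
    (X.rep_mem (by simpa using h.iso_add hF 1) (by simpa using h.add_ne hF 1)).2,
    (X.rep_mem (h.iso_add hF w) (h.add_ne hF w)).2,
    (X.rep_mem (h.iso_add hF (w ^ 2)) (h.add_ne hF (w ^ 2))).2, tau_line hF h hw]

theorem z1_map (g : G) (hw : w ^ 2 + w + 1 = 0) (h : IsLine u v) :
    X.z1 w (ap (X.π g) u) (ap (X.π g) v) = X.z1 w u v := by
  have key : QuotientGroup.mk' X.wall g * X.z1 w u v * (QuotientGroup.mk' X.wall g)⁻¹ =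
      X.z1 w (ap (X.π g) u) (ap (X.π g) v) := by
    simp only [z1, ← ap_smul, ← ap_add]
    rw [← X.d1_conj g h.iu, ← X.d1_conj g h.iv,
      ← X.d1_conj g (show Iso (u + v) by simpa using h.iso_add hF 1),
      ← X.d1_conj g (h.iso_add hF w), ← X.d1_conj g (h.iso_add hF (w ^ 2))]
    group
  rw [← key, ← X.mk_zrep, mul_inv_eq_iff_eq_mul]
  exact (X.ker_central (X.zrep_ker hw h) _).eq.symm

theorem z1_swap (_hw : w ^ 2 + w + 1 = 0) (h : IsLine u v) : X.z1 (w ^ 2) u v = X.z1 w u v := by
  simp only [z1, sq_sq hF]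
  rw [mul_assoc _ (X.d1 (u + w ^ 2 • v)), mul_assoc _ (X.d1 (u + w • v)),
    (X.d1_commute (h.iso_add hF w) (h.iso_add hF (w ^ 2)) (by
      simp [herm_add_left, herm_add_right hF, herm_smul_left, herm_smul_right, h.orth,
        (herm_eq_zero_symm hF).1 h.orth, show ⟪u, u⟫ = 0 from h.iu, show ⟪v, v⟫ = 0 from h.iv])).eq]

theorem z1_scale (hw : w ^ 2 + w + 1 = 0) (h : IsLine u v) :
    X.z1 w u (w • v) = X.z1 w u v := by
  have hw0 : w ≠ 0 := by rintro rfl; simp at hw
  have h3 : w ^ 2 * w = 1 := by rw [mul_comm, mul_sq hF hw0]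
  have o : ∀ a b : F, ⟪u + a • v, u + b • v⟫ = 0 := fun a b => by
    simp [herm_add_left, herm_add_right hF, herm_smul_left, herm_smul_right, h.orth,
      (herm_eq_zero_symm hF).1 h.orth, show ⟪u, u⟫ = 0 from h.iu, show ⟪v, v⟫ = 0 from h.iv]
  have i1 : Iso (u + v) := by simpa using h.iso_add hF 1
  have c1 := (X.d1_commute i1 (h.iso_add hF w) (by simpa using o 1 w)).eq
  have c2 := (X.d1_commute i1 (h.iso_add hF (w ^ 2)) (by simpa using o 1 (w ^ 2))).eq
  simp only [z1, smul_smul, X.d1_smul h.iv hw0, h3, ← pow_two, one_smul]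
  simp only [mul_assoc]
  rw [← mul_assoc (X.d1 (u + v)), c1, mul_assoc, c2]

theorem z1_add (hw : w ^ 2 + w + 1 = 0) (h : IsLine u v) : X.z1 w u (v + u) = X.z1 w u v := by
  have hw0 : w ≠ 0 := by rintro rfl; simp at hw
  have e1 : u + (v + u) = v := by rw [add_comm v, ← add_assoc, vadd_self hF, zero_add]
  have e2 : u + w • (v + u) = w ^ 2 • (u + w ^ 2 • v) := by
    match_scalars <;> grind [two_eq hF]
  have e3 : u + w ^ 2 • (v + u) = w • (u + w • v) := by
    match_scalars <;> grind [two_eq hF]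
  have o : ∀ a b : F, ⟪u + a • v, u + b • v⟫ = 0 := fun a b => by
    simp [herm_add_left, herm_add_right hF, herm_smul_left, herm_smul_right, h.orth,
      (herm_eq_zero_symm hF).1 h.orth, show ⟪u, u⟫ = 0 from h.iu, show ⟪v, v⟫ = 0 from h.iv]
  have c1 := (X.d1_commute (show Iso (u + v) by simpa using h.iso_add hF 1) h.iv (by
    simp [herm_add_left, h.orth, show ⟪v, v⟫ = 0 from h.iv])).eq
  have c2 := (X.d1_commute (h.iso_add hF (w ^ 2)) (h.iso_add hF w) (o _ _)).eq
  simp only [z1]
  rw [e1, e2, e3, X.d1_smul (h.iso_add hF (w ^ 2)) (pow_ne_zero _ hw0),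
    X.d1_smul (h.iso_add hF w) hw0, show v + u = u + v from add_comm v u]
  simp only [mul_assoc]
  rw [← mul_assoc (X.d1 (u + v)), c1, mul_assoc, c2]

theorem z1_translate (hw : w ^ 2 + w + 1 = 0) (h : IsLine u v) (t : F) :
    X.z1 w u (v + t • u) = X.z1 w u v := by
  have hw0 : w ≠ 0 := by rintro rfl; simp at hw
  have h3 : w * w ^ 2 = 1 := mul_sq hF hw0
  have scale2 : ∀ {v}, IsLine u v → X.z1 w u (w ^ 2 • v) = X.z1 w u v := fun {v} h => by
    rw [← X.z1_scale hw (h.scale hF (pow_ne_zero 2 hw0)), smul_smul, h3, one_smul]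
  rcases omega_cases hF hw t with rfl | ht | ht | ht
  · rw [zero_smul, add_zero]
  · rw [ht, one_smul, X.z1_add hw h]
  · rw [ht]
    have h' := h.scale hF (pow_ne_zero 2 hw0)
    have e : v + w • u = w • (w ^ 2 • v + u) := by rw [smul_add, smul_smul, h3, one_smul]
    have hl : IsLine u (w ^ 2 • v + u) := by simpa using h'.translate hF 1
    rw [e, X.z1_scale hw hl, X.z1_add hw h', scale2 h]
  · rw [ht]
    have h' := h.scale hF hw0
    have e : v + w ^ 2 • u = w ^ 2 • (w • v + u) := by
      rw [smul_add, smul_smul, mul_comm, h3, one_smul]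
    have hl : IsLine u (w • v + u) := by simpa using h'.translate hF 1
    rw [e, scale2 hl, X.z1_add hw h', X.z1_scale hw h]

/-- The product modulo translations is the same for all lines. -/
theorem z1_eq (hw : w ^ 2 + w + 1 = 0) {u' v' : Fin n → F} (h : IsLine u v) (h' : IsLine u' v') :
    X.z1 w u v = X.z1 w u' v' := by
  have hn := X.five_le
  obtain ⟨g₀, -, hg₀⟩ := exists_map_isotropic hF (nondeg_top hF)
    (by rw [finrank_top, Module.finrank_fin_fun]; omega) Submodule.mem_top Submodule.mem_top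
    h.iu h'.iu h.u0 h'.u0
  obtain ⟨g, rfl⟩ := X.surj g₀
  rw [← X.z1_map g hw h, hg₀]
  have h1 : IsLine u' (ap (X.π g) v) := by rw [← hg₀]; exact h.map hF _
  obtain ⟨q, P⟩ := exists_pair hF (nondeg_top hF) Submodule.mem_top h'.u0 h'.iu
  have hsplit : ∀ x, IsLine u' x → ∃ c ∈ comp ⊤ u' q, IsLine u' c ∧ X.z1 w u' x = X.z1 w u' c := by
    intro x hx
    obtain ⟨c, hc, hxc⟩ := P.split hF (Submodule.mem_top (x := x))
    rw [(herm_eq_zero_symm hF).1 hx.orth, zero_smul, add_zero] at hxc
    have e : c = x + ⟪x, q⟫ • u' := by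
      conv_rhs => arg 1; rw [hxc]
      rw [add_right_comm, vadd_self hF, zero_add]
    exact ⟨c, hc, e ▸ hx.translate hF _, by rw [e, X.z1_translate hw hx]⟩
  obtain ⟨c, hc, lc, ec⟩ := hsplit _ h1
  obtain ⟨c', hc', lc', ec'⟩ := hsplit _ h'
  obtain ⟨a₀, ha, hac⟩ := exists_map_isotropic hF (P.comp_nondeg hF) (by
    have := P.comp_finrank hF
    rw [finrank_top, Module.finrank_fin_fun] at this
    omega) hc hc' lc.iv lc'.iv lc.v0 lc'.v0
  obtain ⟨a, rfl⟩ := X.surj a₀
  have hau : ap (X.π a) u' = u' := ha.2 u' fun x hx =>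
    (herm_eq_zero_symm hF).1 ((P.mem_comp hF).1 hx).2.1
  rw [ec, ec', ← X.z1_map a hw lc, hau, hac]

variable {u0 v0 : Fin n → F} {w0 : F}

/-- The representative of a line product is an involution commuting with all translations. -/
theorem zrep_spec (hw : w ^ 2 + w + 1 = 0) (h : IsLine u v) :
    X.zrep w u v * X.zrep w u v = 1 ∧ ∀ a ∈ X.wall, Commute (X.zrep w u v) a := by
  have i1 : Iso (u + v) := by simpa using h.iso_add hF 1
  have n1 : u + v ≠ 0 := by simpa using h.add_ne hF 1
  have m0 := X.rep_mem h.iu h.u0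
  have m1 := X.rep_mem h.iv h.v0
  have m2 := X.rep_mem i1 n1
  have m3 := X.rep_mem (h.iso_add hF w) (h.add_ne hF w)
  have m4 := X.rep_mem (h.iso_add hF (w ^ 2)) (h.add_ne hF (w ^ 2))
  have hvu : ⟪v, u⟫ = 0 := (herm_eq_zero_symm hF).1 h.orth
  have ou : ∀ a : F, ⟪u, u + a • v⟫ = 0 := fun a => by
    simp [herm_add_right hF, herm_smul_right, h.orth, show ⟪u, u⟫ = 0 from h.iu]
  have ov : ∀ a : F, ⟪v, u + a • v⟫ = 0 := fun a => by
    simp [herm_add_right hF, herm_smul_right, hvu, show ⟪v, v⟫ = 0 from h.iv]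
  have o : ∀ a b : F, ⟪u + a • v, u + b • v⟫ = 0 := fun a b => by
    simp [herm_add_left, herm_add_right hF, herm_smul_left, herm_smul_right, h.orth, hvu,
      show ⟪u, u⟫ = 0 from h.iu, show ⟪v, v⟫ = 0 from h.iv]
  have c01 := X.commute h.iu h.iv h.orth m0 m1
  have c02 := X.commute h.iu i1 (by simpa using ou 1) m0 m2
  have c03 := X.commute h.iu (h.iso_add hF w) (ou w) m0 m3
  have c04 := X.commute h.iu (h.iso_add hF (w ^ 2)) (ou (w ^ 2)) m0 m4
  have c12 := X.commute h.iv i1 (by simpa using ov 1) m1 m2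
  have c13 := X.commute h.iv (h.iso_add hF w) (ov w) m1 m3
  have c14 := X.commute h.iv (h.iso_add hF (w ^ 2)) (ov (w ^ 2)) m1 m4
  have c23 := X.commute i1 (h.iso_add hF w) (by simpa using o 1 w) m2 m3
  have c24 := X.commute i1 (h.iso_add hF (w ^ 2)) (by simpa using o 1 (w ^ 2)) m2 m4
  have c34 := X.commute (h.iso_add hF w) (h.iso_add hF (w ^ 2)) (o w (w ^ 2)) m3 m4
  have sq : ∀ {a b : G}, Commute a b → a * a = 1 → b * b = 1 → a * b * (a * b) = 1 :=
    fun {a b} hc ha hb => by
      rw [mul_assoc, ← mul_assoc b, ← hc.eq, mul_assoc a b b, hb, mul_one, ha]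
  refine ⟨?_, fun a ha => X.commute_wall (fun p hp hp0 b hb => ?_) ha⟩
  · rw [zrep]
    exact sq (((c04.mul_left c14).mul_left c24).mul_left c34)
      (sq ((c03.mul_left c13).mul_left c23)
        (sq (c02.mul_left c12) (sq c01 (X.mul_self m0.1) (X.mul_self m1.1)) (X.mul_self m2.1))
        (X.mul_self m3.1)) (X.mul_self m4.1)
  · -- move `p` to `u`, whose translations commute with the five members
    obtain ⟨g₀, -, hg₀⟩ := exists_map_isotropic hF (nondeg_top hF)
      (by rw [finrank_top, Module.finrank_fin_fun]; have := X.five_le; omega) Submodule.mem_top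
      Submodule.mem_top hp h.iu hp0 h.u0
    obtain ⟨g, rfl⟩ := X.surj g₀
    have hb' := X.W_conj g hp hb
    rw [hg₀] at hb'
    have hz' : Commute (g * b * g⁻¹) (X.zrep w u v) := by
      rw [zrep]
      exact ((((X.W_commute_fib h.iu h.iu h.iu hb' m0).mul_right
        (X.W_commute_fib h.iu h.iv h.orth hb' m1)).mul_right
        (X.W_commute_fib h.iu i1 (by simpa using ou 1) hb' m2)).mul_right
        (X.W_commute_fib h.iu (h.iso_add hF w) (ou w) hb' m3)).mul_right
        (X.W_commute_fib h.iu (h.iso_add hF (w ^ 2)) (ou (w ^ 2)) hb' m4)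
    have h1 : Commute (g⁻¹ * X.zrep w u v * g) b := by
      show g⁻¹ * X.zrep w u v * g * b = b * (g⁻¹ * X.zrep w u v * g)
      have h2 := hz'.eq
      calc g⁻¹ * X.zrep w u v * g * b = g⁻¹ * (X.zrep w u v * (g * b * g⁻¹)) * g := by group
        _ = g⁻¹ * (g * b * g⁻¹ * X.zrep w u v) * g := by rw [h2]
        _ = _ := by group
    have hmem : (g⁻¹ * X.zrep w u v * g)⁻¹ * X.zrep w u v ∈ X.wall := by
      rw [← QuotientGroup.eq_one_iff]
      show QuotientGroup.mk' X.wall ((g⁻¹ * X.zrep w u v * g)⁻¹ * X.zrep w u v) = 1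
      rw [map_mul, map_inv, inv_mul_eq_one, map_mul, map_mul, map_inv, mul_assoc,
        (X.ker_central (X.zrep_ker hw h) _).eq, inv_mul_cancel_left]
    have := h1.mul_left (X.wall_commute hmem (X.W_le_wall hp hp0 hb))
    rwa [mul_inv_cancel_left] at this

/-- The translations together with one line product. -/
noncomputable def radical (w : F) (u v : Fin n → F) : Subgroup G :=
  (Subgroup.zpowers (X.z1 w u v)).comap (QuotientGroup.mk' X.wall)

theorem radical_normal (hw : w ^ 2 + w + 1 = 0) (h : IsLine u v) : (X.radical w u v).Normal := by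
  refine ⟨fun a ha g => ?_⟩
  rw [radical, Subgroup.mem_comap] at ha ⊢
  obtain ⟨k, hk⟩ := Subgroup.mem_zpowers_iff.1 ha
  refine Subgroup.mem_zpowers_iff.2 ⟨k, ?_⟩
  have hc := (X.ker_central (X.zrep_ker hw h) (QuotientGroup.mk' X.wall g))
  rw [X.mk_zrep] at hc
  rw [map_mul, map_mul, map_inv, ← hk, ← (hc.zpow_left k).eq, mul_inv_cancel_right]

theorem radical_spec (hw : w ^ 2 + w + 1 = 0) (h : IsLine u v) {a : G} (ha : a ∈ X.radical w u v) :
    X.π a = 1 ∧ a * a = 1 ∧ ∀ b ∈ X.radical w u v, Commute a b := by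
  obtain ⟨hz, hzw⟩ := X.zrep_spec hw h
  have dec : ∀ {a : G}, a ∈ X.radical w u v →
      ∃ k : ℤ, ∃ c ∈ X.wall, a = X.zrep w u v ^ k * c := fun {a} ha => by
    rw [radical, Subgroup.mem_comap] at ha
    obtain ⟨k, hk⟩ := Subgroup.mem_zpowers_iff.1 ha
    refine ⟨k, (X.zrep w u v ^ k)⁻¹ * a, ?_, by rw [mul_inv_cancel_left]⟩
    rw [← QuotientGroup.eq_one_iff]
    show QuotientGroup.mk' X.wall _ = 1
    rw [map_mul, map_inv, map_zpow, X.mk_zrep, hk, inv_mul_cancel]
  obtain ⟨k, c, hc, rfl⟩ := dec ha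
  refine ⟨by rw [map_mul, map_zpow, X.zrep_ker hw h, one_zpow, one_mul, X.wall_ker hc], ?_,
    fun b hb => ?_⟩
  · calc X.zrep w u v ^ k * c * (X.zrep w u v ^ k * c)
        = X.zrep w u v ^ k * (c * X.zrep w u v ^ k) * c := by group
      _ = X.zrep w u v ^ k * (X.zrep w u v ^ k * c) * c := by rw [((hzw c hc).zpow_left k).eq]
      _ = (X.zrep w u v * X.zrep w u v) ^ k * (c * c) := by
        rw [(Commute.refl (X.zrep w u v)).mul_zpow]; group
      _ = 1 := by rw [hz, X.wall_sq hc, one_zpow, one_mul]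
  · obtain ⟨l, c', hc', rfl⟩ := dec hb
    exact ((((Commute.refl _).zpow_zpow k l)).mul_right ((hzw c' hc').zpow_left k)).mul_left
      ((((hzw c hc).zpow_left l).symm).mul_right (X.wall_commute hc hc'))

/-- The kernel is elementary abelian. -/
theorem ker_elementary [Finite G] (h3 : n % 3 ≠ 0) {a b : G} (ha : X.π a = 1) (hb : X.π b = 1) :
    Commute a b ∧ a * a = 1 := by
  obtain ⟨u, -, v, -, iu, iv, huv, hu0, hind⟩ := exists_line hF (nondeg_top hF)
    (by rw [finrank_top, Module.finrank_fin_fun]; have := X.five_le; omega :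
      4 ≤ Module.finrank F (⊤ : Submodule F (Fin n → F)))
  have h : IsLine u v := ⟨iu, iv, huv, hu0, hind⟩
  obtain ⟨w, hw⟩ := exists_omega hF
  suffices key : ∀ g, X.π g = 1 → g ∈ X.radical w u v from
    ⟨(X.radical_spec hw h (key a ha)).2.2 b (key b hb), (X.radical_spec hw h (key a ha)).2.1⟩
  have := X.radical_normal hw h
  have hle : X.wall ≤ (QuotientGroup.mk' (X.radical w u v)).ker := fun g hg => by
    rw [QuotientGroup.ker_mk', radical, Subgroup.mem_comap]
    rw [show QuotientGroup.mk' X.wall g = 1 from (QuotientGroup.eq_one_iff _).2 hg]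
    exact one_mem _
  let φ : G ⧸ X.wall →* G ⧸ X.radical w u v := QuotientGroup.lift _ _ hle
  have hφ : ∀ g, φ (QuotientGroup.mk' X.wall g) = QuotientGroup.mk' (X.radical w u v) g :=
    fun _ => rfl
  let L : Lift (n := n) hF (G ⧸ X.radical w u v) :=
    { π := QuotientGroup.lift _ X.π
        (show X.radical w u v ≤ X.π.ker from fun g hg => (X.radical_spec hw h hg).1)
      d := fun v => φ (X.d1 v)
      d_zero := by rw [X.d1_zero, map_one]
      map_d := fun x hx => by
        rw [d1, hφ, QuotientGroup.mk'_apply, QuotientGroup.lift_mk]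
        by_cases h0 : x = 0
        · rw [h0, X.rep_zero, map_one]
          refine (ap_ext fun y => ?_).symm
          rw [ap_tau hF (iso_zero hF), smul_zero, add_zero, ap_one]
        · exact (X.rep_mem hx h0).2
      mul_self := fun x hx => by rw [← map_mul, X.d1_sq hx, map_one]
      smul := fun x hx c hc => by rw [X.d1_smul hx hc]
      conj := fun e x hx => by
        obtain ⟨g, rfl⟩ := QuotientGroup.mk'_surjective _ e
        rw [← hφ, ← map_inv, ← map_mul, ← map_mul, X.d1_conj g hx]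
        rfl
      line := fun p q hp hq hpq hp0 hind' w' hw' => by
        have hl : IsLine p q := ⟨hp, hq, hpq, hp0, hind'⟩
        simp only [← map_mul]
        rw [show X.d1 p * X.d1 q * X.d1 (p + q) * X.d1 (p + w' • q) * X.d1 (p + w' ^ 2 • q) =
          X.z1 w' p q from rfl]
        have hz : X.z1 w' p q = X.z1 w u v := by
          have hw1 : w' ≠ 0 := by rintro rfl; simp at hw'
          rcases omega_cases hF hw w' with rfl | rfl | rfl | rfl
          · exact absurd rfl hw1
          · exfalso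
            simp [add_self_eq hF] at hw'
          · exact X.z1_eq hw hl h
          · rw [X.z1_swap hw hl, X.z1_eq hw hl h]
        rw [hz, ← X.mk_zrep, hφ, QuotientGroup.mk'_apply, QuotientGroup.eq_one_iff, radical,
          Subgroup.mem_comap, X.mk_zrep]
        exact Subgroup.mem_zpowers _
      ker_two := fun e he => by
        obtain ⟨g, rfl⟩ := QuotientGroup.mk'_surjective _ e
        obtain ⟨k, hk⟩ := X.ker_two g he
        exact ⟨k, by rw [← map_pow, hk, map_one]⟩ }
  have hgood := L.good_top X.four_le h3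
  intro g hg
  have hmem : QuotientGroup.mk' (X.radical w u v) g ∈ L.grp ⊤ := by
    have hc : Subgroup.closure X.D ≤ (L.grp ⊤).comap (QuotientGroup.mk' (X.radical w u v)) :=
      (Subgroup.closure_le _).2 fun x hx => by
        obtain ⟨p, hp, hp0, hxp⟩ := X.exists_vec hx
        rw [SetLike.mem_coe, Subgroup.mem_comap, ← hφ, X.mk_fib hp hp0 hxp]
        exact L.d_mem Submodule.mem_top hp
    rw [X.isClass.2.2] at hc
    exact hc (Subgroup.mem_top g)
  have := hgood _ hmem hg
  rwa [QuotientGroup.mk'_apply, QuotientGroup.eq_one_iff] at this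

end Ext

end Cfsg.Agent.Coprime.UTT
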