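import Cfsg.Agent.Coprime.UTT.Complement
import Cfsg.Agent.Coprime.UTT.FromClass

/-!
# The 2-core over `SU_5(2)` has a complement
-/

set_option autoImplicit false
set_option linter.unusedSectionVars false

namespace Cfsg.Agent.Coprime.UTT

open Cfsg Cfsg.Agent.Unitary

variable {F : Type*} [Field F] [Fintype F] {G : Type*} [Group G] [Finite G]

/-- The 2-core over `SU_5(2)` has a complement. -/
theorem pCore_complement {D : Set G} (hD : IsThreeTranspositionClass D)
    (hZ : Subgroup.center G = ⊥) (hF : Fintype.card F = 2 ^ 2)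
    (e : G ⧸ pCore 2 G ≃* SU 5 F 2) : ∃ K : Subgroup G, (pCore 2 G).IsComplement' K := by
  obtain ⟨X, hX⟩ := exists_ext hD hZ hF le_rfl e
  obtain ⟨w, hw⟩ := exists_omega hF
  obtain ⟨K, hK⟩ := Ext.exists_complement (X := X) (w := w)
    { five := rfl
      comm := fun a b ha hb => (X.ker_elementary (by norm_num) ha hb).1
      sq := fun a ha => (X.ker_elementary (by norm_num) ha ha).2
      omega := hw }
  have hker : X.π.ker = pCore 2 G := Subgroup.ext fun g => MonoidHom.mem_ker.trans (hX g)
  exact ⟨K, hker ▸ hK⟩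

end Cfsg.Agent.Coprime.UTT
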