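import Cfsg.Agent.Coprime.UTT.Frame
import Mathlib.GroupTheory.Transfer

/-!
# Injectivity of lifts: the translation part and the transfer step
-/

set_option autoImplicit false
set_option linter.unusedSectionVars false

namespace Cfsg.Agent.Coprime.UTT

open Cfsg Cfsg.Agent.Unitary

variable {F : Type*} [Field F] [Fintype F] {n : ℕ}

local notation "⟪" u ", " v "⟫" => hermForm n F 2 u v

/-- An element scaling `p` and the complement of the pair by different factors. -/
def HasScaling (U : Submodule F (Fin n → F)) (p q : Fin n → F) : Prop :=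
  ∃ a : SU n F 2, ∃ l m : F, l ≠ 0 ∧ m ≠ 0 ∧ l ≠ m ∧ ap a p = l • p ∧
    ∀ u ∈ comp U p q, ap a u = m • u

namespace Lift

variable {hF : Fintype.card F = 2 ^ 2} {E : Type*} [Group E] (L : Lift (n := n) hF E)
  {U : Submodule F (Fin n → F)} {p q : Fin n → F} (P : Pair U p q)

theorem ker_commute_grp {g : E} (hg : L.π g = 1) {x : E} (hx : x ∈ L.grp U) : Commute g x := by
  have : L.grp U ≤ Subgroup.centralizer {g} := by
    rw [grp, Subgroup.closure_le]
    rintro _ ⟨v, ⟨-, hi⟩, rfl⟩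
    rw [SetLike.mem_coe, Subgroup.mem_centralizer_singleton_iff]
    exact (L.ker_commute hg hi).symm.eq
  exact (Subgroup.mem_centralizer_singleton_iff.1 (this hx)).symm

include P

theorem dp_commute {a : E} (ha : a ∈ L.trans U p q) : Commute (L.d p) a := by
  have : L.trans U p q ≤ Subgroup.centralizer {L.d p} := by
    rw [trans, Subgroup.closure_le]
    rintro x (rfl | ⟨v, ⟨hv, hi, -⟩, rfl⟩) <;>
      rw [SetLike.mem_coe, Subgroup.mem_centralizer_singleton_iff]
    have h0 := L.p_commute P hv hi 0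
    have h1 := L.p_commute P hv hi 1
    rw [zero_smul, add_zero] at h0
    rw [one_smul] at h1
    exact (h0.mul_right h1).symm.eq
  exact (Subgroup.mem_centralizer_singleton_iff.1 (this ha)).symm

theorem rp_sq {v : Fin n → F} (hv : v ∈ comp U p q) (hi : Iso v) :
    L.rp p v * L.rp p v = 1 := by
  have h0 := L.line_commute P hv hi 0 1
  rw [zero_smul, add_zero, one_smul] at h0
  rw [rp, h0.symm.mul_mul_mul_comm, L.mul_self v hi, one_mul,
    L.mul_self _ (P.iso_add_p hF hv hi)]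

/-- The line relation through `p`. -/
theorem p_line {v : Fin n → F} (hv : v ∈ comp U p q) (hi : Iso v) (h0 : v ≠ 0) {w : F}
    (hw : w ^ 2 + w + 1 = 0) :
    L.d v * L.d (v + p) * L.d p = L.d (v + w • p) * L.d (v + w ^ 2 • p) := by
  have hvp : ⟪v, p⟫ = 0 := ((P.mem_comp hF).1 hv).2.1
  have hne : ∀ a : F, p ≠ a • v := fun a ha =>
    P.p_notMem_comp hF ((congrArg (· ∈ comp U p q) ha).mpr (Submodule.smul_mem _ a hv))
  have hl := L.line v p hi P.ip hvp h0 hne w hw
  have c1 := L.p_commute P hv hi 1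
  rw [one_smul] at c1
  have c0 := L.p_commute P hv hi 0
  rw [zero_smul, add_zero] at c0
  have c01 := L.line_commute P hv hi 0 1
  rw [zero_smul, add_zero, one_smul] at c01
  have hl' : L.d v * L.d p * L.d (v + p) = (L.d (v + w • p) * L.d (v + w ^ 2 • p))⁻¹ :=
    eq_inv_of_mul_eq_one_left (by rw [← hl]; simp [mul_assoc])
  have hc := L.line_commute P hv hi w (w ^ 2)
  rw [mul_inv_rev, L.inv_d (P.iso_line hF hv hi _), L.inv_d (P.iso_line hF hv hi _),
    ← hc.eq] at hl'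
  rw [← hl', mul_assoc, c1.symm.eq, ← mul_assoc]

/-- The translation part is abelian of exponent two modulo `⟨d p⟩`. -/
theorem trans_conj {u v : Fin n → F} (hu : u ∈ comp U p q) (hiu : Iso u) (hv : v ∈ comp U p q)
    (hi : Iso v) (h0 : v ≠ 0) :
    L.rp p u * L.rp p v * (L.rp p u)⁻¹ = L.rp p v ∨
      L.rp p u * L.rp p v * (L.rp p u)⁻¹ = L.rp p v * L.d p := by
  obtain ⟨hvU, hvp, -⟩ := (P.mem_comp hF).1 hv
  set g := L.rp p u with hg
  have e : g * L.rp p v * g⁻¹ = L.d (v + ⟪v, u⟫ • p) * L.d (v + (⟪v, u⟫ + 1) • p) := by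
    have e1 : g * L.rp p v * g⁻¹ = (g * L.d v * g⁻¹) * (g * L.d (v + p) * g⁻¹) := by
      rw [rp]; group
    rw [e1, L.conj _ v hi, L.conj _ _ (P.iso_add_p hF hv hi), hg, ap_add,
      L.ap_rp P hu hiu v, L.ap_rp P hu hiu p, hvp, P.ip,
      (herm_eq_zero_symm hF).1 ((P.mem_comp hF).1 hu).2.1]
    simp [add_smul, add_assoc]
  rw [e]
  obtain ⟨w, hw⟩ := exists_omega hF
  have c01 := L.line_commute P hv hi 0 1
  have hw1 : w + 1 = w ^ 2 := by linear_combination -hw + (w + 1) * two_eq hF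
  have hw2 : w ^ 2 + 1 = w := by linear_combination -hw + (w ^ 2 + 1) * two_eq hF
  rcases omega_cases hF hw ⟪v, u⟫ with h | h | h | h <;> rw [h]
  · left; simp [rp]
  · left
    rw [add_self_eq hF]
    simpa [rp] using c01.symm.eq
  · right
    rw [hw1, rp, L.p_line P hv hi h0 hw]
  · right
    rw [hw2, rp, L.p_line P hv hi h0 hw, (L.line_commute P hv hi w (w ^ 2)).eq]

/-- No non-trivial kernel element in the translation part. -/
theorem trans_inj (hn : 4 ≤ n) (hs : HasScaling U p q) {g : E} (hg : g ∈ L.trans U p q)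
    (hg1 : L.π g = 1) : g = 1 := by
  obtain ⟨a, l, m, hl0, hm0, hlm, hap, hau⟩ := hs
  obtain ⟨z, hz, hza⟩ := L.exists_preimage hn a
  let A : Subgroup E := L.trans U p q
  let N : Subgroup A := (Subgroup.zpowers (L.d p)).subgroupOf A
  have hN : N.Normal := by
    refine ⟨fun x hx y => ?_⟩
    rw [Subgroup.mem_subgroupOf] at hx ⊢
    obtain ⟨k, hk⟩ := Subgroup.mem_zpowers_iff.1 hx
    have hc : Commute (x : E) y := hk ▸ (L.dp_commute P y.2).zpow_left k
    rw [Subgroup.coe_mul, Subgroup.coe_mul, Subgroup.coe_inv, ← hc.eq, mul_inv_cancel_right]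
    exact hx
  let mk := QuotientGroup.mk' N
  let T : Set (A ⧸ N) := mk '' (Subtype.val ⁻¹' L.transSet U p q)
  have hT : Subgroup.closure T = ⊤ := by
    rw [← MonoidHom.map_closure,
      show Subgroup.closure (Subtype.val ⁻¹' L.transSet U p q : Set A) = ⊤ from
        Subgroup.closure_closure_coe_preimage,
      Subgroup.map_top_of_surjective _ (QuotientGroup.mk'_surjective N)]
  have hdp : ∀ x : A, (x : E) = L.d p → mk x = 1 := fun x hx =>
    (QuotientGroup.eq_one_iff x).2 (Subgroup.mem_subgroupOf.2 (hx ▸ Subgroup.mem_zpowers _))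
  have hTT : ∀ s ∈ T, ∀ t ∈ T, s * t = t * s := by
    rintro _ ⟨⟨x, hxA⟩, hx, rfl⟩ _ ⟨⟨y, hyA⟩, hy, rfl⟩
    change x ∈ L.transSet U p q at hx
    change y ∈ L.transSet U p q at hy
    rcases hx with rfl | ⟨u, ⟨hu, hiu, -⟩, rfl⟩
    · rw [hdp ⟨_, hxA⟩ rfl, one_mul, mul_one]
    rcases hy with rfl | ⟨v, ⟨hv, hiv, hv0⟩, rfl⟩
    · rw [hdp ⟨_, hyA⟩ rfl, one_mul, mul_one]
    rcases L.trans_conj P hu hiu hv hiv hv0 with h | h
    · rw [← map_mul, ← map_mul]
      congr 1
      exact Subtype.ext (mul_inv_eq_iff_eq_mul.1 h)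
    · have e : (⟨_, hxA⟩ : A) * ⟨_, hyA⟩
          = ⟨_, hyA⟩ * ⟨L.d p, L.dp_mem P⟩ * ⟨_, hxA⟩ :=
        Subtype.ext (mul_inv_eq_iff_eq_mul.1 h)
      rw [← map_mul, e, map_mul, map_mul, hdp ⟨_, L.dp_mem P⟩ rfl, mul_one]
  have hcomm : ∀ x y : A ⧸ N, x * y = y * x := by
    have h1 : ∀ t ∈ T, ∀ y : A ⧸ N, y * t = t * y := fun t ht y =>
      Subgroup.mem_centralizer_singleton_iff.1
        ((hT ▸ (Subgroup.closure_le (Subgroup.centralizer ({t} : Set (A ⧸ N)))).2
          fun s hs => Subgroup.mem_centralizer_singleton_iff.2 (hTT s hs t ht))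
          (Subgroup.mem_top y))
    intro x y
    have h2 : Subgroup.closure T ≤ Subgroup.centralizer ({y} : Set (A ⧸ N)) :=
      (Subgroup.closure_le _).2 fun t ht =>
        Subgroup.mem_centralizer_singleton_iff.2 (h1 t ht y).symm
    rw [hT] at h2
    exact Subgroup.mem_centralizer_singleton_iff.1 (h2 (Subgroup.mem_top x))
  let _ : CommGroup (A ⧸ N) := { (inferInstance : Group (A ⧸ N)) with mul_comm := hcomm }
  have hsq : ∀ x : A, mk x * mk x = 1 := by
    rintro ⟨x, hx⟩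
    refine Subgroup.closure_induction (p := fun x hx => mk ⟨x, hx⟩ * mk ⟨x, hx⟩ = 1) ?_ ?_ ?_ ?_ hx
    · rintro y (rfl | ⟨v, ⟨hv, hi, -⟩, rfl⟩)
      · rw [hdp ⟨_, _⟩ rfl, one_mul]
      · rw [← map_mul, ← map_one mk]
        exact congrArg mk (Subtype.ext (L.rp_sq P hv hi))
    · exact (one_mul _).trans (map_one mk)
    · intro b c hb hc ihb ihc
      rw [show (⟨b * c, mul_mem hb hc⟩ : A) = ⟨b, hb⟩ * ⟨c, hc⟩ from rfl, map_mul,
        mul_mul_mul_comm, ihb, ihc, one_mul]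
    · intro b hb ihb
      rw [show (⟨b⁻¹, inv_mem hb⟩ : A) = ⟨b, hb⟩⁻¹ from rfl, map_inv, ← mul_inv_rev, ihb, inv_one]
  -- the endomorphism
  set c := l⁻¹ * m with hc
  have hc0 : c ≠ 0 := mul_ne_zero (inv_ne_zero hl0) hm0
  have hc1 : c ≠ 1 := fun h => hlm (by
    rw [hc, inv_mul_eq_iff_eq_mul₀ hl0, mul_one] at h
    exact h.symm)
  have hcw : c ^ 2 + c + 1 = 0 := by
    have h3 := pow_three hF hc0
    have : (c - 1) * (c ^ 2 + c + 1) = 0 := by linear_combination h3
    exact (mul_eq_zero.1 this).resolve_left (sub_ne_zero.2 hc1)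
  have hzdp : z * L.d p * z⁻¹ = L.d p := by
    rw [L.conj z p P.ip, hza, hap, L.smul p P.ip l hl0]
  have hzrp : ∀ v ∈ comp U p q, Iso v → z * L.rp p v * z⁻¹ = L.rp p (c • v) := by
    intro v hv hi
    have e1 : z * L.rp p v * z⁻¹ = (z * L.d v * z⁻¹) * (z * L.d (v + p) * z⁻¹) := by
      rw [rp]; group
    rw [e1, L.conj z v hi, L.conj z _ (P.iso_add_p hF hv hi), hza, ap_add, hap, hau v hv,
      show m • v + l • p = l • (c • v + p) by
        rw [smul_add, smul_smul, hc, mul_inv_cancel_left₀ hl0],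
      L.smul _ (P.iso_add_p hF (Submodule.smul_mem _ c hv) (hi.smul hF c)) l hl0,
      L.smul v hi m hm0, rp, L.smul v hi c hc0]
  have hzA : ∀ x ∈ A, z * x * z⁻¹ ∈ A := by
    intro x hx
    refine Subgroup.closure_induction (p := fun x _ => z * x * z⁻¹ ∈ A) ?_ ?_ ?_ ?_ hx
    · rintro y (rfl | ⟨v, ⟨hv, hi, h0⟩, rfl⟩)
      · rw [hzdp]; exact L.dp_mem P
      · rw [hzrp v hv hi]
        exact L.rp_mem P (Submodule.smul_mem _ c hv) (hi.smul hF c) (smul_ne_zero hc0 h0)
    · simp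
    · intro b b' _ _ hb hb'
      rw [show z * (b * b') * z⁻¹ = (z * b * z⁻¹) * (z * b' * z⁻¹) by group]
      exact mul_mem hb hb'
    · intro b _ hb
      rw [show z * b⁻¹ * z⁻¹ = (z * b * z⁻¹)⁻¹ by group]
      exact inv_mem hb
  let σ : A →* A :=
    { toFun := fun x => ⟨z * x * z⁻¹, hzA x x.2⟩
      map_one' := Subtype.ext (by simp)
      map_mul' := fun x y => Subtype.ext (by simp [mul_assoc]) }
  have hphi : ∀ x : A, mk x * mk (σ x) * mk (σ (σ x)) = 1 := by
    rintro ⟨x, hx⟩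
    refine Subgroup.closure_induction
      (p := fun x hx => mk ⟨x, hx⟩ * mk (σ ⟨x, hx⟩) * mk (σ (σ ⟨x, hx⟩)) = 1) ?_ ?_ ?_ ?_ hx
    · rintro y (rfl | ⟨v, ⟨hv, hi, h0⟩, rfl⟩)
      · rw [hdp ⟨_, _⟩ rfl, hdp (σ ⟨_, _⟩) hzdp, hdp (σ (σ ⟨_, _⟩)) (by
          show z * (z * L.d p * z⁻¹) * z⁻¹ = L.d p
          rw [hzdp, hzdp]), one_mul, one_mul]
      · rw [← map_mul, ← map_mul]
        refine hdp _ ?_
        show L.rp p v * (z * L.rp p v * z⁻¹) * (z * (z * L.rp p v * z⁻¹) * z⁻¹) = L.d p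
        rw [hzrp v hv hi, hzrp _ (Submodule.smul_mem _ c hv) (hi.smul hF c)]
        have hc2 : c ^ 2 ≠ 0 := pow_ne_zero _ hc0
        have e2 : L.d (c • v + p) = L.d (v + c ^ 2 • p) := by
          rw [← L.smul _ (P.iso_add_p hF (Submodule.smul_mem _ c hv) (hi.smul hF c)) (c ^ 2) hc2,
            smul_add, smul_smul, show c ^ 2 * c = 1 from (pow_three hF hc0) ▸ by ring, one_smul]
        have e3 : L.d (c • c • v + p) = L.d (v + c • p) := by
          rw [← L.smul _ (P.iso_add_p hF (Submodule.smul_mem _ c (Submodule.smul_mem _ c hv))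
            ((hi.smul hF c).smul hF c)) c hc0,
            smul_add, smul_smul, smul_smul, show c * c * c = 1 from (pow_three hF hc0) ▸ by ring,
            one_smul]
        rw [rp, rp, rp, L.smul _ (hi.smul hF c) c hc0, L.smul v hi c hc0, e2, e3]
        have hp := L.p_line P hv hi h0 hcw
        have k1 := L.line_commute P hv hi 0 1
        have k2 := L.line_commute P hv hi 0 (c ^ 2)
        have k3 := L.line_commute P hv hi c (c ^ 2)
        rw [zero_smul, add_zero, one_smul] at k1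
        rw [zero_smul, add_zero] at k2
        calc L.d v * L.d (v + p) * (L.d v * L.d (v + c ^ 2 • p)) * (L.d v * L.d (v + c • p))
            = L.d (v + p) * (L.d v * L.d v) * L.d (v + c ^ 2 • p) * L.d v * L.d (v + c • p) := by
              rw [k1.eq]; simp [mul_assoc]
          _ = L.d (v + p) * (L.d (v + c ^ 2 • p) * L.d v) * L.d (v + c • p) := by
              rw [L.mul_self v hi, mul_one, mul_assoc (L.d (v + p))]
          _ = L.d v * L.d (v + p) * (L.d (v + c • p) * L.d (v + c ^ 2 • p)) := by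
              rw [← k2.eq, k1.eq, k3.eq]; simp [mul_assoc]
          _ = L.d p := by
              rw [← hp, ← mul_assoc]
              have hs := L.rp_sq P hv hi
              rw [rp] at hs
              rw [hs, one_mul]
    · rw [show (⟨1, one_mem _⟩ : A) = 1 from rfl]; simp
    · intro b b' hb hb' ihb ihb'
      rw [show (⟨b * b', mul_mem hb hb'⟩ : A) = ⟨b, hb⟩ * ⟨b', hb'⟩ from rfl, map_mul σ, map_mul σ,
        map_mul, map_mul, map_mul, mul_mul_mul_comm (mk ⟨b, hb⟩),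
        mul_mul_mul_comm (mk ⟨b, hb⟩ * mk (σ ⟨b, hb⟩)),
        ihb, ihb', one_mul]
    · intro b hb ihb
      rw [show (⟨b⁻¹, inv_mem hb⟩ : A) = ⟨b, hb⟩⁻¹ from rfl, map_inv σ, map_inv σ, map_inv,
        map_inv, map_inv, ← mul_inv, ← mul_inv, ihb, inv_one]
  have hfix : σ ⟨g, hg⟩ = ⟨g, hg⟩ := Subtype.ext (by
    show z * g * z⁻¹ = g
    rw [← (L.ker_commute_grp hg1 hz).eq, mul_inv_cancel_right])
  have h3 := hphi ⟨g, hg⟩
  rw [hfix, hfix, hsq, one_mul] at h3
  obtain ⟨k, hk⟩ := Subgroup.mem_zpowers_iff.1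
    (Subgroup.mem_subgroupOf.1 ((QuotientGroup.eq_one_iff _).1 h3))
  change L.d p ^ k = g at hk
  have h2 : L.d p ^ (2 : ℤ) = 1 := by rw [zpow_two, L.mul_self p P.ip]
  rcases Int.even_or_odd k with ⟨r, rfl⟩ | ⟨r, rfl⟩
  · rw [← hk, ← two_mul, zpow_mul, h2, one_zpow]
  · exfalso
    rw [zpow_add, zpow_mul, h2, one_zpow, one_mul, zpow_one] at hk
    rw [← hk, L.map_d p P.ip] at hg1
    exact tau_ne_one hF P.ip P.p_ne hg1

end Lift

end Cfsg.Agent.Coprime.UTT
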