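import Cfsg.Agent.Coprime.UTT.UniqueMod
import Cfsg.Agent.Components.TTCore
import Cfsg.Agent.Components.Basic
import Cfsg.Agent.H61.ZStarInst
import Cfsg.Agent.Cores.PCore
import Cfsg.Prelude.Def_Transfer

/-!
# The class of 3-transpositions over an elementary abelian 2-core is unique
-/

set_option autoImplicit false
set_option linter.unusedSectionVars false

universe u

namespace Cfsg.Agent.Coprime.UTT.Uniq

open Cfsg Cfsg.Agent.H44
open scoped IsMulCommutative

variable {G : Type u} [Group G] (V : Subgroup G) [V.Normal] [IsMulCommutative V]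

/-- Conjugation of the quotient on the abelian normal subgroup. -/
def conjHom : G ⧸ V →* MulAut V :=
  QuotientGroup.lift V MulAut.conjNormal (fun g hg => MonoidHom.mem_ker.2 (by
    ext a
    rw [MulAut.conjNormal_apply, MulAut.one_apply]
    have := congrArg Subtype.val (mul_comm (⟨g, hg⟩ : V) a)
    simp only [Subgroup.coe_mul] at this
    rw [this, mul_inv_cancel_right]))

instance actionOnAdditive : DistribMulAction (G ⧸ V) (Additive V) where
  smul q a := Additive.ofMul (conjHom V q a.toMul)
  one_smul a := show Additive.ofMul (conjHom V 1 a.toMul) = a by rw [map_one]; rfl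
  mul_smul p q a := show Additive.ofMul (conjHom V (p * q) a.toMul) =
      Additive.ofMul (conjHom V p (conjHom V q a.toMul)) by rw [map_mul]; rfl
  smul_zero q := show Additive.ofMul (conjHom V q 1) = (0 : Additive V) by rw [map_one]; rfl
  smul_add q a b := show Additive.ofMul (conjHom V q (a.toMul * b.toMul)) =
      Additive.ofMul (conjHom V q a.toMul) + Additive.ofMul (conjHom V q b.toMul) by rw [map_mul]; rfl

/-- The underlying group element. -/
abbrev val {V : Subgroup G} (a : Additive V) : G := ((a.toMul : V) : G)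

theorem val_smul (g : G) (a : Additive V) :
    val ((QuotientGroup.mk' V g) • a) = g * val a * g⁻¹ := by
  show ((MulAut.conjNormal g a.toMul : V) : G) = _
  rw [MulAut.conjNormal_apply]

theorem val_add (a b : Additive V) : val (a + b) = val a * val b := rfl

theorem val_injective {a b : Additive V} (h : val a = val b) : a = b := Subtype.ext h

theorem val_eq_one {a : Additive V} : val a = 1 ↔ a = 0 :=
  ⟨fun h => val_injective V h, fun h => by rw [h]; rfl⟩

section

variable {V} (h2 : ∀ a ∈ V, a * a = 1) {D : Set G} (hD : IsThreeTranspositionClass D)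
  (hout : ∀ x ∈ D, x ∉ V)

include h2 in
theorem inv_val (a : Additive V) : (val a)⁻¹ = val a :=
  inv_eq_of_mul_eq_one_right (h2 _ a.toMul.2)

include h2 hD

theorem commute_of_image {x y : G} (hx : x ∈ D) (hy : y ∈ D)
    (h : Commute (QuotientGroup.mk' V x) (QuotientGroup.mk' V y)) : Commute x y := by
  by_contra hc
  have h3 := tt_cube hD.1 hx hy hc
  have hs : (x * y) ^ 2 ∈ V := by
    rw [← QuotientGroup.eq_one_iff]
    show QuotientGroup.mk' V ((x * y) ^ 2) = 1
    rw [map_pow, map_mul, h.mul_pow, ← map_pow, ← map_pow, pow_two, pow_two, tt_mul_self hD.1 hx,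
      tt_mul_self hD.1 hy, map_one, mul_one]
  have h4 := h2 _ hs
  rw [← pow_add] at h4
  have h1 : x * y = 1 := by
    rwa [show 2 + 2 = 3 + 1 from rfl, pow_add, h3, one_mul, pow_one] at h4
  refine hc ?_
  rw [eq_inv_of_mul_eq_one_left h1, tt_inv hD.1 hy]

include hout

theorem image_class : IsThreeTranspositionClass (QuotientGroup.mk' V '' D) := by
  refine ⟨⟨?_, ?_⟩, ?_, ?_⟩
  · rintro _ ⟨x, hx, rfl⟩
    refine orderOf_eq_prime (by rw [pow_two, ← map_mul, tt_mul_self hD.1 hx, map_one]) fun h => ?_
    exact hout x hx ((QuotientGroup.eq_one_iff x).1 h)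
  · rintro _ ⟨x, hx, rfl⟩ _ ⟨y, hy, rfl⟩
    rw [← map_mul, ← map_pow, ← map_pow]
    exact (hD.1.2 x hx y hy).imp (fun h => by rw [h, map_one]) (fun h => by rw [h, map_one])
  · obtain ⟨d, hd, hD'⟩ := hD.2.1
    refine ⟨_, ⟨d, hd, rfl⟩, Set.Subset.antisymm ?_ fun y hy => ?_⟩
    · rintro _ ⟨x, hx, rfl⟩
      rw [hD'] at hx
      obtain ⟨c, hc⟩ := isConj_iff.1 hx
      exact isConj_iff.2 ⟨QuotientGroup.mk' V c, by rw [← hc]; simp⟩
    · obtain ⟨c, hc⟩ := isConj_iff.1 hy
      obtain ⟨g, rfl⟩ := QuotientGroup.mk'_surjective V c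
      exact ⟨g * d * g⁻¹, tt_invariant hD g hd, by rw [map_mul, map_mul, map_inv, hc]⟩
  · rw [← MonoidHom.map_closure, hD.2.2,
      Subgroup.map_top_of_surjective _ (QuotientGroup.mk'_surjective V)]

theorem tc_of_class [Finite G] (hcore : Cfsg.pCore 2 (G ⧸ V) = ⊥) :
    TC (Additive V) (QuotientGroup.mk' V '' D) where
  invol := by rintro _ ⟨x, hx, rfl⟩; rw [← map_mul, tt_mul_self hD.1 hx, map_one]
  ne_one := by rintro _ ⟨x, hx, rfl⟩ h; exact hout x hx ((QuotientGroup.eq_one_iff x).1 h)
  conj g x hx := tt_invariant (image_class h2 hD hout) g hx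
  single x hx y hy := by
    obtain ⟨d, -, hd⟩ := (image_class h2 hD hout).2.1
    rw [hd] at hx hy
    exact (IsConj.symm hx).trans hy
  gen := (image_class h2 hD hout).2.2
  comm := by
    rintro _ ⟨x, hx, rfl⟩ _ ⟨y, hy, rfl⟩ h a
    have hx' : val a * x * (val a)⁻¹ ∈ D := tt_invariant hD _ hx
    have hm : QuotientGroup.mk' V (val a * x * (val a)⁻¹) = QuotientGroup.mk' V x := by
      rw [map_mul, map_mul, map_inv, show QuotientGroup.mk' V (val a) = 1 from
        (QuotientGroup.eq_one_iff _).2 a.toMul.2]
      simp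
    have hv : val (QuotientGroup.mk' V x • a + a) = x * (val a * x * (val a)⁻¹) := by
      rw [val_add, val_smul, tt_inv hD.1 hx, inv_val h2]
      group
    refine val_injective V ?_
    rw [val_smul, hv]
    have hc := (commute_of_image h2 hD hy hx h.symm).mul_right
      (commute_of_image h2 hD hy hx' (by rw [hm]; exact h.symm))
    rw [hc.eq, mul_inv_cancel_right]
  cube := by
    rintro _ ⟨x, hx, rfl⟩ _ ⟨y, hy, rfl⟩ h
    rw [← map_mul, ← map_pow, tt_cube hD.1 hx hy (fun hc => h (hc.map _)), map_one]
  tri := by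
    rintro _ ⟨x, hx, rfl⟩ _ ⟨y, hy, rfl⟩ h a
    have hx1 : val a * x * (val a)⁻¹ ∈ D := tt_invariant hD _ hx
    have hx2 : x * (val a * x * (val a)⁻¹) * x ∈ D := by
      have := tt_invariant hD x hx1
      rwa [tt_inv hD.1 hx] at this
    have hm : QuotientGroup.mk' V (x * (val a * x * (val a)⁻¹) * x) = QuotientGroup.mk' V x := by
      rw [map_mul, map_mul, map_mul, map_mul, map_inv, show QuotientGroup.mk' V (val a) = 1 from
        (QuotientGroup.eq_one_iff _).2 a.toMul.2]
      simp only [one_mul, inv_one, mul_one]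
      rw [← map_mul, tt_mul_self hD.1 hx, map_one, one_mul]
    have h3 := tt_cube hD.1 hx2 hy (fun hc => h (by rw [← hm]; exact hc.map (QuotientGroup.mk' V)))
    have h0 := tt_cube hD.1 hx hy (fun hc => h (hc.map _))
    obtain ⟨b, hb⟩ : ∃ b : Additive V, b = QuotientGroup.mk' V x • a + a := ⟨_, rfl⟩
    have hv : val b * (x * y) = x * (val a * x * (val a)⁻¹) * x * y := by
      rw [hb, val_add, val_smul, tt_inv hD.1 hx, inv_val h2]
      group
    refine val_injective V ?_
    rw [← hb, show S _ b = b + QuotientGroup.mk' V (x * y) • b +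
      QuotientGroup.mk' V (x * y) • QuotientGroup.mk' V (x * y) • b from by rw [S, map_mul]]
    rw [val_add, val_add, val_smul, val_smul, val_smul]
    show _ = (1 : G)
    calc val b * (x * y * val b * (x * y)⁻¹) * (x * y * (x * y * val b * (x * y)⁻¹) * (x * y)⁻¹)
        = (val b * (x * y)) ^ 3 * ((x * y) ^ 3)⁻¹ := by
          simp only [pow_succ, pow_zero, one_mul]; group
      _ = 1 := by rw [hv, h3, h0, inv_one, mul_one]
  twin x hx y hy h := by
    have := Components.twin_mul_mem_pCore_two (image_class h2 hD hout) hx hy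
      (fun z hz => ⟨fun h' => ((h z hz).2 h'.symm).symm, fun h' => ((h z hz).1 h'.symm).symm⟩)
    rw [hcore, Subgroup.mem_bot] at this
    rw [eq_inv_of_mul_eq_one_left this, tt_inv (image_class h2 hD hout).1 hy]
  width hw g hg e he he1 heg := by
    have hcl := image_class h2 hD hout
    have : Fact (Nat.Prime 3) := ⟨Nat.prime_three⟩
    obtain ⟨R, hR⟩ : ∃ R, R = Cfsg.pCore 3 (G ⧸ V) := ⟨_, rfl⟩
    have : R.Normal := hR ▸ (inferInstance : (Cfsg.pCore 3 (G ⧸ V)).Normal)
    have hR3 : IsPGroup 3 R := hR ▸ Cores.pCore_isPGroup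
    have hsame : ∀ x ∈ QuotientGroup.mk' V '' D, g * x ∈ R := fun x hx => by
      rw [hR]
      refine Components.sameNb_mul_mem_pCore_three H61.zStarTheorem hcl hg hx ?_
      ext y
      constructor
      · rintro ⟨hy, hne, hc⟩
        exact absurd (hw g hg y hy hc).symm hne
      · rintro ⟨hy, hne, hc⟩
        exact absurd (hw x hx y hy hc).symm hne
    have heR : e ∈ R ∨ g * e ∈ R := by
      have hgg := tt_mul_self hcl.1 hg
      have key : ∀ q ∈ Subgroup.closure (QuotientGroup.mk' V '' D), q ∈ R ∨ g * q ∈ R := by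
        intro q hq
        induction hq using Subgroup.closure_induction with
        | mem x hx => exact Or.inr (hsame x hx)
        | one => exact Or.inl (one_mem R)
        | mul a b _ _ iha ihb =>
          have conjR : ∀ r ∈ R, g * r * g ∈ R := fun r hr => by
            have := (inferInstance : R.Normal).conj_mem r hr g
            rwa [tt_inv hcl.1 hg] at this
          rcases iha with ha | ha <;> rcases ihb with hb | hb
          · exact Or.inl (mul_mem ha hb)
          · refine Or.inr ?_
            rw [show g * (a * b) = g * a * g * (g⁻¹ * b) by group, tt_inv hcl.1 hg]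
            exact mul_mem (conjR a ha) hb
          · refine Or.inr ?_
            rw [← mul_assoc]
            exact mul_mem ha hb
          · refine Or.inl ?_
            rw [show a * b = g⁻¹ * (g * a) * g * (g⁻¹ * b) by group, tt_inv hcl.1 hg]
            exact mul_mem (conjR _ ha) hb
        | inv a _ iha =>
          rcases iha with ha | ha
          · exact Or.inl (inv_mem ha)
          · refine Or.inr ?_
            have h1 := (inferInstance : R.Normal).conj_mem _ (inv_mem ha) g
            rwa [mul_inv_rev, tt_inv hcl.1 hg, show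
              g * (a⁻¹ * g) * g = g * a⁻¹ by rw [mul_assoc, mul_assoc, hgg, mul_one]] at h1
      exact key e (hcl.2.2 ▸ Subgroup.mem_top e)
    have kill : ∀ r ∈ R, r * r = 1 → r = 1 := fun r hr hrr =>
      Components.eq_one_of_coprime_pow (n := 2) (by norm_num) hR3 hr (by rw [pow_two, hrr])
    rcases heR with h | h
    · exact absurd (kill e h he) he1
    · have hgg := tt_mul_self hcl.1 hg
      have h1 : g * e = 1 := kill _ h (by
        rw [mul_assoc, ← mul_assoc e, heg.eq, mul_assoc g e e, he, mul_one, hgg])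
      rw [← inv_eq_of_mul_eq_one_right h1, tt_inv hcl.1 hg]

end

/-- The uniqueness of the class. -/
theorem class_unique {G : Type u} [Group G] [Finite G] {D E : Set G}
    (hD : IsThreeTranspositionClass D) (hE : IsThreeTranspositionClass E)
    (hZ : Subgroup.center G = ⊥) (hF : Cfsg.generalizedFittingSubgroup G = Cfsg.pCore 2 G)
    (hV : Cfsg.IsElementaryAbelian 2 (Cfsg.pCore 2 G)) : E = D := by
  have : Fact (Nat.Prime 2) := ⟨Nat.prime_two⟩
  obtain ⟨V, hVd⟩ : ∃ V, V = Cfsg.pCore 2 G := ⟨_, rfl⟩
  have : V.Normal := hVd ▸ (inferInstance : (Cfsg.pCore 2 G).Normal)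
  have : IsMulCommutative V := hVd ▸ hV.1
  have h2 : ∀ a ∈ V, a * a = 1 := fun a ha => by rw [← pow_two]; exact hV.2 a (hVd ▸ ha)
  have hcore : Cfsg.pCore 2 (G ⧸ V) = ⊥ := by subst hVd; exact Cores.pCore_quotient_pCore
  have hself : ∀ g, (∀ a ∈ V, g * a = a * g) → g ∈ V := fun g hg => by
    rw [hVd, ← hF]
    refine Components.centralizer_genFitting_le (G := G) (Subgroup.mem_centralizer_iff.2 ?_)
    rw [hF, ← hVd]
    exact fun a ha => (hg a ha).symm
  have hout : ∀ {D : Set G}, IsThreeTranspositionClass D → ∀ x ∈ D, x ∉ V := by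
    intro D hD x hx hxV
    obtain ⟨d, -, hd⟩ := hD.2.1
    have hall : Subgroup.closure D ≤ V := (Subgroup.closure_le _).2 fun y hy => by
      have h1 : IsConj x y := by rw [hd] at hx hy; exact (IsConj.symm hx).trans hy
      obtain ⟨c, rfl⟩ := isConj_iff.1 h1
      exact (inferInstance : V.Normal).conj_mem x hxV c
    rw [hD.2.2] at hall
    have h1 : x ∈ Subgroup.center G := Subgroup.mem_center_iff.2 fun g =>
      congrArg Subtype.val (mul_comm (⟨g, hall (Subgroup.mem_top g)⟩ : V) ⟨x, hxV⟩)
    rw [hZ, Subgroup.mem_bot] at h1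
    have := hD.1.1 x hx
    rw [h1, orderOf_one] at this
    omega
  have hB : Base (G ⧸ V) (Additive V) :=
    { two := fun a => val_injective V (by rw [val_add, h2 _ a.toMul.2]; rfl)
      faithful := fun q hq => by
        obtain ⟨g, rfl⟩ := QuotientGroup.mk'_surjective V q
        refine (QuotientGroup.eq_one_iff g).2 (hself g fun a ha => ?_)
        have h1 := congrArg val (hq (Additive.ofMul (⟨a, ha⟩ : V)))
        rw [val_smul] at h1
        exact mul_inv_eq_iff_eq_mul.1 h1
      nofix := fun a ha => by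
        rw [← val_eq_one V]
        have h1 : val a ∈ Subgroup.center G := Subgroup.mem_center_iff.2 fun g => by
          have h1 := congrArg val (ha (QuotientGroup.mk' V g))
          rw [val_smul] at h1
          exact mul_inv_eq_iff_eq_mul.1 h1
        rwa [hZ, Subgroup.mem_bot] at h1
      central := fun t ht hc => by
        have hN : (Subgroup.zpowers t).Normal := ⟨fun x hx q => by
          obtain ⟨k, rfl⟩ := Subgroup.mem_zpowers_iff.1 hx
          rw [← ((hc q).zpow_left k).eq, mul_inv_cancel_right]
          exact Subgroup.mem_zpowers_iff.2 ⟨k, rfl⟩⟩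
        have hp : IsPGroup 2 (Subgroup.zpowers t) := fun ⟨x, hx⟩ => by
          obtain ⟨k, rfl⟩ := Subgroup.mem_zpowers_iff.1 hx
          refine ⟨1, Subtype.ext ?_⟩
          show (t ^ k) ^ (2 ^ 1) = 1
          rw [pow_one, pow_two, ← (Commute.refl t).mul_zpow, ht, one_zpow]
        have := Components.le_pCore hN hp (Subgroup.mem_zpowers t)
        rwa [hcore, Subgroup.mem_bot] at this }
  have hC := tc_of_class h2 hD (hout hD) hcore
  have hC' := tc_of_class h2 hE (hout hE) hcore
  obtain ⟨e₀, he₀, hEe⟩ := hE.2.1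
  have himg : QuotientGroup.mk' V '' D = QuotientGroup.mk' V '' E :=
    class_eq hB hC hC' ⟨e₀, he₀, rfl⟩
  classical
  let v : G ⧸ V → Additive V := fun q =>
    if h : ∃ p : V, ∃ d ∈ D, ∃ e ∈ E, QuotientGroup.mk' V d = q ∧ QuotientGroup.mk' V e = q ∧
      (p : G) = d * e then Additive.ofMul h.choose else 0
  have vspec : ∀ q ∈ QuotientGroup.mk' V '' D, ∃ d ∈ D, ∃ e ∈ E,
      QuotientGroup.mk' V d = q ∧ QuotientGroup.mk' V e = q ∧ val (v q) = d * e := by
    intro q hq
    have h : ∃ p : V, ∃ d ∈ D, ∃ e ∈ E, QuotientGroup.mk' V d = q ∧ QuotientGroup.mk' V e = q ∧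
        (p : G) = d * e := by
      obtain ⟨d, hd, rfl⟩ := hq
      obtain ⟨e, he, hed⟩ := himg.subset ⟨d, hd, rfl⟩
      refine ⟨⟨d * e, (QuotientGroup.eq_one_iff _).1 ?_⟩, d, hd, e, he, rfl, hed, rfl⟩
      show QuotientGroup.mk' V (d * e) = 1
      rw [map_mul, hed, ← map_mul, tt_mul_self hD.1 hd, map_one]
    obtain ⟨d, hd, e, he, h1, h3, h4⟩ := h.choose_spec
    exact ⟨d, hd, e, he, h1, h3, by simp only [v, dif_pos h]; exact h4⟩
  have same : ∀ {d e : G}, d ∈ D → e ∈ E → d * e ∈ V → Commute d e := by
    intro d e hd he hde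
    show d * e = e * d
    conv_lhs => rw [← inv_inv (d * e), mul_inv_rev, tt_inv hD.1 hd, tt_inv hE.1 he]
    have hed : e * d ∈ V := by
      have := inv_mem hde
      rwa [mul_inv_rev, tt_inv hD.1 hd, tt_inv hE.1 he] at this
    exact inv_eq_of_mul_eq_one_right (h2 _ hed)
  have hfix : ∀ q ∈ QuotientGroup.mk' V '' D, q • v q = v q := by
    intro q hq
    obtain ⟨d, hd, e, he, h1, h3, h4⟩ := vspec q hq
    refine val_injective V ?_
    rw [← h1, val_smul, h1, h4]
    have hde : d * e ∈ V := h4 ▸ (v q).toMul.2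
    rw [((Commute.refl d).mul_right (same hd he hde)).eq, mul_inv_cancel_right]
  have hcomm : ∀ q ∈ QuotientGroup.mk' V '' D, ∀ r ∈ QuotientGroup.mk' V '' D, q ≠ r →
      Commute q r → r • v q = v q := by
    intro q hq r hr hne hc
    obtain ⟨d, hd, e, he, h1, h3, h4⟩ := vspec q hq
    obtain ⟨d', hd', e', he', h1', h3', h4'⟩ := vspec r hr
    refine fix_of_N hB ?_
    have key : r • v q + v q = q • v r + v r := by
      have cD := commute_of_image h2 hD hd hd' (by rw [h1, h1']; exact hc)
      have cE := commute_of_image h2 hE he he' (by rw [h3, h3']; exact hc)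
      refine eq_of_add hB (val_injective V ?_)
      have e1 : r • v q + v q + (q • v r + v r) = (r • v q + v r) + (q • v r + v q) := by abel
      rw [e1, val_add, val_add, val_add, ← h1, ← h1', val_smul, val_smul, h1, h1', h4, h4',
        tt_inv hD.1 hd, tt_inv hD.1 hd']
      show _ = (1 : G)
      calc d' * (d * e) * d' * (d' * e') * (d * (d' * e') * d * (d * e))
          = d' * d * e * (d' * d') * e' * (d * d' * e' * (d * d) * e) := by group
        _ = (d * d') * (e * e') * ((d * d') * (e * e')) := by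
          rw [tt_mul_self hD.1 hd, tt_mul_self hD.1 hd', mul_one, mul_one, ← cD.eq, mul_assoc _ e' e,
            ← cE.eq]
          group
        _ = 1 := by
          refine h2 _ ((QuotientGroup.eq_one_iff _).1 ?_)
          show QuotientGroup.mk' V ((d * d') * (e * e')) = 1
          rw [map_mul, map_mul, map_mul, h1, h1', h3, h3', ← map_one (QuotientGroup.mk' V),
            ← tt_mul_self hD.1 hd, map_mul, h1]
          calc q * r * (q * r) = q * (r * q) * r := by group
            _ = q * q * (r * r) := by rw [hc.symm.eq]; group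
            _ = q * q := by rw [hC.invol r hr, mul_one]
    by_contra hne0
    exact hne (eq_of_inter hB hC hr hq hne0 (add_self_mem r _) (key ▸ add_self_mem q _)).symm
  have htri : ∀ q ∈ QuotientGroup.mk' V '' D, ∀ r ∈ QuotientGroup.mk' V '' D, ¬ Commute q r →
      S (q * r) (v q + v r) = 0 := by
    intro q hq r hr hnc
    obtain ⟨d, hd, e, he, h1, h3, h4⟩ := vspec q hq
    obtain ⟨d', hd', e', he', h1', h3', h4'⟩ := vspec r hr
    have h0 := tt_cube hD.1 hd hd' (fun hc => hnc (by rw [← h1, ← h1']; exact hc.map _))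
    have h5 := tt_cube hE.1 he he' (fun hc => hnc (by rw [← h3, ← h3']; exact hc.map _))
    have hSc : S (q * r) (r • v q + v r) = 0 := by
      obtain ⟨c, hc⟩ : ∃ c, c = r • v q + v r := ⟨_, rfl⟩
      have hvc : val c = d' * d * e * e' := by
        rw [hc, val_add, ← h1', val_smul, h1', h4, h4', tt_inv hD.1 hd']
        calc d' * (d * e) * d' * (d' * e') = d' * d * e * (d' * d') * e' := by group
          _ = _ := by rw [tt_mul_self hD.1 hd', mul_one]
      have hee : d * d' * val c = e * e' := by
        rw [hvc, show d * d' * (d' * d * e * e') = d * (d' * d') * d * (e * e') by group,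
          tt_mul_self hD.1 hd', mul_one, tt_mul_self hD.1 hd, one_mul]
      have hcc : ∀ x ∈ V, ∀ y ∈ V, x * y = y * x := fun x hx y hy =>
        congrArg Subtype.val (mul_comm (⟨x, hx⟩ : V) ⟨y, hy⟩)
      refine val_injective V ?_
      rw [← hc, ← h1, ← h1', show S (QuotientGroup.mk' V d * QuotientGroup.mk' V d') c = c +
        QuotientGroup.mk' V (d * d') • c + QuotientGroup.mk' V (d * d') • QuotientGroup.mk' V (d * d') • c
        from by rw [S, map_mul]]
      rw [val_add, val_add, val_smul, val_smul, val_smul]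
      show _ = (1 : G)
      have hm1 : d * d' * val c * (d * d')⁻¹ ∈ V := (inferInstance : V.Normal).conj_mem _ c.toMul.2 _
      rw [mul_assoc (val c), hcc _ c.toMul.2 _ (mul_mem hm1 ((inferInstance : V.Normal).conj_mem _ hm1 _))]
      calc d * d' * val c * (d * d')⁻¹ * (d * d' * (d * d' * val c * (d * d')⁻¹) * (d * d')⁻¹) * val c
          = d * d' * val c * (d * d' * val c) * ((d * d') ^ 3)⁻¹ * (d * d' * val c) := by
              simp only [pow_succ, pow_zero, one_mul]; group
        _ = (e * e') ^ 3 := by rw [h0, hee, inv_one, mul_one, pow_succ, pow_two]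
        _ = 1 := h5
    have h6 : S (q * r) (r • v q + v q) = 0 := by
      rw [← S_comm hB hC hq hr hnc]
      exact tri_im hC hr hq (fun hc => hnc hc.symm) (add_self_mem r _)
    have h7 : v q + v r = (r • v q + v r) + (r • v q + v q) := by
      calc v q + v r = v q + v r + (r • v q + r • v q) := by rw [hB.two, add_zero]
        _ = _ := by abel
    rw [h7, S_add, hSc, h6, add_zero]
  have hsub : E ⊆ D := by
    intro e he
    obtain ⟨d, hd, e', he', h1, h3, h4⟩ := vspec _ (himg.ge ⟨e, he, rfl⟩)
    obtain ⟨a, ha⟩ := mem_im.1 (rigid hB hC hfix hcomm htri (himg.ge ⟨e, he, rfl⟩))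
    have h5 := congrArg val ha
    rw [val_add, ← h1, val_smul, h1, h4, tt_inv hD.1 hd] at h5
    have he'D : e' ∈ D := by
      have h6 : e' = val a * d * (val a)⁻¹ := by
        calc e' = d * (d * e') := by rw [← mul_assoc, tt_mul_self hD.1 hd, one_mul]
          _ = d * (d * val a * d * val a) := by rw [h5]
          _ = d * d * (val a * d * val a) := by group
          _ = _ := by rw [tt_mul_self hD.1 hd, one_mul, inv_val h2]
      rw [h6]
      exact tt_invariant hD _ hd
    obtain ⟨g, rfl⟩ := isConj_iff.1 (show IsConj e' e by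
      rw [hEe] at he he'; exact (IsConj.symm he').trans he)
    exact tt_invariant hD g he'D
  refine Set.Subset.antisymm hsub ?_
  intro x hx
  obtain ⟨d, -, hd⟩ := hD.2.1
  have h1 : IsConj e₀ x := by
    have h2 := hsub he₀
    rw [hd] at hx h2
    exact (IsConj.symm h2).trans hx
  obtain ⟨g, rfl⟩ := isConj_iff.1 h1
  exact tt_invariant hE g he₀

end Cfsg.Agent.Coprime.UTT.Uniq
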