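import Mathlib

/-!
# Classes of 3-transpositions on a module in characteristic two

`Q` acts on an elementary abelian 2-group `A` (written additively) and `C`, `C'` are classes of
involutions of `Q` behaving like the images of 3-transpositions of `A ⋊ Q`: commuting members fix
each other's `im`, two non-commuting members span a product of order three killing their `im`
under `1 + ρ + ρ²`.
-/

set_option autoImplicit false
set_option linter.unusedSectionVars false

namespace Cfsg.Agent.Coprime.UTT.Uniq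

variable {Q A : Type*} [Group Q] [AddCommGroup A] [DistribMulAction Q A]

/-- The map `a ↦ x • a + a`. -/
def N (x : Q) : A →+ A where
  toFun a := x • a + a
  map_zero' := by simp
  map_add' a b := by rw [smul_add]; abel

/-- The sum `a + x a + x² a`. -/
def S (x : Q) (a : A) : A := a + x • a + x • x • a

/-- The image of `N x`. -/
def im (A : Type*) [AddCommGroup A] [DistribMulAction Q A] (x : Q) : AddSubgroup A := (N (A := A) x).range

theorem mem_im {x : Q} {b : A} : b ∈ im A x ↔ ∃ a, x • a + a = b := AddMonoidHom.mem_range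

theorem add_self_mem (x : Q) (a : A) : x • a + a ∈ im A x := mem_im.2 ⟨a, rfl⟩

theorem smul_mem_im (q : Q) {x : Q} {b : A} (hb : b ∈ im A x) : q • b ∈ im A (q * x * q⁻¹) := by
  obtain ⟨a, rfl⟩ := mem_im.1 hb
  exact mem_im.2 ⟨q • a, by rw [smul_add, mul_smul, mul_smul, inv_smul_smul]⟩

theorem S_add (x : Q) (a b : A) : S x (a + b) = S x a + S x b := by
  simp only [S, smul_add]; abel

theorem smul_S {q x y : Q} (h : q * x = y * q) (a : A) : q • S x a = S y (q • a) := by
  simp only [S, smul_add, ← mul_smul, h, ← mul_assoc]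
  rw [show y * q * x = y * y * q by rw [mul_assoc, h, mul_assoc]]

theorem smul_S_self {x : Q} (hx : x ^ 3 = 1) (a : A) : x • S x a = S x a := by
  have : x • x • x • a = a := by rw [← mul_smul, ← mul_smul, ← pow_two, ← pow_succ, hx, one_smul]
  simp only [S, smul_add, this]
  abel

/-- In a group of exponent three on two generators the generators commute with their conjugates. -/
theorem commute_conj_of_cube {G : Type*} [Group G] {x y : G} (hy : y ^ 3 = 1) (h1 : (x * y) ^ 3 = 1)
    (h2 : (x * y⁻¹) ^ 3 = 1) : Commute x (y⁻¹ * x * y) := by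
  have a1 : y * x * y = x⁻¹ * y⁻¹ * x⁻¹ := by
    calc y * x * y = x⁻¹ * ((x * y) ^ 3) * y⁻¹ * x⁻¹ := by rw [pow_succ, pow_two]; group
      _ = _ := by rw [h1]; group
  have a3 : x * y * x = y⁻¹ * x⁻¹ * y⁻¹ := by
    calc x * y * x = (x * y) ^ 3 * y⁻¹ * x⁻¹ * y⁻¹ := by rw [pow_succ, pow_two]; group
      _ = _ := by rw [h1]; group
  have a2 : y⁻¹ * x * y⁻¹ = x⁻¹ * y * x⁻¹ := by
    calc y⁻¹ * x * y⁻¹ = x⁻¹ * ((x * y⁻¹) ^ 3) * y * x⁻¹ := by rw [pow_succ, pow_two]; group
      _ = _ := by rw [h2]; group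
  have hy2 : y * y = y⁻¹ := eq_inv_of_mul_eq_one_left (by rw [← pow_two, ← pow_succ, hy])
  show x * (y⁻¹ * x * y) = y⁻¹ * x * y * x
  calc x * (y⁻¹ * x * y) = x * (y⁻¹ * x * y⁻¹) * (y * y) := by group
    _ = x * (x⁻¹ * y * x⁻¹) * y⁻¹ := by rw [a2, hy2]
    _ = (y * y)⁻¹ * x⁻¹ * y⁻¹ := by rw [hy2]; group
    _ = y⁻¹ * (y⁻¹ * x⁻¹ * y⁻¹) := by group
    _ = _ := by rw [← a3]; group

/-- A class of involutions behaving like 3-transpositions on the module. -/
structure TC (A : Type*) [AddCommGroup A] [DistribMulAction Q A] (C : Set Q) : Prop where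
  invol : ∀ x ∈ C, x * x = 1
  ne_one : ∀ x ∈ C, x ≠ 1
  conj : ∀ g : Q, ∀ x ∈ C, g * x * g⁻¹ ∈ C
  single : ∀ x ∈ C, ∀ y ∈ C, IsConj x y
  gen : Subgroup.closure C = ⊤
  comm : ∀ x ∈ C, ∀ y ∈ C, Commute x y → ∀ a : A, y • (x • a + a) = x • a + a
  cube : ∀ x ∈ C, ∀ y ∈ C, ¬ Commute x y → (x * y) ^ 3 = 1
  tri : ∀ x ∈ C, ∀ y ∈ C, ¬ Commute x y → ∀ a : A, S (x * y) (x • a + a) = 0
  twin : ∀ x ∈ C, ∀ y ∈ C, (∀ z ∈ C, (Commute z x ↔ Commute z y)) → x = y
  width : (∀ x ∈ C, ∀ y ∈ C, Commute x y → x = y) →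
    ∀ g ∈ C, ∀ e : Q, e * e = 1 → e ≠ 1 → Commute e g → e = g

/-- The hypotheses on the module. -/
structure Base (Q A : Type*) [Group Q] [AddCommGroup A] [DistribMulAction Q A] : Prop where
  two : ∀ a : A, a + a = 0
  faithful : ∀ q : Q, (∀ a : A, q • a = a) → q = 1
  nofix : ∀ a : A, (∀ q : Q, q • a = a) → a = 0
  central : ∀ t : Q, t * t = 1 → (∀ q, Commute t q) → t = 1

variable (hB : Base Q A) {C : Set Q} (hC : TC A C)

include hB in
theorem eq_of_add {a b : A} (h : a + b = 0) : a = b := by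
  rw [← add_right_cancel_iff (a := b), h, hB.two]

include hB in
theorem fix_of_N {x : Q} {a : A} (h : x • a + a = 0) : x • a = a := eq_of_add hB h

include hC

theorem inv_eq {x : Q} (hx : x ∈ C) : x⁻¹ = x := inv_eq_of_mul_eq_one_right (hC.invol x hx)

theorem smul_smul_self {x : Q} (hx : x ∈ C) (a : A) : x • x • a = a := by
  rw [← mul_smul, hC.invol x hx, one_smul]

theorem im_fix {x : Q} (hx : x ∈ C) {b : A} (hb : b ∈ im A x) : x • b = b := by
  obtain ⟨a, rfl⟩ := mem_im.1 hb
  rw [smul_add, smul_smul_self hC hx, add_comm]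

theorem comm_fix {x y : Q} (hx : x ∈ C) (hy : y ∈ C) (h : Commute x y) {b : A} (hb : b ∈ im A x) :
    y • b = b := by
  obtain ⟨a, rfl⟩ := mem_im.1 hb
  exact hC.comm x hx y hy h a

theorem tri_im {x y : Q} (hx : x ∈ C) (hy : y ∈ C) (h : ¬ Commute x y) {b : A} (hb : b ∈ im A x) :
    S (x * y) b = 0 := by
  obtain ⟨a, rfl⟩ := mem_im.1 hb
  exact hC.tri x hx y hy h a

theorem conj_self {x y : Q} (hx : x ∈ C) (hy : y ∈ C) : x * y * x ∈ C := by
  have := hC.conj x y hy
  rwa [inv_eq hC hx] at this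

theorem braid {x y : Q} (hx : x ∈ C) (hy : y ∈ C) (h : ¬ Commute x y) :
    x * y * x = y * x * y := by
  have h3 := hC.cube x hx y hy h
  calc x * y * x = (x * y) ^ 3 * (y⁻¹ * x⁻¹ * y⁻¹) := by rw [pow_succ, pow_two]; group
    _ = y * x * y := by rw [h3, one_mul, inv_eq hC hx, inv_eq hC hy]

theorem commute_iff {x y : Q} (hx : x ∈ C) : Commute x y ↔ x * y * x = y := by
  constructor
  · intro h
    rw [h.eq, mul_assoc, hC.invol x hx, mul_one]
  · intro h
    show x * y = y * x
    calc x * y = x * y * (x * x) := by rw [hC.invol x hx, mul_one]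
      _ = y * x := by rw [← mul_assoc, h]

include hB

/-- A non-commuting member moves every non-zero element of the image. -/
theorem eq_zero_of_fix {x y : Q} (hx : x ∈ C) (hy : y ∈ C) (h : ¬ Commute x y) {b : A}
    (hb : b ∈ im A x) (hfix : y • b = b) : b = 0 := by
  have := tri_im hC hx hy h hb
  simp only [S, mul_smul, hfix, im_fix hC hx hb, hB.two, zero_add] at this
  exact this

/-- The images of two different members meet trivially. -/
theorem eq_of_inter {x y : Q} (hx : x ∈ C) (hy : y ∈ C) {b : A} (hb : b ≠ 0) (hbx : b ∈ im A x)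
    (hby : b ∈ im A y) : x = y := by
  refine hC.twin x hx y hy fun z hz => ⟨fun h => ?_, fun h => ?_⟩
  · by_contra hn
    exact hb (eq_zero_of_fix hB hC hy hz (fun h' => hn h'.symm) hby (comm_fix hC hx hz h.symm hbx))
  · by_contra hn
    exact hb (eq_zero_of_fix hB hC hx hz (fun h' => hn h'.symm) hbx (comm_fix hC hy hz h.symm hby))

theorem exists_ne_zero {x : Q} (hx : x ∈ C) : ∃ b ∈ im A x, b ≠ 0 := by
  by_contra h
  push Not at h
  exact hC.ne_one x hx (hB.faithful x fun a => fix_of_N hB (h _ (add_self_mem x a)))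

theorem exists_noncommute {x : Q} (hx : x ∈ C) : ∃ y ∈ C, ¬ Commute x y := by
  by_contra h
  push Not at h
  refine hC.ne_one x hx (hB.central x (hC.invol x hx) fun q => ?_)
  have hle : Subgroup.closure C ≤ Subgroup.centralizer {x} := (Subgroup.closure_le _).2 fun y hy =>
    Subgroup.mem_centralizer_singleton_iff.2 (h y hy).eq.symm
  rw [hC.gen] at hle
  exact (Subgroup.mem_centralizer_singleton_iff.1 (hle (Subgroup.mem_top q))).symm

/-- A member inverting `x y` is trivial on its fixed points. -/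
theorem fix_pair {x y : Q} (hx : x ∈ C) (hy : y ∈ C) (h : ¬ Commute x y) {a : A}
    (ha : (x * y) • a = a) : x • a = a ∧ y • a = a := by
  have hm : (x * y) • (x • a + a) = x • a + a := by
    have ha' : (y * x) • a = a := by
      rw [← inv_eq hC hy, ← inv_eq hC hx, ← mul_inv_rev, inv_smul_eq_iff, ha]
    rw [smul_add, ha, ← mul_smul, mul_assoc, mul_smul, ha']
  have hx' : x • a = a := by
    refine fix_of_N hB ?_
    have := hC.tri x hx y hy h a
    simp only [S, hm, hB.two, zero_add] at this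
    exact this
  refine ⟨hx', ?_⟩
  calc y • a = x • x • y • a := (smul_smul_self hC hx _).symm
    _ = a := by rw [← mul_smul x y, ha, hx']

section Two

variable {C' : Set Q} (hC' : TC A C')
include hC'

theorem ne_conj {d e : Q} (he : e ∈ C') (h : ¬ Commute d e) : e * d * e ≠ d := fun h' =>
  h ((commute_iff hC' he).2 h').symm

theorem mem_flip {d e : Q} (hd : d ∈ C) (he : e ∈ C') : e * d * e ∈ C := by
  have := hC.conj e d hd
  rwa [inv_eq hC' he] at this

theorem flip_im {d e : Q} (he : e ∈ C') {u : A} (hu : u ∈ im A d) :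
    e • u ∈ im A (e * d * e) := by
  have := smul_mem_im e hu
  rwa [inv_eq hC' he] at this

theorem card_le [Finite A] {d e : Q} (hd : d ∈ C) (he : e ∈ C') (h : ¬ Commute d e) :
    Nat.card (im A d) ≤ Nat.card (im A e) ∧
      Function.Injective (fun u : im A d =>
        (⟨e • (u : A) + u, add_self_mem e _⟩ : im A e)) := by
  suffices hinj : Function.Injective (fun u : im A d =>
      (⟨e • (u : A) + u, add_self_mem e _⟩ : im A e)) from
    ⟨Nat.card_le_card_of_injective _ hinj, hinj⟩
  intro u v huv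
  have h1 : e • (u : A) + u = e • (v : A) + v := congrArg Subtype.val huv
  have hw : (u : A) + v ∈ im A d := add_mem u.2 v.2
  have h2 : e • ((u : A) + v) = u + v := by
    refine fix_of_N hB ?_
    rw [smul_add, add_add_add_comm, h1, hB.two]
  by_contra hne
  have h0 : (u : A) + v ≠ 0 := fun h' => hne (Subtype.ext (eq_of_add hB h'))
  have h3 := flip_im hB hC hC' he hw
  rw [h2] at h3
  exact ne_conj hB hC hC' he h (eq_of_inter hB hC hd (mem_flip hB hC hC' hd he) h0 hw h3).symm

theorem exists_im [Finite A] {d e : Q} (hd : d ∈ C) (he : e ∈ C') (h : ¬ Commute d e) {y : A}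
    (hy : y ∈ im A e) : ∃ u ∈ im A d, e • u + u = y := by
  obtain ⟨h1, hinj⟩ := card_le hB hC hC' hd he h
  obtain ⟨h2, -⟩ := card_le hB hC' hC he hd (fun h' => h h'.symm)
  obtain ⟨u, hu⟩ := ((Nat.bijective_iff_injective_and_card _).2 ⟨hinj, le_antisymm h1 h2⟩).2 ⟨y, hy⟩
  exact ⟨u, u.2, congrArg Subtype.val hu⟩

theorem noncommute_flip [Finite A] {d e : Q} (hd : d ∈ C) (he : e ∈ C') (h : ¬ Commute d e) :
    ¬ Commute d (e * d * e) := by
  intro hc
  have hf := mem_flip hB hC hC' hd he
  have hfix : ∀ y ∈ im A e, d • y = y := fun y hy => by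
    obtain ⟨u, hu, rfl⟩ := exists_im hB hC hC' hd he h hy
    rw [smul_add, comm_fix hC hf hd hc.symm (flip_im hB hC hC' he hu), im_fix hC hd hu]
  obtain ⟨y, hy, hy0⟩ := exists_ne_zero hB hC' he
  have h1 := flip_im hB hC' hC hd hy
  rw [hfix y hy] at h1
  exact ne_conj hB hC' hC hd (fun h' => h h'.symm)
    (eq_of_inter hB hC' he (mem_flip hB hC' hC he hd) hy0 hy h1).symm

/-- The third member of the line of `d` and its image. -/
def third (d e : Q) : Q := d * (e * d * e) * d

/-- The members linked to `e`. -/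
def Linked (C : Set Q) (e g : Q) : Prop := ∃ d ∈ C, ¬ Commute d e ∧ g = third d e

variable [Finite A] {e g : Q}

theorem linked_mem (he : e ∈ C') (hg : Linked C e g) : g ∈ C := by
  obtain ⟨d, hd, -, rfl⟩ := hg
  exact conj_self hC hd (mem_flip hB hC hC' hd he)

theorem linked_commute (he : e ∈ C') (hg : Linked C e g) : Commute e g := by
  obtain ⟨d, hd, h, rfl⟩ := hg
  have hb := braid hC hd (mem_flip hB hC hC' hd he) (noncommute_flip hB hC hC' hd he h)
  refine (commute_iff hC' he).2 ?_
  rw [third]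
  nth_rw 2 [hb]
  calc e * (d * (e * d * e) * d) * e = (e * d * e) * d * (e * d * e) := by group
    _ = _ := rfl

/-- On the image of `d` the map `u ↦ N_d (e u)` is an involution. -/
theorem alpha_alpha (he : e ∈ C') {d : Q} (hd : d ∈ C) (h : ¬ Commute d e) {u : A}
    (hu : u ∈ im A d) :
    d • e • (d • e • u + e • u) + e • (d • e • u + e • u) = u := by
  have hee : ∀ a : A, e • e • a = a := smul_smul_self hC' he
  obtain ⟨f, hf⟩ : ∃ f, f = e * d * e := ⟨_, rfl⟩
  have hdu := im_fix hC hd hu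
  have hfC : f ∈ C := hf ▸ mem_flip hB hC hC' hd he
  have hnc : ¬ Commute d f := hf ▸ noncommute_flip hB hC hC' hd he h
  have hS := tri_im hC hd hfC hnc hu
  have hfu : e • (d • e • u + e • u) = f • u + u := by
    rw [smul_add, hee, hf, mul_smul, mul_smul]
  rw [hfu, smul_add, hdu]
  have h2 : (d * f) • (d * f) • u = f • u := by
    have h3 : (d * f) ^ 2 = f * d := by
      have hc := hC.cube d hd f hfC hnc
      rw [pow_succ] at hc
      rw [eq_inv_of_mul_eq_one_left hc, mul_inv_rev, inv_eq hC hd, inv_eq hC hfC]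
    rw [← mul_smul, ← pow_two, h3, mul_smul, hdu]
  simp only [S, h2] at hS
  rw [mul_smul] at hS
  calc d • f • u + u + (f • u + u) = (u + d • f • u + f • u) + u := by abel
    _ = u := by rw [hS, zero_add]

/-- The common part of the images of `e` and a linked member has at least the square root of
the order of the image. -/
theorem linked_half (he : e ∈ C') (hg : Linked C e g) :
    Nat.card (im A e) ≤ Nat.card ↥(im A g ⊓ im A e) * Nat.card ↥(im A g ⊓ im A e) := by
  obtain ⟨d, hd, h, rfl⟩ := hg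
  have hle := (card_le hB hC' hC he hd (fun h' => h h'.symm)).1
  obtain ⟨M, hM⟩ : ∃ M, M = im A (third d e) ⊓ im A e := ⟨_, rfl⟩
  -- send `u` to the fixed element `u + α u` and then into the intersection
  let β : im A d →+ A :=
    { toFun := fun u => ((N d).comp (DistribSMul.toAddMonoidHom A e)) u + (u : A)
      map_zero' := by simp
      map_add' := fun u v => by simp only [AddSubgroup.coe_add, map_add]; abel }
  have hβ : ∀ u : im A d, β u = d • e • (u : A) + e • (u : A) + u := fun _ => rfl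
  have hmaps : ∀ x ∈ im A d, d • e • x + e • x = x → e • x + x ∈ M := fun x hx hfix => by
    rw [hM]
    refine ⟨?_, add_self_mem e x⟩
    have h1 := smul_mem_im d (flip_im hB hC hC' he hx)
    rw [inv_eq hC hd] at h1
    have h2 : d • e • x = e • x + x := by
      refine eq_of_add hB ?_
      rw [← add_assoc, hfix, hB.two]
    rwa [h2] at h1
  have hα : ∀ x ∈ im A d, ∀ y, y = d • e • x + e • x + x → y ∈ im A d ∧ d • e • y + e • y = y := by
    intro x hx y hy
    refine ⟨hy ▸ add_mem (add_self_mem d (e • x)) hx, ?_⟩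
    rw [hy, smul_add e (d • e • x + e • x) x, smul_add d (e • (d • e • x + e • x)) (e • x)]
    have := alpha_alpha hB hC hC' he hd h hx
    calc d • e • (d • e • x + e • x) + d • e • x + (e • (d • e • x + e • x) + e • x)
        = (d • e • (d • e • x + e • x) + e • (d • e • x + e • x)) + (d • e • x + e • x) := by abel
      _ = _ := by rw [this]; abel
  have hker : Nat.card β.ker ≤ Nat.card M := by
    refine Nat.card_le_card_of_injective
      (fun u => (⟨e • ((u : im A d) : A) + (u : im A d),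
        hmaps _ (u : im A d).2 (eq_of_add hB ((hβ u).symm.trans u.2))⟩ : M)) fun u v huv => ?_
    have h3 := congrArg Subtype.val huv
    exact Subtype.ext ((card_le hB hC hC' hd he h).2 (Subtype.ext h3))
  have hrange : Nat.card β.range ≤ Nat.card M := by
    have hr : ∀ y ∈ β.range, y ∈ im A d ∧ d • e • y + e • y = y := by
      rintro y ⟨u, rfl⟩
      exact hα u u.2 _ (hβ u)
    refine Nat.card_le_card_of_injective
      (fun y => (⟨e • (y : A) + y, hmaps _ (hr y y.2).1 (hr y y.2).2⟩ : M)) fun u v huv => ?_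
    have h3 := congrArg Subtype.val huv
    have h4 := @(card_le hB hC hC' hd he h).2 ⟨u, (hr u u.2).1⟩ ⟨v, (hr v v.2).1⟩ (Subtype.ext h3)
    exact Subtype.ext (congrArg (fun z : im A d => (z : A)) h4)
  have hcard : Nat.card (im A d) = Nat.card β.range * Nat.card β.ker := by
    rw [← AddSubgroup.index_ker β, AddSubgroup.index_mul_card]
  rw [← hM]
  calc Nat.card (im A e) ≤ Nat.card (im A d) := hle
    _ = Nat.card β.range * Nat.card β.ker := hcard
    _ ≤ _ := Nat.mul_le_mul hrange hker

theorem linked_inter (he : e ∈ C') (hg : Linked C e g) : ∃ b, b ≠ 0 ∧ b ∈ im A g ∧ b ∈ im A e := by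
  have h := linked_half hB hC hC' he hg
  obtain ⟨y, hy, hy0⟩ := exists_ne_zero hB hC' he
  by_contra hno
  push Not at hno
  have h1 : Nat.card ↥(im A g ⊓ im A e) = 1 := by
    rw [AddSubgroup.card_eq_one, AddSubgroup.eq_bot_iff_forall]
    intro b hb
    by_contra hb0
    exact hno b hb0 hb.1 hb.2
  have h2 : Nat.card (im A e) ≠ 1 := fun h2 => hy0 ((AddSubgroup.eq_bot_iff_forall _).1
    (AddSubgroup.card_eq_one.1 h2) y hy)
  have h3 : Nat.card (im A e) ≠ 0 := Nat.card_pos.ne'
  rw [h1] at h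
  omega

theorem linked_perp (he : e ∈ C') (hg : Linked C e g) {h : Q} (hh : h ∈ C) (hc : Commute g h) :
    Commute h e := by
  obtain ⟨b, hb0, hbg, hbe⟩ := linked_inter hB hC hC' he hg
  by_contra hne
  have h1 := flip_im hB hC' hC hh hbe
  rw [comm_fix hC (linked_mem hB hC hC' he hg) hh hc hbg] at h1
  exact ne_conj hB hC' hC hh (fun h' => hne h'.symm)
    (eq_of_inter hB hC' he (mem_flip hB hC' hC he hh) hb0 hbe h1).symm

theorem linked_conj (hg : Linked C e g) {c : Q} (hc : Commute c e) :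
    Linked C e (c * g * c⁻¹) := by
  obtain ⟨d, hd, h, rfl⟩ := hg
  have hce : c * e * c⁻¹ = e := by rw [hc.eq, mul_inv_cancel_right]
  refine ⟨c * d * c⁻¹, hC.conj c d hd, fun h' => h ?_, ?_⟩
  · have h2 : Commute (c⁻¹ * (c * d * c⁻¹) * c) (c⁻¹ * e * c) := by
      show _ = _
      calc c⁻¹ * (c * d * c⁻¹) * c * (c⁻¹ * e * c) = c⁻¹ * ((c * d * c⁻¹) * e) * c := by group
        _ = c⁻¹ * (e * (c * d * c⁻¹)) * c := by rw [h'.eq]
        _ = _ := by group
    rwa [show c⁻¹ * (c * d * c⁻¹) * c = d by group,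
      show c⁻¹ * e * c = e by rw [mul_assoc, ← hc.eq, inv_mul_cancel_left]] at h2
  · rw [third, third]
    calc c * (d * (e * d * e) * d) * c⁻¹
        = (c * d * c⁻¹) * ((c * e * c⁻¹) * (c * d * c⁻¹) * (c * e * c⁻¹)) * (c * d * c⁻¹) := by group
      _ = _ := by rw [hce]

/-- The image of `e` is spanned by the common parts with two linked members. -/
theorem linked_span (he : e ∈ C') {h : Q} (hg : Linked C e g) (hh : Linked C e h) (hne : g ≠ h)
    {y : A} (hy : y ∈ im A e) :
    ∃ a ∈ im A g ⊓ im A e, ∃ b ∈ im A h ⊓ im A e, a + b = y := by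
  let γ : ↥(im A g ⊓ im A e) × ↥(im A h ⊓ im A e) → im A e :=
    fun p => ⟨(p.1 : A) + (p.2 : A), add_mem p.1.2.2 p.2.2.2⟩
  have hinj : Function.Injective γ := by
    rintro ⟨a, b⟩ ⟨a', b'⟩ hab
    have h1 : (a : A) + b = a' + b' := congrArg Subtype.val hab
    have h2 : (a : A) + a' = b + b' := by
      refine eq_of_add hB ?_
      rw [add_add_add_comm, ← h1, add_add_add_comm, hB.two, hB.two, zero_add]
    have h3 : (a : A) + a' = 0 := by
      by_contra h0
      refine hne (eq_of_inter hB hC (linked_mem hB hC hC' he hg) (linked_mem hB hC hC' he hh) h0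
        (add_mem a.2.1 a'.2.1) ?_)
      rw [h2]
      exact add_mem b.2.1 b'.2.1
    rw [h3, eq_comm] at h2
    exact Prod.ext (Subtype.ext (eq_of_add hB h3)) (Subtype.ext (eq_of_add hB h2))
  have hcard : Nat.card (↥(im A g ⊓ im A e) × ↥(im A h ⊓ im A e)) = Nat.card (im A e) := by
    refine le_antisymm (Nat.card_le_card_of_injective _ hinj) ?_
    rw [Nat.card_prod]
    rcases le_total (Nat.card ↥(im A g ⊓ im A e)) (Nat.card ↥(im A h ⊓ im A e)) with hab | hab
    · exact (linked_half hB hC hC' he hg).trans (Nat.mul_le_mul_left _ hab)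
    · exact (linked_half hB hC hC' he hh).trans (Nat.mul_le_mul_right _ hab)
  obtain ⟨⟨a, b⟩, hab⟩ := ((Nat.bijective_iff_injective_and_card γ).2 ⟨hinj, hcard⟩).2 ⟨y, hy⟩
  exact ⟨a, a.2, b, b.2, congrArg Subtype.val hab⟩

/-- Two linked members do not commute. -/
theorem linked_noncommute (he : e ∈ C') {h : Q} (hg : Linked C e g) (hh : Linked C e h)
    (hne : g ≠ h) : ¬ Commute g h := by
  intro hc
  have hgC := linked_mem hB hC hC' he hg
  have hhC := linked_mem hB hC hC' he hh
  have hfe : ∀ y ∈ im A e, h • y = y := fun y hy => by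
    obtain ⟨a, ha, b, hb, rfl⟩ := linked_span hB hC hC' he hg hh hne hy
    rw [smul_add, comm_fix hC hgC hhC hc ha.1, im_fix hC hhC hb.1]
  have hdh : ∀ d ∈ C, ¬ Commute d e → ¬ Commute d h := fun d hd hde hdh =>
    hde (linked_perp hB hC hC' he hh hd hdh.symm)
  obtain ⟨d, hd, hde, hgd⟩ := hg
  have hf := mem_flip hB hC hC' hd he
  have hee : ∀ a : A, e • e • a = a := smul_smul_self hC' he
  -- `h` fixes `u + α u` for all `u` in the image of `d`
  have key : ∀ u ∈ im A d, d • e • u + e • u = u := by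
    intro u hu
    refine eq_of_add hB (eq_zero_of_fix hB hC hd hhC (hdh d hd hde)
      (add_mem (add_self_mem d (e • u)) hu) ?_)
    have h1 : d • e • u ∈ im A g := by
      have := smul_mem_im d (flip_im hB hC hC' he hu)
      rw [inv_eq hC hd] at this
      rwa [hgd]
    have e1 : d • e • u + e • u + u = d • e • u + (e • u + u) := by abel
    rw [e1, smul_add, comm_fix hC hgC hhC hc h1, hfe _ (add_self_mem e u)]
  obtain ⟨b, hb0, hbh, hbe⟩ := linked_inter hB hC hC' he hh
  obtain ⟨u, hu, hub⟩ := exists_im hB hC hC' hd he hde hbe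
  refine hne (eq_of_inter hB hC hgC hhC hb0 ?_ hbh)
  have h1 := smul_mem_im d (flip_im hB hC hC' he hu)
  rw [inv_eq hC hd] at h1
  have h2 : d • e • u = b := by
    rw [← hub]
    refine eq_of_add hB ?_
    rw [← add_assoc, key u hu, hB.two]
  rw [h2] at h1
  rwa [hgd]

theorem linked_fix_e (he : e ∈ C') {h : Q} (hg : Linked C e g) (hh : Linked C e h) (hne : g ≠ h)
    {w : A} (hw : (g * h) • w = w) : e • w = w := by
  have hgC := linked_mem hB hC hC' he hg
  have hhC := linked_mem hB hC hC' he hh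
  have hnc := linked_noncommute hB hC hC' he hg hh hne
  refine fix_of_N hB ?_
  have hy : (g * h) • (e • w + w) = e • w + w := by
    rw [smul_add, hw, ← mul_smul, ← ((linked_commute hB hC hC' he hg).mul_right
      (linked_commute hB hC hC' he hh)).eq, mul_smul, hw]
  obtain ⟨a, ha, b, hb, hab⟩ := linked_span hB hC hC' he hg hh hne (add_self_mem e w)
  have h1 : S (g * h) a = 0 := tri_im hC hgC hhC hnc ha.1
  have h2 : S (g * h) b = 0 := by
    have hS := tri_im hC hhC hgC (fun h' => hnc h'.symm) hb.1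
    have hrev : (h * g) = (g * h) * (g * h) := by
      have h3 := hC.cube g hgC h hhC hnc
      rw [pow_succ, pow_two] at h3
      rw [eq_inv_of_mul_eq_one_left h3, mul_inv_rev, inv_eq hC hgC, inv_eq hC hhC]
    have h4 : (g * h) • (g * h) • (g * h) • b = b := by
      rw [← mul_smul, ← mul_smul, ← pow_two, ← pow_succ, hC.cube g hgC h hhC hnc, one_smul]
    simp only [S, hrev, mul_smul (g * h) (g * h), h4] at hS
    calc S (g * h) b = b + (g * h) • (g * h) • b + (g * h) • b := by simp only [S]; abel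
      _ = 0 := hS
  have := congrArg (S (g * h)) hab
  rw [S_add, h1, h2, add_zero] at this
  simp only [S, hy, hB.two, zero_add] at this
  exact this.symm

/-- The fixed points of the two products in a plane through `d`. -/
theorem plane_fix (he : e ∈ C') {d h : Q} (hd : d ∈ C) (hde : ¬ Commute d e)
    (hh : Linked C e h) (hne : third d e ≠ h) (w : A) :
    (d * (e * d * e)) • w = w ↔ (third d e * h) • w = w := by
  have hg : Linked C e (third d e) := ⟨d, hd, hde, rfl⟩
  have hhC := linked_mem hB hC hC' he hh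
  have hgC := linked_mem hB hC hC' he hg
  have hf := mem_flip hB hC hC' hd he
  have hdf := noncommute_flip hB hC hC' hd he hde
  have hgh := linked_noncommute hB hC hC' he hg hh hne
  have heg := linked_commute hB hC hC' he hg
  have heh := linked_commute hB hC hC' he hh
  have hee := hC'.invol e he
  have hgi := inv_eq hC hgC
  have hhi := inv_eq hC hhC
  have hei := inv_eq hC' he
  obtain ⟨ρ, hρ⟩ : ∃ ρ, ρ = third d e * h := ⟨_, rfl⟩
  obtain ⟨τ, hτ⟩ : ∃ τ, τ = d * (e * d * e) := ⟨_, rfl⟩
  rw [← hρ, ← hτ]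
  have hτ3 : τ ^ 3 = 1 := hτ ▸ hC.cube d hd _ hf hdf
  have hρ3 : ρ ^ 3 = 1 := hρ ▸ hC.cube _ hgC h hhC hgh
  have hτg : τ = third d e * d := by rw [hτ, third, mul_assoc _ d d, hC.invol d hd, mul_one]
  -- conjugation by `e` and by `g`
  have eτ : e * τ * e = τ⁻¹ := by
    rw [hτ, mul_inv_rev, inv_eq hC hf, inv_eq hC hd]
    calc e * (d * (e * d * e)) * e = e * d * e * (d * (e * e)) := by group
      _ = _ := by rw [hee, mul_one]
  have eρ : e * ρ * e = ρ := by
    rw [hρ, (heg.mul_right heh).eq, mul_assoc, hee, mul_one]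
  have gτ : third d e * τ * third d e = τ⁻¹ := by
    rw [hτg, ← mul_assoc, hC.invol _ hgC, one_mul, mul_inv_rev, inv_eq hC hd, hgi]
  have gρ : third d e * ρ * third d e = ρ⁻¹ := by
    rw [hρ, ← mul_assoc, hC.invol _ hgC, one_mul, mul_inv_rev, hhi, hgi]
  -- fixed points of `τ`
  have eT : ∀ a : A, τ • a = a → e • a = a := by
    intro a ha
    refine fix_of_N hB ?_
    obtain ⟨u, hu, hu'⟩ := exists_im hB hC hC' hd he hde (add_self_mem e a)
    have h1 : S τ u = 0 := hτ ▸ tri_im hC hd hf hdf hu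
    have h2 : S τ (e • u) = 0 := by
      rw [← smul_S (show e * τ⁻¹ = τ * e by rw [← eτ, ← mul_assoc, ← mul_assoc, hee, one_mul])]
      have h3 : S τ⁻¹ u = S τ u := by
        have hinv : τ⁻¹ = τ * τ := inv_eq_of_mul_eq_one_right (by rw [← hτ3, pow_succ, pow_two, mul_assoc])
        have h4 : τ • τ • τ • u = u := by
          rw [← mul_smul, ← mul_smul, ← pow_two, ← pow_succ, hτ3, one_smul]
        simp only [S, hinv, mul_smul τ τ, h4]
        abel
      rw [h3, h1, smul_zero]
    have ha' : τ⁻¹ • a = a := by rw [inv_smul_eq_iff, ha]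
    have h5 : τ • (e • a + a) = e • a + a := by
      rw [smul_add, ha, ← mul_smul,
        show τ * e = e * τ⁻¹ by rw [← eτ, ← mul_assoc, ← mul_assoc, hee, one_mul], mul_smul, ha']
    have := S_add τ (e • u) u
    rw [hu', h1, h2, add_zero] at this
    simp only [S, h5, hB.two, zero_add] at this
    exact this
  have gT : ∀ a : A, τ • a = a → third d e • a = a := by
    intro a ha
    obtain ⟨h1, h2⟩ := fix_pair hB hC hd hf hdf (hτ ▸ ha)
    rw [third, mul_smul, mul_smul, h1, h2, h1]
  -- the commutator is trivial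
  have hcube1 : (ρ * τ) ^ 3 = 1 := by
    have hk : Linked C e (third d e * h * third d e) := by
      have := linked_conj hB hC hC' hh heg.symm
      rwa [hgi] at this
    have hkC := linked_mem hB hC hC' he hk
    rw [hρ, hτg, ← mul_assoc]
    exact hC.cube _ hkC d hd fun h' => hde (linked_perp hB hC hC' he hk hd h')
  have hcube2 : (ρ⁻¹ * τ) ^ 3 = 1 := by
    rw [hρ, hτg, mul_inv_rev, mul_assoc, ← mul_assoc (third d e)⁻¹, inv_mul_cancel, one_mul, hhi]
    exact hC.cube h hhC d hd fun h' => hde (linked_perp hB hC hC' he hh hd h')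
  have hcube3 : (ρ * τ⁻¹) ^ 3 = 1 := by
    calc (ρ * τ⁻¹) ^ 3 = τ * ((ρ⁻¹ * τ) ^ 3)⁻¹ * τ⁻¹ := by (simp only [pow_succ, pow_zero, one_mul]; group)
      _ = 1 := by rw [hcube2]; group
  have c1 : Commute ρ (τ⁻¹ * ρ * τ) := commute_conj_of_cube hτ3 hcube1 hcube3
  have c2 : Commute τ (ρ⁻¹ * τ * ρ) := by
    refine commute_conj_of_cube hρ3 ?_ ?_
    · calc (τ * ρ) ^ 3 = ρ⁻¹ * (ρ * τ) ^ 3 * ρ := by (simp only [pow_succ, pow_zero, one_mul]; group)
        _ = 1 := by rw [hcube1]; group
    · calc (τ * ρ⁻¹) ^ 3 = ((ρ * τ⁻¹) ^ 3)⁻¹ := by (simp only [pow_succ, pow_zero, one_mul]; group)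
        _ = 1 := by rw [hcube3, inv_one]
  obtain ⟨z, hz⟩ : ∃ z, z = ρ⁻¹ * τ⁻¹ * ρ * τ := ⟨_, rfl⟩
  have zρ : Commute z ρ := by
    rw [hz, show ρ⁻¹ * τ⁻¹ * ρ * τ = ρ⁻¹ * (τ⁻¹ * ρ * τ) by group]
    exact (Commute.inv_left (Commute.refl ρ)).mul_left c1.symm
  have zτ : Commute z τ := by
    rw [hz, show ρ⁻¹ * τ⁻¹ * ρ * τ = (ρ⁻¹ * τ * ρ)⁻¹ * τ by group]
    exact c2.symm.inv_left.mul_left (Commute.refl τ)
  have hz3 : z ^ 3 = 1 := by
    rw [hz, show ρ⁻¹ * τ⁻¹ * ρ * τ = ρ⁻¹ * (τ⁻¹ * ρ * τ) by group, c1.inv_left.mul_pow, inv_pow,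
      hρ3, show (τ⁻¹ * ρ * τ) ^ 3 = τ⁻¹ * ρ ^ 3 * τ by simp only [pow_succ, pow_zero, one_mul]; group, hρ3]
    group
  have tz : (e * third d e) * z = z⁻¹ * (e * third d e) := by
    have step : ∀ (x : Q) {r s r' s' : Q}, x * x = 1 → x * r * x = r' → x * s * x = s' →
        x * (r⁻¹ * s⁻¹ * r * s) * x = r'⁻¹ * s'⁻¹ * r' * s' := by
      intro x r s r' s' hx hr hs
      have hxi : x⁻¹ = x := inv_eq_of_mul_eq_one_right hx
      rw [← hr, ← hs]
      simp only [mul_inv_rev, hxi, mul_assoc]
      simp only [← mul_assoc x x, hx, one_mul]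
    have s1 := step _ (hC.invol _ hgC) gρ gτ
    have eρi : e * ρ⁻¹ * e = ρ⁻¹ := by
      conv_rhs => rw [← eρ]
      rw [mul_inv_rev, mul_inv_rev, hei, mul_assoc]
    have eτi : e * τ⁻¹ * e = τ := by
      conv_rhs => rw [← inv_inv τ, ← eτ]
      rw [mul_inv_rev, mul_inv_rev, hei, mul_assoc]
    have s2 := step e hee eρi eτi
    rw [← s1, ← hz, inv_inv] at s2
    have h1 : (e * third d e) * z * (third d e * e) = z⁻¹ := by
      calc (e * third d e) * z * (third d e * e) = e * (third d e * z * third d e) * e := by group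
        _ = ρ * τ⁻¹ * ρ⁻¹ * τ := s2
        _ = ρ * z⁻¹ * ρ⁻¹ := by rw [hz]; group
        _ = z⁻¹ := by rw [← zρ.inv_left.eq, mul_inv_cancel_right]
    rw [← h1, mul_assoc _ (third d e * e), mul_assoc (third d e), ← mul_assoc e e, hee, one_mul,
      hC.invol _ hgC, mul_one]
  have zT : ∀ a : A, τ • a = a → z • a = a := by
    intro a ha
    have hza : τ • z • a = z • a := by rw [← mul_smul, ← zτ.eq, mul_smul, ha]
    have h1 : z • a = z⁻¹ • a := by
      calc z • a = (e * third d e) • z • a := by rw [mul_smul, gT _ hza, eT _ hza]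
        _ = z⁻¹ • (e * third d e) • a := by rw [← mul_smul, tz, mul_smul]
        _ = z⁻¹ • a := by rw [mul_smul, gT a ha, eT a ha]
    have h2 : z • z • a = a := by rw [h1, smul_inv_smul]
    calc z • a = z • z • z • a := by rw [h2]
      _ = a := by rw [← mul_smul, ← mul_smul, ← pow_two, ← pow_succ, hz3, one_smul]
  have hz1 : z = 1 := by
    refine hB.faithful z fun a => fix_of_N hB ?_
    obtain ⟨y, hy⟩ : ∃ y, y = z • a + a := ⟨_, rfl⟩
    have hz3a : z • z • z • a = a := by rw [← mul_smul, ← mul_smul, ← pow_two, ← pow_succ, hz3, one_smul]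
    have hyS : S z y = 0 := by
      simp only [hy, S, smul_add, hz3a]
      calc _ = (a + a) + (z • a + z • a) + (z • z • a + z • z • a) := by abel
        _ = 0 := by simp [hB.two]
    have kill : ∀ x : A, S z x = 0 → S τ x = 0 := by
      intro x hx
      have h1 : z • S τ x = S τ x := zT _ (smul_S_self hτ3 x)
      have h2 : S z (S τ x) = S τ (S z x) := by
        rw [S, smul_S zτ.eq, smul_S zτ.eq, ← S_add, ← S_add]
        rfl
      rw [hx] at h2
      simp only [S, smul_zero, add_zero] at h2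
      simp only [S] at h1 ⊢
      rw [h1, h1, hB.two, zero_add] at h2
      exact h2
    have conjS : ∀ q : Q, Commute q z → S (q * τ * q⁻¹) y = 0 := by
      intro q hq
      have h1 := kill (q⁻¹ • y) (by rw [← smul_S hq.inv_left.eq, hyS, smul_zero])
      have h2 := smul_S (show q * τ = (q * τ * q⁻¹) * q by rw [inv_mul_cancel_right]) (q⁻¹ • y)
      rw [h1, smul_zero, smul_inv_smul] at h2
      exact h2.symm
    have k0 := kill y hyS
    have k1 := conjS ρ zρ.symm
    have k2 := conjS ρ⁻¹ zρ.symm.inv_left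
    have e1 : ρ * τ * ρ⁻¹ = τ * z := by
      calc ρ * τ * ρ⁻¹ = τ * ρ * (ρ⁻¹ * τ⁻¹ * ρ * τ) * ρ⁻¹ := by group
        _ = τ * ρ * (z * ρ⁻¹) := by rw [hz]; group
        _ = τ * z := by rw [zρ.inv_right.eq, mul_assoc, mul_inv_cancel_left]
    have e2 : ρ⁻¹ * τ * ρ⁻¹⁻¹ = τ * z * z := by
      have h1 : ρ⁻¹ * τ * ρ⁻¹⁻¹ = τ * z⁻¹ := by
        rw [inv_inv]
        calc ρ⁻¹ * τ * ρ = τ * (τ⁻¹ * ρ⁻¹ * τ * ρ) := by group
          _ = τ * z⁻¹ := by rw [hz]; group
      rw [h1, mul_assoc, inv_eq_of_mul_eq_one_right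
        (show z * (z * z) = 1 by rw [← hz3, pow_succ, pow_two, mul_assoc])]
    rw [e1] at k1
    rw [e2] at k2
    have hy3 : z • z • z • y = y := by rw [← mul_smul, ← mul_smul, ← pow_two, ← pow_succ, hz3, one_smul]
    have hc : ∀ b : A, z • τ • b = τ • z • b := fun b => by rw [← mul_smul, zτ.eq, mul_smul]
    have hSS : τ • S z y + τ • τ • S z y = 0 := by rw [hyS, smul_zero, smul_zero, add_zero]
    simp only [S, mul_smul, hc, hy3] at k0 k1 k2 hSS
    simp only [smul_add] at hSS
    rw [← hy]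
    calc y = (y + τ • y + τ • τ • y) + (y + τ • z • y + τ • τ • z • z • y)
          + (y + τ • z • z • y + τ • τ • z • y)
          + (τ • y + τ • z • y + τ • z • z • y +
            (τ • τ • y + τ • τ • z • y + τ • τ • z • z • y)) := by
            have h2 := hB.two
            abel_nf
            simp [two_zsmul, h2, show ∀ b : A, (3 : ℤ) • b = b from fun b => by
              rw [show (3 : ℤ) = 2 + 1 from rfl, add_zsmul, two_zsmul, h2, one_zsmul, zero_add]]
      _ = 0 := by rw [k0, k1, k2, hSS]; simp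
  have hcomm : τ * ρ = ρ * τ := by
    have : ρ⁻¹ * τ⁻¹ * ρ * τ = 1 := hz ▸ hz1
    calc τ * ρ = τ * ρ * (ρ⁻¹ * τ⁻¹ * ρ * τ) := by rw [this, mul_one]
      _ = ρ * τ := by group
  constructor
  · intro ha
    have h1 : τ • ρ • w = ρ • w := by rw [← mul_smul, hcomm, mul_smul, ha]
    have h2 : ρ⁻¹ • w = ρ • w := by
      calc ρ⁻¹ • w = (third d e * ρ * third d e) • w := by rw [gρ]
        _ = ρ • w := by rw [mul_smul, mul_smul, gT w ha, gT _ h1]
    have h3 : ρ • ρ • w = w := by rw [← h2, smul_inv_smul]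
    calc ρ • w = ρ • ρ • ρ • w := by rw [h3]
      _ = w := by rw [← mul_smul, ← mul_smul, ← pow_two, ← pow_succ, hρ3, one_smul]
  · intro ha
    have h1 : ρ • τ • w = τ • w := by rw [← mul_smul, ← hcomm, mul_smul, ha]
    have h2 : τ⁻¹ • w = τ • w := by
      calc τ⁻¹ • w = (e * τ * e) • w := by rw [eτ]
        _ = τ • w := by
          rw [mul_smul, mul_smul, linked_fix_e hB hC hC' he hg hh hne (w := w) (by rw [← hρ]; exact ha),
            linked_fix_e hB hC hC' he hg hh hne (w := τ • w) (by rw [← hρ]; exact h1)]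
    have h3 : τ • τ • w = w := by rw [← h2, smul_inv_smul]
    calc τ • w = τ • τ • τ • w := by rw [h3]
      _ = w := by rw [← mul_smul, ← mul_smul, ← pow_two, ← pow_succ, hτ3, one_smul]

/-- There is only one linked member. -/
theorem linked_unique (he : e ∈ C') {h : Q} (hg : Linked C e g) (hh : Linked C e h) : g = h := by
  by_contra hne
  have hgC := linked_mem hB hC hC' he hg
  have hhC := linked_mem hB hC hC' he hh
  have hnc := linked_noncommute hB hC hC' he hg hh hne
  have hee := hC'.invol e he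
  obtain ⟨d, hd, hde, hgd⟩ := hg
  have hg : Linked C e g := ⟨d, hd, hde, hgd⟩
  have base : ∀ h', Linked C e h' → g ≠ h' → ∀ w : A,
      (d * (e * d * e)) • w = w ↔ (g * h') • w = w := fun h' hh' hne' w => by
    have := plane_fix hB hC hC' he hd hde hh' (hgd ▸ hne') w
    rwa [← hgd] at this
  -- the fixed space of `g h` is fixed by every member moving `e`
  have hmove : ∀ d' ∈ C, ¬ Commute d' e → ∀ w : A, (g * h) • w = w → d' • w = w := by
    intro d' hd' hde' w hw
    have hτ : (d' * (e * d' * e)) • w = w := by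
      by_cases hgg : third d' e = g
      · rw [plane_fix hB hC hC' he hd' hde' hh (by rw [hgg]; exact hne), hgg]
        exact hw
      · rw [plane_fix hB hC hC' he hd' hde' hg hgg]
        have hg' : Linked C e (third d' e) := ⟨d', hd', hde', rfl⟩
        have h1 := (base _ hg' (Ne.symm hgg) w).1 ((base h hh hne w).2 hw)
        rw [← inv_eq hC hgC, ← inv_eq hC (linked_mem hB hC hC' he hg'), ← mul_inv_rev,
          inv_smul_eq_iff, h1]
    exact (fix_pair hB hC hd' (mem_flip hB hC hC' hd' he) (noncommute_flip hB hC hC' hd' he hde') hτ).1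
  have hW : ∀ w : A, (g * h) • w = w → w = 0 := by
    intro w hw
    refine hB.nofix w fun q => ?_
    obtain ⟨M, hM⟩ : ∃ M, M = {x ∈ C | ¬ Commute x e} := ⟨_, rfl⟩
    have hN : ∀ c ∈ C, c ∈ Subgroup.normalizer (Subgroup.closure M : Set Q) := by
      intro c hc
      by_cases hce : Commute c e
      · refine Subgroup.mem_normalizer_iff.2 fun x => ?_
        have hmap : ∀ {x}, x ∈ Subgroup.closure M → c * x * c⁻¹ ∈ Subgroup.closure M := fun {x} hx => by
          have : Subgroup.closure M ≤ (Subgroup.closure M).comap (MulAut.conj c).toMonoidHom := by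
            refine (Subgroup.closure_le _).2 fun y hy => ?_
            rw [hM] at hy
            refine Subgroup.subset_closure ?_
            show c * y * c⁻¹ ∈ M
            rw [hM]
            refine ⟨hC.conj c y hy.1, fun h' => hy.2 ?_⟩
            have hci := inv_eq hC hc
            have he' : c⁻¹ * e * c = e := by rw [mul_assoc, ← hce.eq, inv_mul_cancel_left]
            show y * e = e * y
            calc y * e = c⁻¹ * ((c * y * c⁻¹) * (c * e * c⁻¹)) * c := by group
              _ = c⁻¹ * ((c * y * c⁻¹) * e) * c := by rw [hce.eq, mul_inv_cancel_right]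
              _ = c⁻¹ * e * c * y := by rw [h'.eq]; group
              _ = e * y := by rw [he']
          exact this hx
        refine ⟨hmap, fun hx => ?_⟩
        have := hmap hx
        rwa [inv_eq hC hc, show c * (c * x * c) * c = (c * c) * x * (c * c) by group, hC.invol c hc,
          one_mul, mul_one] at this
      · exact Subgroup.le_normalizer (Subgroup.subset_closure (by rw [hM]; exact ⟨hc, hce⟩))
    have hnorm : (Subgroup.closure M).Normal := Subgroup.normalizer_eq_top_iff.1 (eq_top_iff.2 (by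
      rw [← hC.gen, Subgroup.closure_le]; exact hN))
    have htop : Subgroup.closure M = ⊤ := by
      rw [eq_top_iff, ← hC.gen, Subgroup.closure_le]
      intro x hx
      obtain ⟨c, rfl⟩ := isConj_iff.1 (hC.single d hd x hx)
      exact hnorm.conj_mem d (Subgroup.subset_closure (by rw [hM]; exact ⟨hd, hde⟩)) c
    have hle : Subgroup.closure M ≤ MulAction.stabilizer Q w := by
      rw [hM, Subgroup.closure_le]
      exact fun x hx => hmove x hx.1 hx.2 w hw
    rw [htop] at hle
    exact hle (Subgroup.mem_top q)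
  by_cases hperp : ∀ c ∈ C, Commute g c → c = g
  · -- no two members commute
    have hwid : ∀ x ∈ C, ∀ y ∈ C, Commute x y → x = y := by
      intro x hx y hy hxy
      obtain ⟨q, hq⟩ := isConj_iff.1 (hC.single x hx g hgC)
      have := hperp (q * y * q⁻¹) (hC.conj q y hy) (by
        rw [← hq]
        show _ = _
        calc q * x * q⁻¹ * (q * y * q⁻¹) = q * (x * y) * q⁻¹ := by group
          _ = q * (y * x) * q⁻¹ := by rw [hxy.eq]
          _ = _ := by group)
      rw [← hq] at this
      exact (mul_left_cancel (mul_right_cancel this)).symm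
    have heg := hC.width hwid g hgC e hee (hC'.ne_one e he) (linked_commute hB hC hC' he hg)
    exact hnc (heg ▸ linked_commute hB hC hC' he hh)
  push Not at hperp
  obtain ⟨c, hcC, hgc, hcg⟩ := hperp
  have hce := linked_perp hB hC hC' he hg hcC hgc
  have hci := inv_eq hC hcC
  have hhc : Commute h c := by
    by_contra hhc
    have h' := linked_conj hB hC hC' hh hce
    have h'' := linked_conj hB hC hC' h' (linked_commute hB hC hC' he hh).symm
    rw [hci, inv_eq hC hhC, ← mul_assoc h, ← mul_assoc h] at h''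
    have hb := braid hC hhC hcC hhc
    rw [show h * c * h * c * h = (h * c * h) * c * h by group, hb,
      show c * h * c * c * h = c * h * (c * c) * h by group, hC.invol c hcC, mul_one,
      mul_assoc, hC.invol h hhC, mul_one] at h''
    exact linked_noncommute hB hC hC' he hg h'' (Ne.symm hcg) hgc
  refine hC.ne_one c hcC (hB.faithful c fun a => ?_)
  have hρ3 := hC.cube g hgC h hhC hnc
  have hcfix : ∀ b : A, c • ((g * h) • b + b) = (g * h) • b + b := by
    intro b
    have he1 : (g * h) • b + b = (g • h • b + h • b) + (h • b + b) := by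
      rw [mul_smul]
      calc g • h • b + b = g • h • b + b + (h • b + h • b) := by rw [hB.two, add_zero]
        _ = _ := by abel
    rw [he1, smul_add, comm_fix hC hgC hcC hgc (add_self_mem g (h • b)),
      comm_fix hC hhC hcC hhc (add_self_mem h b)]
  have hS : S (g * h) a = 0 := hW _ (smul_S_self hρ3 a)
  have ha : a = (g * h) • ((g * h) • a) + (g * h) • a := by
    refine eq_of_add hB ?_
    simp only [S] at hS
    calc a + ((g * h) • (g * h) • a + (g * h) • a)
        = a + (g * h) • a + (g * h) • (g * h) • a := by abel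
      _ = 0 := hS
  rw [ha]
  exact hcfix _

/-- Every member of a second class lies in the first. -/
theorem mem_of_class (he : e ∈ C') : e ∈ C := by
  obtain ⟨d, hd, hde⟩ : ∃ d ∈ C, ¬ Commute d e := by
    by_contra h
    push Not at h
    refine hC'.ne_one e he (hB.central e (hC'.invol e he) fun q => ?_)
    have hle : Subgroup.closure C ≤ Subgroup.centralizer {e} := (Subgroup.closure_le _).2
      fun x hx => Subgroup.mem_centralizer_singleton_iff.2 (h x hx).eq
    rw [hC.gen] at hle
    exact (Subgroup.mem_centralizer_singleton_iff.1 (hle (Subgroup.mem_top q))).symm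
  obtain ⟨g, hgd⟩ : ∃ g, g = third d e := ⟨_, rfl⟩
  have hg : Linked C e g := ⟨d, hd, hde, hgd⟩
  have hgC := linked_mem hB hC hC' he hg
  have heg := linked_commute hB hC hC' he hg
  have hee := hC'.invol e he
  have ht : e * g = 1 := by
    refine hB.central _ ?_ fun q => ?_
    · rw [mul_assoc, ← mul_assoc g, ← heg.eq, mul_assoc e g g, hC.invol g hgC, mul_one, hee]
    have hle : Subgroup.closure C ≤ Subgroup.centralizer {e * g} := (Subgroup.closure_le _).2
      fun x hx => Subgroup.mem_centralizer_singleton_iff.2 (by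
        have key : g * x * g = e * x * e := by
          by_cases hxe : Commute x e
          · have h1 := linked_unique hB hC hC' he (linked_conj hB hC hC' hg hxe) hg
            have h2 : Commute x g := mul_inv_eq_iff_eq_mul.1 h1
            rw [← h2.eq, mul_assoc x g g, hC.invol g hgC, mul_one, ← hxe.eq, mul_assoc x e e, hee,
              mul_one]
          · have hgx := linked_unique hB hC hC' he hg ⟨x, hx, hxe, rfl⟩
            have hf := mem_flip hB hC hC' hx he
            have hb := braid hC hx hf (noncommute_flip hB hC hC' hx he hxe)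
            obtain ⟨f, hfd⟩ : ∃ f, f = e * x * e := ⟨_, rfl⟩
            rw [← hfd] at hb
            rw [hgx, third, ← hfd]
            calc x * f * x * x * (x * f * x) = x * f * (x * x) * (x * (f * x)) := by group
              _ = x * (f * x * f) * x := by rw [hC.invol x hx]; group
              _ = x * x * f * (x * x) := by rw [← hb]; group
              _ = f := by rw [hC.invol x hx, one_mul, mul_one]
        calc x * (e * g) = e * (e * x * e) * g := by
              rw [← mul_assoc, ← mul_assoc, ← mul_assoc, hee, one_mul]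
          _ = e * (g * x * g) * g := by rw [key]
          _ = e * g * x := by rw [← mul_assoc e, ← mul_assoc e, mul_assoc _ g g, hC.invol g hgC, mul_one])
    rw [hC.gen] at hle
    exact (Subgroup.mem_centralizer_singleton_iff.1 (hle (Subgroup.mem_top q))).symm
  rwa [show e = g from by rw [← inv_eq hC' he, inv_eq_of_mul_eq_one_right ht]]

theorem class_eq (he : e ∈ C') : C = C' := by
  refine Set.Subset.antisymm (fun x hx => ?_) fun x hx => mem_of_class hB hC hC' hx
  obtain ⟨q, rfl⟩ := isConj_iff.1 (hC.single e (mem_of_class hB hC hC' he) x hx)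
  exact hC'.conj q e he

end Two

/-! ### Rigidity inside the fibres -/

section Rigid

variable {v : Q → A} (hfix : ∀ d ∈ C, d • v d = v d)
  (hcomm : ∀ d ∈ C, ∀ x ∈ C, d ≠ x → Commute d x → x • v d = v d)
  (htri : ∀ d ∈ C, ∀ x ∈ C, ¬ Commute d x → S (d * x) (v d + v x) = 0)

theorem eq_of_coset {d x : Q} (hd : d ∈ C) (hx : x ∈ C) (h : ¬ Commute d x) {a b : A}
    (ha : x • a = a) (hb : x • b = b) (hab : a + b ∈ im A d) : a = b :=
  eq_of_add hB (eq_zero_of_fix hB hC hd hx h hab (by rw [smul_add, ha, hb]))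

theorem S_comm {d x : Q} (hd : d ∈ C) (hx : x ∈ C) (h : ¬ Commute d x) (a : A) :
    S (x * d) a = S (d * x) a := by
  have h3 := hC.cube d hd x hx h
  have hrev : x * d = (d * x) * (d * x) := by
    rw [pow_succ, pow_two] at h3
    rw [eq_inv_of_mul_eq_one_left h3, mul_inv_rev, inv_eq hC hx, inv_eq hC hd]
  have h4 : (d * x) • (d * x) • (d * x) • a = a := by
    rw [← mul_smul, ← mul_smul, ← pow_two, ← pow_succ, h3, one_smul]
  simp only [S, hrev, mul_smul (d * x) (d * x), h4]
  abel

include hfix in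
theorem pair_point {d x : Q} (hd : d ∈ C) (hx : x ∈ C) (h : ¬ Commute d x) :
    d • S (d * x) (v d) = S (d * x) (v d) ∧ x • S (d * x) (v d) = S (d * x) (v d) ∧
      S (d * x) (v d) + v d ∈ im A d := by
  obtain ⟨h1, h2⟩ := fix_pair hB hC hd hx h (smul_S_self (hC.cube d hd x hx h) (v d))
  refine ⟨h1, h2, ?_⟩
  obtain ⟨w, hw⟩ : ∃ w, w = S (d * x) (v d) := ⟨_, rfl⟩
  rw [← hw]
  rw [← hw] at h1
  have h3 : d • (w + v d) = w + v d := by rw [smul_add, h1, hfix d hd]
  have hwfix : (d * x) • w = w := hw ▸ smul_S_self (hC.cube d hd x hx h) (v d)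
  have h4 : S (d * x) (w + v d) = 0 := by
    rw [S_add, ← hw]
    simp only [S, hwfix, hB.two, zero_add]
  have h5 : (d * x) • (d * x) • (w + v d) = x • (w + v d) := by
    conv_rhs => rw [← h3]
    rw [← mul_smul, ← mul_smul]
    congr 1
    have h6 := hC.cube d hd x hx h
    rw [pow_succ, pow_two] at h6
    rw [eq_inv_of_mul_eq_one_left h6, mul_inv_rev, inv_eq hC hd, inv_eq hC hx]
  rw [mem_im]
  refine ⟨x • (w + v d), ?_⟩
  simp only [S, h5] at h4
  rw [mul_smul] at h4
  exact (eq_of_add hB (by rwa [← add_assoc])).symm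

include htri in
theorem S_eq {d x : Q} (hd : d ∈ C) (hx : x ∈ C) (h : ¬ Commute d x) :
    S (d * x) (v d) = S (d * x) (v x) := by
  have := htri d hd x hx h
  rw [S_add] at this
  exact eq_of_add hB this

include hfix htri in
theorem pair_other {d x : Q} (hd : d ∈ C) (hx : x ∈ C) (h : ¬ Commute d x) :
    S (d * x) (v d) + v x ∈ im A x := by
  have := (pair_point hB hC hfix hx hd (fun h' => h h'.symm)).2.2
  rwa [S_comm hB hC hd hx h, ← S_eq hB hC htri hd hx h] at this

include hfix hcomm in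
theorem coset_fix {d x : Q} (hd : d ∈ C) (hx : x ∈ C) (h : Commute d x) {a : A}
    (ha : a + v d ∈ im A d) : x • a = a := by
  have hv : x • v d = v d := by
    by_cases he : d = x
    · rw [← he, hfix d hd]
    · exact hcomm d hd x hx he h
  have := comm_fix hC hd hx h ha
  rw [smul_add, hv, add_right_cancel_iff] at this
  exact this

include hfix hcomm htri in
theorem equivariant (q : Q) : ∀ d ∈ C, q • v d + v (q * d * q⁻¹) ∈ im A (q * d * q⁻¹) := by
  have hq : q ∈ Subgroup.closure C := hC.gen ▸ Subgroup.mem_top q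
  induction hq using Subgroup.closure_induction with
  | mem x hx =>
    intro d hd
    rw [inv_eq hC hx]
    by_cases h : Commute d x
    · have hk : x * d * x = d := (commute_iff hC hx).1 h.symm
      rw [hk]
      by_cases he : d = x
      · rw [← he, hfix d hd, hB.two]
        exact zero_mem _
      · rw [hcomm d hd x hx he h, hB.two]
        exact zero_mem _
    · have hk : x * d * x ∈ C := conj_self hC hx hd
      have hkd : x * d * x = d * x * d := (braid hC hd hx h).symm
      have hdk : ¬ Commute d (x * d * x) := by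
        intro hc
        apply h
        have h1 := hc.eq
        rw [hkd, ← mul_assoc, ← mul_assoc, hC.invol d hd, one_mul, mul_assoc, mul_assoc,
          hC.invol d hd, mul_one] at h1
        exact h1.symm
      obtain ⟨-, hxw, hdw⟩ := pair_point hB hC hfix hd hx h
      have hkw := pair_other hB hC hfix htri hd hk hdk
      have hS : S (d * (x * d * x)) (v d) = S (d * x) (v d) := by
        rw [show d * (x * d * x) = x * d by
          rw [hkd, ← mul_assoc, ← mul_assoc, hC.invol d hd, one_mul]]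
        exact S_comm hB hC hd hx h _
      rw [hS] at hkw
      have h1 := smul_mem_im x hdw
      rw [inv_eq hC hx, smul_add, hxw] at h1
      have h2 := add_mem h1 hkw
      have e1 : S (d * x) (v d) + x • v d + (S (d * x) (v d) + v (x * d * x))
          = x • v d + v (x * d * x) := by
        rw [add_add_add_comm, hB.two, zero_add]
      rwa [e1] at h2
  | one =>
    intro d _
    simp [hB.two]
  | mul a b _ _ iha ihb =>
    intro d hd
    rw [show a * b * d * (a * b)⁻¹ = a * (b * d * b⁻¹) * a⁻¹ by group]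
    have h1 := smul_mem_im a (ihb d hd)
    have h2 := add_mem h1 (iha _ (hC.conj b d hd))
    have e1 : a • (b • v d + v (b * d * b⁻¹)) +
        (a • v (b * d * b⁻¹) + v (a * (b * d * b⁻¹) * a⁻¹)) =
        (a * b) • v d + v (a * (b * d * b⁻¹) * a⁻¹) := by
      rw [smul_add, mul_smul, add_assoc, ← add_assoc (a • v (b * d * b⁻¹)), hB.two, zero_add]
    rwa [e1] at h2
  | inv a _ iha =>
    intro d hd
    have hk : a⁻¹ * d * a⁻¹⁻¹ ∈ C := hC.conj a⁻¹ d hd
    have h1 := iha _ hk
    rw [show a * (a⁻¹ * d * a⁻¹⁻¹) * a⁻¹ = d by group] at h1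
    have h2 := smul_mem_im a⁻¹ h1
    rw [smul_add, inv_smul_smul, add_comm] at h2
    exact h2

include hfix hcomm htri in
/-- The point of a pair is fixed by every member. -/
theorem point_fix [Finite A] {d k x : Q} (hd : d ∈ C) (hk : k ∈ C) (h : ¬ Commute d k) (hx : x ∈ C) :
    x • S (d * k) (v d) = S (d * k) (v d) := by
  obtain ⟨hwd, hwk, hwv⟩ := pair_point hB hC hfix hd hk h
  have hwo := pair_other hB hC hfix htri hd hk h
  by_cases hdx : Commute d x
  · exact coset_fix hB hC hfix hcomm hd hx hdx hwv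
  by_cases hkx : Commute k x
  · exact coset_fix hB hC hfix hcomm hk hx hkx hwo
  obtain ⟨l, hl⟩ : ∃ l, l = d * k * d := ⟨_, rfl⟩
  have hlC : l ∈ C := hl ▸ conj_self hC hd hk
  by_cases hlx : Commute l x
  · have hdl : ¬ Commute d l := by
      intro hc
      apply h
      have h1 := hc.eq
      rw [hl, ← mul_assoc, ← mul_assoc, hC.invol d hd, one_mul, mul_assoc, mul_assoc,
        hC.invol d hd, mul_one] at h1
      exact h1.symm
    have hwl := pair_other hB hC hfix htri hd hlC hdl
    rw [show d * l = k * d by rw [hl, ← mul_assoc, ← mul_assoc, hC.invol d hd, one_mul],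
      S_comm hB hC hd hk h] at hwl
    exact coset_fix hB hC hfix hcomm hlC hx hlx hwl
  obtain ⟨w, hw⟩ : ∃ w, w = S (d * k) (v d) := ⟨_, rfl⟩
  obtain ⟨ρ, hρ⟩ : ∃ ρ, ρ = d * k := ⟨_, rfl⟩
  obtain ⟨τ, hτ⟩ : ∃ τ, τ = d * x := ⟨_, rfl⟩
  obtain ⟨hw2d, hw2x, hw2v⟩ := pair_point hB hC hfix hd hx hdx
  obtain ⟨w2, hw2⟩ : ∃ w2, w2 = S (d * x) (v d) := ⟨_, rfl⟩
  rw [← hw2] at hw2d hw2x hw2v
  rw [← hw] at hwd hwk hwv ⊢
  have hdi := inv_eq hC hd
  have hτ3 : τ ^ 3 = 1 := hτ ▸ hC.cube d hd x hx hdx
  have hρ3 : ρ ^ 3 = 1 := hρ ▸ hC.cube d hd k hk h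
  have hcube1 : (ρ * τ) ^ 3 = 1 := by
    rw [hρ, hτ, ← mul_assoc, ← hl]
    exact hC.cube l hlC x hx hlx
  have hcube2 : (ρ⁻¹ * τ) ^ 3 = 1 := by
    rw [hρ, hτ, mul_inv_rev, mul_assoc, ← mul_assoc d⁻¹, inv_mul_cancel, one_mul, inv_eq hC hk]
    exact hC.cube k hk x hx hkx
  have hcube3 : (ρ * τ⁻¹) ^ 3 = 1 := by
    calc (ρ * τ⁻¹) ^ 3 = τ * ((ρ⁻¹ * τ) ^ 3)⁻¹ * τ⁻¹ := by (simp only [pow_succ, pow_zero, one_mul]; group)
      _ = 1 := by rw [hcube2]; group
  have c1 : Commute ρ (τ⁻¹ * ρ * τ) := commute_conj_of_cube hτ3 hcube1 hcube3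
  have c2 : Commute τ (ρ⁻¹ * τ * ρ) := by
    refine commute_conj_of_cube hρ3 ?_ ?_
    · calc (τ * ρ) ^ 3 = ρ⁻¹ * (ρ * τ) ^ 3 * ρ := by (simp only [pow_succ, pow_zero, one_mul]; group)
        _ = 1 := by rw [hcube1]; group
    · calc (τ * ρ⁻¹) ^ 3 = ((ρ * τ⁻¹) ^ 3)⁻¹ := by (simp only [pow_succ, pow_zero, one_mul]; group)
        _ = 1 := by rw [hcube3, inv_one]
  obtain ⟨z, hz⟩ : ∃ z, z = ρ⁻¹ * τ⁻¹ * ρ * τ := ⟨_, rfl⟩
  have zρ : Commute z ρ := by
    rw [hz, show ρ⁻¹ * τ⁻¹ * ρ * τ = ρ⁻¹ * (τ⁻¹ * ρ * τ) by group]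
    exact (Commute.inv_left (Commute.refl ρ)).mul_left c1.symm
  have zτ : Commute z τ := by
    rw [hz, show ρ⁻¹ * τ⁻¹ * ρ * τ = (ρ⁻¹ * τ * ρ)⁻¹ * τ by group]
    exact c2.symm.inv_left.mul_left (Commute.refl τ)
  have zd : Commute z d := by
    have e1 : d * z * d = ρ * τ * ρ⁻¹ * τ⁻¹ := by
      have r1 : d * ρ⁻¹ * d = ρ := by
        rw [hρ, mul_inv_rev, inv_eq hC hk, hdi, mul_assoc, mul_assoc k, hC.invol d hd, mul_one]
      have r2 : d * τ⁻¹ * d = τ := by
        rw [hτ, mul_inv_rev, inv_eq hC hx, hdi, mul_assoc, mul_assoc x, hC.invol d hd, mul_one]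
      have r1' : d * ρ * d = ρ⁻¹ := by
        conv_rhs => rw [← r1]
        rw [mul_inv_rev, mul_inv_rev, inv_inv, hdi, mul_assoc]
      have r2' : d * τ * d = τ⁻¹ := by
        conv_rhs => rw [← r2]
        rw [mul_inv_rev, mul_inv_rev, inv_inv, hdi, mul_assoc]
      have step : d * (ρ⁻¹ * τ⁻¹ * ρ * τ) * d =
          (d * ρ⁻¹ * d) * (d * τ⁻¹ * d) * (d * ρ * d) * (d * τ * d) := by
        simp only [mul_assoc]
        simp only [← mul_assoc d d, hC.invol d hd, one_mul]
      rw [hz, step, r1, r2, r1', r2']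
    have e2 : ρ * τ * ρ⁻¹ * τ⁻¹ = z := by
      calc ρ * τ * ρ⁻¹ * τ⁻¹ = τ * ρ * (ρ⁻¹ * τ⁻¹ * ρ * τ) * ρ⁻¹ * τ⁻¹ := by group
        _ = τ * ρ * (z * ρ⁻¹) * τ⁻¹ := by rw [hz]; group
        _ = τ * z * τ⁻¹ := by rw [zρ.inv_right.eq, mul_assoc τ ρ, mul_inv_cancel_left]
        _ = z := by rw [← zτ.eq, mul_inv_cancel_right]
    exact ((commute_iff hC hd).2 (e1.trans e2)).symm
  have zk : Commute z k := by
    have : k = d * ρ := by rw [hρ, ← mul_assoc, hC.invol d hd, one_mul]
    rw [this]
    exact zd.mul_right zρ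
  have zx : Commute z x := by
    have : x = d * τ := by rw [hτ, ← mul_assoc, hC.invol d hd, one_mul]
    rw [this]
    exact zd.mul_right zτ
  -- `z` fixes both points
  have zfix : ∀ {y : Q} {a : A}, y ∈ C → ¬ Commute d y → Commute z y → y • a = a →
      a + v d ∈ im A d → z • a = a := by
    intro y a hy hdy hzy hya ha
    refine eq_of_coset hB hC hd hy hdy ?_ hya ?_
    · rw [← mul_smul, ← hzy.eq, mul_smul, hya]
    · have h1 := smul_mem_im z ha
      have h2 := equivariant hB hC hfix hcomm htri z d hd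
      have hzd : z * d * z⁻¹ = d := by rw [zd.eq, mul_inv_cancel_right]
      rw [hzd, smul_add] at h1
      rw [hzd] at h2
      have h3 := add_mem (add_mem h1 h2) ha
      have e1 : z • a + z • v d + (z • v d + v d) + (a + v d) = z • a + a := by
        calc _ = (z • a + a) + (z • v d + z • v d) + (v d + v d) := by abel
          _ = _ := by rw [hB.two, hB.two, add_zero, add_zero]
      rwa [e1] at h3
  have zw : z • w = w := zfix hk h zk hwk hwv
  have zw2 : z • w2 = w2 := zfix hx hdx zx hw2x hw2v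
  -- hence `k` fixes `w2`
  have hτw2 : τ • w2 = w2 := by rw [hτ, mul_smul, hw2x, hw2d]
  have hy : τ • ρ • w2 = ρ • w2 := by
    have : τ * ρ = ρ * τ * z⁻¹ := by rw [hz]; group
    rw [← mul_smul, this, mul_smul, inv_smul_eq_iff.2 zw2.symm, mul_smul, hτw2]
  have hkw2 : k • w2 = w2 := by
    refine fix_of_N hB ?_
    have hd' := (fix_pair hB hC hd hx hdx (hτ ▸ hy)).1
    have h2 : k • w2 = ρ • w2 := by
      rw [← hd', hρ, ← mul_smul d, ← mul_assoc, hC.invol d hd, one_mul]
    refine eq_zero_of_fix hB hC hk hd (fun h' => h h'.symm) (add_self_mem k w2) ?_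
    rw [smul_add, hw2d, h2, hd']
  have : w2 = w := by
    refine eq_of_coset hB hC hd hk h hkw2 hwk ?_
    have h3 := add_mem hw2v hwv
    rwa [add_add_add_comm, hB.two, add_zero] at h3
  rw [← this]
  exact hw2x

include hfix hcomm htri in
theorem rigid [Finite A] {d : Q} (hd : d ∈ C) : v d ∈ im A d := by
  obtain ⟨k, hk, h⟩ := exists_noncommute hB hC hd
  have h0 : S (d * k) (v d) = 0 := by
    refine hB.nofix _ fun q => ?_
    have hle : Subgroup.closure C ≤ MulAction.stabilizer Q (S (d * k) (v d)) :=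
      (Subgroup.closure_le _).2 fun x hx => point_fix hB hC hfix hcomm htri hd hk h hx
    rw [hC.gen] at hle
    exact hle (Subgroup.mem_top q)
  have := (pair_point hB hC hfix hd hk h).2.2
  rwa [h0, zero_add] at this

end Rigid

end Cfsg.Agent.Coprime.UTT.Uniq
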