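import Cfsg.Agent.Coprime.UTT.Radical

/-!
# Reflection elements of order three in `SU_5(2)`
-/

set_option autoImplicit false
set_option linter.unusedSectionVars false

namespace Cfsg.Agent.Coprime.UTT

open Cfsg Cfsg.Agent.Unitary

variable {F : Type*} [Field F] [Fintype F] {n : ℕ}

local notation "⟪" u ", " v "⟫" => hermForm n F 2 u v

theorem omega_ne_zero {w : F} (hw : w ^ 2 + w + 1 = 0) : w ≠ 0 := by
  rintro rfl
  simp at hw

theorem line_nondeg {c : Fin n → F} (hc : ⟪c, c⟫ = 1) :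
    Nondeg 2 (Submodule.span F ({c} : Set (Fin n → F))) := by
  intro u hu hu'
  obtain ⟨a, rfl⟩ := Submodule.mem_span_singleton.1 hu
  have := hu' c (Submodule.mem_span_singleton_self c)
  rw [herm_smul_left, hc, mul_one] at this
  rw [this, zero_smul]

theorem unit_ne_zero {c : Fin n → F} (hc : ⟪c, c⟫ = 1) : c ≠ 0 := by
  intro h
  rw [h, herm_zero_left] at hc
  exact zero_ne_one hc

section

variable (hF : Fintype.card F = 2 ^ 2)
include hF

theorem mem_perp_line {c x : Fin n → F} :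
    x ∈ perp 2 (Submodule.span F ({c} : Set (Fin n → F)) : Set (Fin n → F)) ↔ ⟪x, c⟫ = 0 := by
  rw [perp_span hF, mem_perp_singleton]

theorem unitPerp_nondeg {c : Fin n → F} (hc : ⟪c, c⟫ = 1) :
    Nondeg 2 (perp 2 ({c} : Set (Fin n → F))) := by
  have := nondeg_perp hF (line_nondeg hc)
  rwa [perp_span hF] at this

theorem unitPerp_finrank {c : Fin n → F} (hc : ⟪c, c⟫ = 1) :
    Module.finrank F ↥(perp 2 ({c} : Set (Fin n → F))) + 1 = n := by
  have := finrank_perp_add hF (line_nondeg hc)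
  rw [perp_span hF, finrank_span_singleton (unit_ne_zero hc)] at this
  omega

theorem decomp_unit {c : Fin n → F} (hc : ⟪c, c⟫ = 1) (x : Fin n → F) :
    ⟪x + ⟪x, c⟫ • c, c⟫ = 0 ∧ x = (x + ⟪x, c⟫ • c) + ⟪x, c⟫ • c :=
  ⟨by rw [herm_add_left, herm_smul_left, hc, mul_one, add_self_eq hF],
    by rw [add_assoc, vadd_self hF, add_zero]⟩

/-- In a non-degenerate subspace of dimension three a unit vector orthogonal to a given vector. -/
theorem exists_unit_perp {U : Submodule F (Fin n → F)} (hU : Nondeg 2 U)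
    (h3 : 3 ≤ Module.finrank F U) (x : Fin n → F) :
    ∃ e ∈ U, ⟪e, e⟫ = 1 ∧ ⟪e, x⟫ = 0 := by
  obtain ⟨w, hw⟩ := exists_omega hF
  have hw0 := omega_ne_zero hw
  obtain ⟨f, hf, hspan⟩ := exists_ON_basis hF U hU
  have hmem : ∀ i, f i ∈ U := fun i => hspan ▸ Submodule.subset_span ⟨i, rfl⟩
  obtain ⟨i₀, i₁, i₂, h01, h02, h12⟩ :
      ∃ i₀ i₁ i₂ : Fin (Module.finrank F U), i₀ ≠ i₁ ∧ i₀ ≠ i₂ ∧ i₁ ≠ i₂ :=
    ⟨⟨0, by omega⟩, ⟨1, by omega⟩, ⟨2, by omega⟩, by simp [Fin.ext_iff], by simp [Fin.ext_iff],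
      by simp [Fin.ext_iff]⟩
  have unit : ∀ i, ⟪f i, f i⟫ = 1 := fun i => by rw [hf, if_pos rfl]
  by_cases a0 : ⟪f i₀, x⟫ = 0
  · exact ⟨_, hmem i₀, unit i₀, a0⟩
  by_cases a1 : ⟪f i₁, x⟫ = 0
  · exact ⟨_, hmem i₁, unit i₁, a1⟩
  by_cases a2 : ⟪f i₂, x⟫ = 0
  · exact ⟨_, hmem i₂, unit i₂, a2⟩
  refine ⟨⟪f i₀, x⟫ ^ 2 • f i₀ + (w * ⟪f i₁, x⟫ ^ 2) • f i₁ + (w ^ 2 * ⟪f i₂, x⟫ ^ 2) • f i₂,
    U.add_mem (U.add_mem (U.smul_mem _ (hmem _)) (U.smul_mem _ (hmem _))) (U.smul_mem _ (hmem _)),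
    ?_, ?_⟩
  · have o : ∀ i j, i ≠ j → ⟪f i, f j⟫ = 0 := fun i j h => by rw [hf, if_neg h]
    simp only [herm_add_left, herm_add_right hF, herm_smul_left, herm_smul_right, unit, o _ _ h01,
      o _ _ h02, o _ _ h12, o _ _ h01.symm, o _ _ h02.symm, o _ _ h12.symm, mul_zero, add_zero,
      zero_add, mul_one]
    have n0 := mul_sq hF (pow_ne_zero 2 a0)
    have n1 := mul_sq hF (mul_ne_zero hw0 (pow_ne_zero 2 a1))
    have n2 := mul_sq hF (mul_ne_zero (pow_ne_zero 2 hw0) (pow_ne_zero 2 a2))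
    linear_combination n0 + n1 + n2 + two_eq hF
  · simp only [herm_add_left, herm_smul_left]
    have n0 := mul_sq hF a0
    have n1 := mul_sq hF a1
    have n2 := mul_sq hF a2
    linear_combination n0 + w * n1 + w ^ 2 * n2 + hw

/-- A unit vector orthogonal to a unit pair and to a further vector. -/
theorem exists_unit_three (hn : 5 ≤ n) {a b : Fin n → F} (ha : ⟪a, a⟫ = 1) (hb : ⟪b, b⟫ = 1)
    (hab : ⟪a, b⟫ = 0) (x : Fin n → F) :
    ∃ e, ⟪e, e⟫ = 1 ∧ ⟪e, a⟫ = 0 ∧ ⟪e, b⟫ = 0 ∧ ⟪e, x⟫ = 0 := by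
  have hP : Submodule.span F ({b} : Set (Fin n → F)) ≤ perp 2 ({a} : Set (Fin n → F)) :=
    (Submodule.span_singleton_le_iff_mem _ _).2
      (mem_perp_singleton.2 ((herm_eq_zero_symm hF).1 hab))
  have hd := inf_perp_finrank hF (line_nondeg hb) hP
  rw [finrank_span_singleton (unit_ne_zero hb)] at hd
  have := unitPerp_finrank hF ha
  obtain ⟨e, he, h1, h2⟩ := exists_unit_perp hF
    (inf_perp_nondeg hF (unitPerp_nondeg hF ha) (line_nondeg hb) hP) (by omega) x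
  exact ⟨e, h1, mem_perp_singleton.1 he.1, (mem_perp_line hF).1 he.2, h2⟩

/-- A unit vector orthogonal to a unit vector and a further one. -/
theorem exists_unit_two (hn : 5 ≤ n) {a : Fin n → F} (ha : ⟪a, a⟫ = 1) (x : Fin n → F) :
    ∃ e, ⟪e, e⟫ = 1 ∧ ⟪e, a⟫ = 0 ∧ ⟪e, x⟫ = 0 := by
  have := unitPerp_finrank hF ha
  obtain ⟨e, he, h1, h2⟩ := exists_unit_perp hF (unitPerp_nondeg hF ha) (by omega) x
  exact ⟨e, h1, mem_perp_singleton.1 he, h2⟩

theorem exists_unit (hn : 5 ≤ n) : ∃ c : Fin n → F, ⟪c, c⟫ = 1 := by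
  obtain ⟨e, -, he, -⟩ := exists_unit_perp hF (U := (⊤ : Submodule F (Fin n → F))) (nondeg_top hF)
    (by rw [finrank_top, Module.finrank_fin_fun]; omega) 0
  exact ⟨e, he⟩

end

/-- An element scaling an orthonormal basis acts by the coefficients. -/
theorem diag_apply (hF : Fintype.card F = 2 ^ 2) {ι : Type*} [Fintype ι] [DecidableEq ι]
    {f : ι → Fin n → F} (hf : ON 2 f) (hcard : Fintype.card ι = n) {a : SU n F 2} {ν : ι → F}
    (ha : ∀ i, ap a (f i) = ν i • f i) (x : Fin n → F) :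
    ap a x = ∑ i, (ν i * ⟪x, f i⟫) • f i ∧ x = ∑ i, ⟪x, f i⟫ • f i := by
  have htop : Submodule.span F (Set.range f) = ⊤ :=
    Submodule.eq_top_of_finrank_eq (by rw [hf.finrank_span, Module.finrank_fin_fun, hcard])
  have hx : x = ∑ i, ⟪x, f i⟫ • f i := (hf.proj_eq_self hF (htop ▸ Submodule.mem_top)).symm
  refine ⟨?_, hx⟩
  have hlin : ∀ s : Finset ι,
      ap a (∑ i ∈ s, ⟪x, f i⟫ • f i) = ∑ i ∈ s, (ν i * ⟪x, f i⟫) • f i := fun s => by
    induction s using Finset.induction_on with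
    | empty => simp [ap_zero]
    | insert i s hi ih =>
      rw [Finset.sum_insert hi, Finset.sum_insert hi, ap_add, ih, ap_smul, ha, smul_smul, mul_comm]
  conv_lhs => rw [hx]
  exact hlin _

/-- `a` is `w²` on `c` and `w` on its perp. -/
structure IsZeta (w : F) (c : Fin n → F) (a : SU n F 2) : Prop where
  on_c : ap a c = w ^ 2 • c
  on_perp : ∀ x, ⟪x, c⟫ = 0 → ap a x = w • x

section

variable (hF : Fintype.card F = 2 ^ 2) {w : F} {c : Fin n → F}
include hF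

theorem exists_zeta (hn : n = 5) (hw : w ^ 2 + w + 1 = 0) (hc : ⟪c, c⟫ = 1) :
    ∃ a : SU n F 2, IsZeta w c a := by
  classical
  have hw0 := omega_ne_zero hw
  have hd := unitPerp_finrank hF hc
  obtain ⟨g, hg, hspan⟩ := exists_ON_basis hF _ (unitPerp_nondeg hF hc)
  have hgc : ∀ i, ⟪g i, c⟫ = 0 := fun i =>
    mem_perp_singleton.1 (hspan ▸ Submodule.subset_span ⟨i, rfl⟩)
  have h1 : ON 2 (fun _ : Unit => c) := fun i j => by rw [if_pos (Subsingleton.elim i j)]; exact hc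
  have hfull : ON 2 (Sum.elim (fun _ : Unit => c) g) :=
    h1.sum_elim hg (fun _ j => (herm_eq_zero_symm hF).1 (hgc j)) fun j _ => hgc j
  let ν : Unit ⊕ Fin (Module.finrank F ↥(perp 2 ({c} : Set (Fin n → F)))) → F :=
    Sum.elim (fun _ => w ^ 2) fun _ => w
  have hνne : ∀ i, ν i ≠ 0 := by rintro (i | i) <;> simp [ν, hw0]
  have hcardg : Module.finrank F ↥(perp 2 ({c} : Set (Fin n → F))) = 4 := by omega
  have hprod : ∏ i, ν i = 1 := by
    rw [Fintype.prod_sum_type]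
    simp only [ν, Sum.elim_inl, Sum.elim_inr, Finset.prod_const, Finset.card_univ, Fintype.card_fin,
      Fintype.card_unit, hcardg, pow_one]
    linear_combination (w ^ 3 + 1) * pow_three hF hw0
  obtain ⟨a, ha⟩ := exists_diag hF hfull ν hνne hprod
  refine ⟨a, ha (Sum.inl ()), fun x hx => ?_⟩
  obtain ⟨h2, h3⟩ := diag_apply hF hfull (by simp; omega) ha x
  rw [h2]
  nth_rw 2 [h3]
  simp [Fintype.sum_sum_type, ν, hx, Finset.smul_sum, smul_smul]

theorem IsZeta.unique {a b : SU n F 2} (hc : ⟪c, c⟫ = 1) (ha : IsZeta w c a) (hb : IsZeta w c b) :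
    a = b := by
  refine ap_ext fun x => ?_
  obtain ⟨h1, h2⟩ := decomp_unit hF hc x
  generalize x + ⟪x, c⟫ • c = y at h1 h2
  generalize ⟪x, c⟫ = t at h2
  rw [h2, ap_add, ap_add, ap_smul, ap_smul, ha.on_c, hb.on_c, ha.on_perp _ h1, hb.on_perp _ h1]

theorem IsZeta.conj {a : SU n F 2} (ha : IsZeta w c a) (g : SU n F 2) :
    IsZeta w (ap g c) (g * a * g⁻¹) where
  on_c := by rw [ap_mul, ap_mul, ap_inv_ap, ha.on_c, ap_smul]
  on_perp x hx := by
    rw [ap_mul, ap_mul, ha.on_perp _ (by rw [← herm_ap g, ap_ap_inv]; exact hx), ap_smul, ap_ap_inv]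

theorem IsZeta.commute_tau {a : SU n F 2} (hw : w ^ 2 + w + 1 = 0) (ha : IsZeta w c a)
    {y : Fin n → F} (hy : Iso y) (hyc : ⟪y, c⟫ = 0) : Commute a (tau hF y) := by
  have h := tau_conj hF a hy
  rw [ha.on_perp y hyc, tau_smul hF hy (omega_ne_zero hw)] at h
  exact mul_inv_eq_iff_eq_mul.1 h

theorem IsZeta.commute {a b : SU n F 2} {d : Fin n → F} (hc : ⟪c, c⟫ = 1) (ha : IsZeta w c a)
    (hb : IsZeta w d b) (hcd : ⟪c, d⟫ = 0) : Commute a b := by
  have h := ha.conj hF b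
  rw [hb.on_perp c hcd] at h
  have h' : IsZeta w c (b * a * b⁻¹) := by
    have hw0 : w ≠ 0 := by
      intro hw0
      have := hb.on_perp c hcd
      rw [hw0, zero_smul] at this
      exact unit_ne_zero hc (ap_injective b (by rw [this, ap_zero]))
    constructor
    · have := h.on_c
      rw [ap_smul, smul_comm] at this
      exact smul_right_injective _ hw0 this
    · intro x hx
      exact h.on_perp x (by rw [herm_smul_right, hx, mul_zero])
  exact ((mul_inv_eq_iff_eq_mul).1 (h'.unique hF hc ha)).symm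

end

/-- `SU_n(2)` as a lift of itself. -/
noncomputable def idLift (hF : Fintype.card F = 2 ^ 2) : Lift (n := n) hF (SU n F 2) where
  π := MonoidHom.id _
  d := tau hF
  d_zero := ap_ext fun x => by rw [ap_tau hF (iso_zero hF), smul_zero, add_zero, ap_one]
  map_d _ _ := rfl
  mul_self _ hv := tau_mul_self hF hv
  smul _ hv _ ha := tau_smul hF hv ha
  conj g _ hv := tau_conj hF g hv
  line _ _ hu hv h hu0 hind w hw := tau_line hF ⟨hu, hv, h, hu0, hind⟩ hw
  ker_two g hg := ⟨0, by simpa using hg⟩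

end Cfsg.Agent.Coprime.UTT
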